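import Groth.Agent.CycLib.PushRat

/-! # Proper push forward preserves rational equivalence -/

set_option autoImplicit false
set_option backward.isDefEq.respectTransparency false
set_option linter.style.haveILetI false

universe u

open CategoryTheory AlgebraicGeometry TopologicalSpace

noncomputable section

namespace Groth.Agent.CycLib

variable {X Y : Scheme.{u}} (p : X ⟶ Y) {δX : X → ℤ} {δY : Y → ℤ} {k : ℤ}

theorem normGen_ne_zero (ξ : X) {f : X.residueField ξ} (hf : f ≠ 0) : Cyc.normGen p ξ f ≠ 0 := by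
  letI := (p.residueFieldMap ξ).hom.toAlgebra
  exact ((Ne.isUnit hf).map (Algebra.norm (Y.residueField (p ξ)))).ne_zero

/-- The push forward on a finite window. -/
theorem map_apply_eq_sum [QuasiCompact p] (α : AlgebraicCycle X ℤ) (y : Y) (s : Finset X)
    (hs : ∀ x, p x = y → α x ≠ 0 → x ∈ s) :
    AlgebraicCycle.map p δX δY α y =
      ∑ x ∈ s, (p ⁻¹' {y}).indicator (fun x => α x * (AlgebraicCycle.mapCoeff p δX δY x : ℤ)) x := by
  rw [AlgebraicCycle.map, Function.locallyFinsupp.map_apply, finsum_mem_def]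
  refine finsum_eq_sum_of_support_subset _ fun x hx => ?_
  rw [Function.mem_support, Set.indicator_apply_ne_zero] at hx
  exact hs x hx.1 (left_ne_zero_of_mul hx.2)

theorem finite_window [QuasiCompact p] (α : AlgebraicCycle X ℤ) (y : Y) :
    ({x | p x = y} ∩ Function.support ⇑α).Finite := by
  obtain ⟨V, hV, hy⟩ := exists_affine y
  exact (α.locallyFiniteSupport.finite_inter_support_of_isCompact
    (p.isSpectralMap.2 V.isOpen hV.isCompact)).subset fun x ⟨hx, hs⟩ => ⟨show p x ∈ V by rw [show p x = y from hx]; exact hy, hs⟩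

theorem map_sub_apply [QuasiCompact p] (α β : AlgebraicCycle X ℤ) (y : Y) :
    AlgebraicCycle.map p δX δY (α - β) y =
      AlgebraicCycle.map p δX δY α y - AlgebraicCycle.map p δX δY β y := by
  classical
  let s := (finite_window p α y).toFinset ∪ (finite_window p β y).toFinset
  have h1 : ∀ x, p x = y → α x ≠ 0 → x ∈ s := fun x hx h =>
    Finset.mem_union_left _ ((finite_window p α y).mem_toFinset.2 ⟨hx, h⟩)
  have h2 : ∀ x, p x = y → β x ≠ 0 → x ∈ s := fun x hx h =>
    Finset.mem_union_right _ ((finite_window p β y).mem_toFinset.2 ⟨hx, h⟩)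
  have h3 : ∀ x, p x = y → (α - β) x ≠ 0 → x ∈ s := fun x hx h => by
    by_cases ha : α x = 0
    · refine h2 x hx fun hb => h ?_
      show α x - β x = 0
      rw [ha, hb, sub_zero]
    · exact h1 x hx ha
  rw [map_apply_eq_sum p _ y s h1, map_apply_eq_sum p _ y s h2, map_apply_eq_sum p _ y s h3, ← Finset.sum_sub_distrib]
  refine Finset.sum_congr rfl fun x _ => ?_
  by_cases hx : x ∈ p ⁻¹' {y}
  · rw [Set.indicator_of_mem hx, Set.indicator_of_mem hx, Set.indicator_of_mem hx]
    exact sub_mul (α x) (β x) _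
  · rw [Set.indicator_of_notMem hx, Set.indicator_of_notMem hx, Set.indicator_of_notMem hx, sub_zero]

variable [IsProper p] (hX : Cyc.IsSetup X δX) (hY : Cyc.IsSetup Y δY) (hδ : Cyc.DeltaCompat p δX δY)

include hX hY hδ

/-- Proper push forward of a cycle rationally equivalent to zero. -/
theorem ratEquivZero_map {α : AlgebraicCycle X ℤ} (h : Cyc.RatEquivZero δX k α) :
    Cyc.RatEquivZero δY k (AlgebraicCycle.map p δX δY α) := by
  classical
  haveI := hX.1
  obtain ⟨F, hF⟩ := (ratEquivZero_iff _).1 h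
  have hfin : ∀ V : Y.Opens, IsCompact (V : Set Y) → {j | p (F.ξ j) ∈ V}.Finite := fun V hV =>
    F.finite_mem (U := p ⁻¹ᵁ V) (p.isSpectralMap.2 V.isOpen hV)
  refine (ratEquivZero_iff _).2 ⟨⟨{j // δX (F.ξ j) = δY (p (F.ξ j))}, fun j => p (F.ξ j.1),
    fun j => Cyc.normGen p (F.ξ j.1) (F.f j.1), fun j => by rw [← j.2, F.hξ], fun j => normGen_ne_zero p _ (F.hf _),
    fun y => ?_⟩, fun y => ?_⟩
  · obtain ⟨V, hV, hy⟩ := exists_affine y
    refine ⟨V, V.2, hy, ((hfin V hV.isCompact).preimage Subtype.val_injective.injOn).subset fun j ⟨z, hz, hzV⟩ => ?_⟩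
    exact (specializes_iff_mem_closure.2 hz).mem_open V.2 hzV
  obtain ⟨V, hV, hy⟩ := exists_affine y
  let J := (hfin V hV.isCompact).toFinset
  have hJ : ∀ j x, p x = y → Cyc.divFun δX (F.ξ j) (F.f j) x ≠ 0 → j ∈ J := fun j x hx hne => by
    refine (hfin V hV.isCompact).mem_toFinset.2 ?_
    exact ((specializes_of_divFun_ne_zero hne).1.map p.continuous).mem_open V.2 (by rw [hx]; exact hy)
  let c : F.ι → AlgebraicCycle X ℤ := fun j => (Fam.single (F.hξ j) (F.hf j)).cycle hX.2.2
  have hc : ∀ j x, c j x = Cyc.divFun δX (F.ξ j) (F.f j) x := fun j x =>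
    finsum_unique fun _ : PUnit => Cyc.divFun δX (F.ξ j) (F.f j) x
  let s := J.biUnion fun j => (finite_window p (c j) y).toFinset
  have hs : ∀ j ∈ J, ∀ x, p x = y → c j x ≠ 0 → x ∈ s := fun j hj x hx h =>
    Finset.mem_biUnion.2 ⟨j, hj, (finite_window p (c j) y).mem_toFinset.2 ⟨hx, h⟩⟩
  have hα : ∀ x, p x = y → α x = ∑ j ∈ J, c j x := fun x hx => by
    rw [hF, finsum_eq_sum_of_support_subset _ (s := J) fun j hj => hJ j x hx hj]
    simp only [hc]
  have hsα : ∀ x, p x = y → α x ≠ 0 → x ∈ s := fun x hx h => by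
    rw [hα x hx] at h
    obtain ⟨j, hj, hne⟩ := Finset.exists_ne_zero_of_sum_ne_zero h
    exact hs j hj x hx hne
  rw [map_apply_eq_sum p α y s hsα]
  have e1 : ∀ x ∈ s, (p ⁻¹' {y}).indicator (fun x => α x * (AlgebraicCycle.mapCoeff p δX δY x : ℤ)) x =
      ∑ j ∈ J, (p ⁻¹' {y}).indicator (fun x => c j x * (AlgebraicCycle.mapCoeff p δX δY x : ℤ)) x := fun x _ => by
    by_cases hx : x ∈ p ⁻¹' {y}
    · simp only [Set.indicator_of_mem hx]
      rw [hα x hx, Finset.sum_mul]
    · simp only [Set.indicator_of_notMem hx, Finset.sum_const_zero]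
  rw [Finset.sum_congr rfl e1, Finset.sum_comm]
  have e2 : ∀ j ∈ J, ∑ x ∈ s, (p ⁻¹' {y}).indicator (fun x => c j x * (AlgebraicCycle.mapCoeff p δX δY x : ℤ)) x =
      if δX (F.ξ j) = δY (p (F.ξ j)) then Cyc.divFun δY (p (F.ξ j)) (Cyc.normGen p (F.ξ j) (F.f j)) y else 0 :=
    fun j hj => by
      rw [← map_apply_eq_sum p (c j) y s (hs j hj), AlgebraicCycle.map, Function.locallyFinsupp.map_apply,
        finsum_mem_congr rfl (fun x _ => by rw [hc]), sum_divFun p hX hY hδ _ _ (F.hf j) y]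
  rw [Finset.sum_congr rfl e2, ← Finset.sum_filter]
  rw [finsum_eq_sum_of_support_subset _ (s := J.subtype fun j => δX (F.ξ j) = δY (p (F.ξ j))), Finset.sum_subtype_eq_sum_filter
    (fun j => Cyc.divFun δY (p (F.ξ j)) (Cyc.normGen p (F.ξ j) (F.f j)) y)]
  intro j hj
  refine Finset.mem_coe.2 (Finset.mem_subtype.2 ((hfin V hV.isCompact).mem_toFinset.2 ?_))
  exact (specializes_of_divFun_ne_zero hj).1.mem_open V.2 hy

/-- Proper push forward preserves rational equivalence. -/
theorem ratEquiv_map {α β : AlgebraicCycle X ℤ} (h : Cyc.RatEquiv δX k α β) :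
    Cyc.RatEquiv δY k (AlgebraicCycle.map p δX δY α) (AlgebraicCycle.map p δX δY β) := by
  have h' := ratEquivZero_map p hX hY hδ h
  unfold Cyc.RatEquiv
  convert h' using 1
  ext y
  exact (map_sub_apply p α β y).symm

end Groth.Agent.CycLib
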