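import Groth.Agent.CycLib.Div
import Groth.Agent.S1861
import Groth.Agent.InjHullLib.BaseChange
import Groth.Agent.FlatDim.Trdeg
import Groth.Agent.AssLib.Noetherian
import Groth.Agent.PullbackMod.Props

/-! # Flat pullback of cycles along maps with a shift of dimension functions -/

set_option autoImplicit false
set_option backward.isDefEq.respectTransparency false
set_option linter.style.haveILetI false

universe u

open CategoryTheory AlgebraicGeometry TopologicalSpace TensorProduct

noncomputable section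

namespace Groth.Agent.CycLib

variable {X Y Z : Scheme.{u}} (p : X ⟶ Y)

/-- A point with no proper generalization in its fibre. -/
def MaxFib (x : X) : Prop := ∀ w : X, p w = p x → w ⤳ x → w = x

/-- The dimension functions differ by `c` at the generic points of the fibre components. -/
def IsShift (δX : X → ℤ) (δY : Y → ℤ) (c : ℤ) : Prop := ∀ x : X, MaxFib p x → δX x = δY (p x) + c

/-- The ideal of the fibre in the local ring. -/
abbrev fibIdeal (x : X) : Ideal (X.presheaf.stalk x) :=
  (IsLocalRing.maximalIdeal (Y.presheaf.stalk (p x))).map (p.stalkMap x).hom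

theorem fromSpecStalk_specializes_iff {x : X} (P Q : PrimeSpectrum (X.presheaf.stalk x)) :
    X.fromSpecStalk x P ⤳ X.fromSpecStalk x Q ↔ P ≤ Q :=
  (X.fromSpecStalk x).isEmbedding.isInducing.specializes_iff.trans (PrimeSpectrum.le_iff_specializes P Q).symm

theorem exists_fromSpecStalk {x w : X} (h : w ⤳ x) : ∃ P : PrimeSpectrum (X.presheaf.stalk x), X.fromSpecStalk x P = w := by
  show w ∈ Set.range (X.fromSpecStalk x)
  rwa [Scheme.range_fromSpecStalk]

theorem apply_fromSpecStalk_eq_iff {x : X} (P : PrimeSpectrum (X.presheaf.stalk x)) :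
    p (X.fromSpecStalk x P) = p x ↔ fibIdeal p x ≤ P.asIdeal := by
  have e : p (X.fromSpecStalk x P) = Y.fromSpecStalk (p x) (PrimeSpectrum.comap (p.stalkMap x).hom P) := by
    have := congrArg (fun φ : Spec (X.presheaf.stalk x) ⟶ Y => φ P)
      (Scheme.SpecMap_stalkMap_fromSpecStalk (f := p) (x := x))
    exact this.symm
  rw [e, Ideal.map_le_iff_le_comap]
  constructor
  · intro h
    have := (Y.fromSpecStalk (p x)).isEmbedding.injective (h.trans Scheme.fromSpecStalk_closedPoint.symm)
    exact (congrArg PrimeSpectrum.asIdeal this).ge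
  · intro h
    rw [show PrimeSpectrum.comap (p.stalkMap x).hom P = IsLocalRing.closedPoint _ from
      PrimeSpectrum.ext (((IsLocalRing.maximalIdeal.isMaximal _).eq_of_le
        (P.2.comap (p.stalkMap x).hom).ne_top h).symm)]
    exact Scheme.fromSpecStalk_closedPoint

theorem fibIdeal_le (x : X) : fibIdeal p x ≤ IsLocalRing.maximalIdeal (X.presheaf.stalk x) :=
  (apply_fromSpecStalk_eq_iff p (IsLocalRing.closedPoint _)).1 (congrArg p Scheme.fromSpecStalk_closedPoint)

/-- Every point generalizes to a generic point of a component of its fibre. -/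
theorem exists_maxFib (x : X) : ∃ w : X, w ⤳ x ∧ p w = p x ∧ MaxFib p w := by
  obtain ⟨P, hP, -⟩ := Ideal.exists_minimalPrimes_le (fibIdeal_le p x)
  let P' : PrimeSpectrum (X.presheaf.stalk x) := ⟨P, hP.1.1⟩
  have hPx : X.fromSpecStalk x P' ⤳ x := by
    have := (fromSpecStalk_specializes_iff P' (IsLocalRing.closedPoint _)).2
      (IsLocalRing.le_maximalIdeal hP.1.1.ne_top)
    rwa [Scheme.fromSpecStalk_closedPoint] at this
  have hPeq : p (X.fromSpecStalk x P') = p x := (apply_fromSpecStalk_eq_iff p P').2 hP.1.2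
  refine ⟨_, hPx, hPeq, fun w hw hwP => ?_⟩
  obtain ⟨Q, rfl⟩ := exists_fromSpecStalk (hwP.trans hPx)
  rw [hPeq, apply_fromSpecStalk_eq_iff] at hw
  rw [fromSpecStalk_specializes_iff] at hwP
  rw [show Q = P' from le_antisymm hwP (hP.2 ⟨Q.2, hw⟩ hwP)]

/-- The fibre ring at a generic point of a fibre component has finite length. -/
theorem isFiniteLength_fib [IsLocallyNoetherian X] {x : X} (hx : MaxFib p x) :
    IsFiniteLength (X.presheaf.stalk x) (X.presheaf.stalk x ⧸ fibIdeal p x) := by
  have hrad : IsLocalRing.maximalIdeal (X.presheaf.stalk x) ≤ (fibIdeal p x).radical := by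
    rw [Ideal.radical_eq_sInf]
    refine le_sInf fun Q ⟨hQ, hQp⟩ => ?_
    let Q' : PrimeSpectrum (X.presheaf.stalk x) := ⟨Q, hQp⟩
    have h1 : X.fromSpecStalk x Q' = x := by
      refine hx _ ((apply_fromSpecStalk_eq_iff p Q').2 hQ) ?_
      have := (fromSpecStalk_specializes_iff Q' (IsLocalRing.closedPoint _)).2
        (IsLocalRing.le_maximalIdeal hQp.ne_top)
      rwa [Scheme.fromSpecStalk_closedPoint] at this
    exact (congrArg PrimeSpectrum.asIdeal ((X.fromSpecStalk x).isEmbedding.injective
      (h1.trans Scheme.fromSpecStalk_closedPoint.symm) : Q' = IsLocalRing.closedPoint _)).ge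
  obtain ⟨n, hn⟩ := Ideal.exists_pow_le_of_le_radical_of_fg hrad (IsNoetherian.noetherian _)
  exact InjHullLib.isFiniteLength_quot hn

variable {p}
variable {δX : X → ℤ} {δY : Y → ℤ} {δZ : Z → ℤ} {c : ℤ}

theorem IsShift.le (hs : IsShift p δX δY c) (hδ : Cyc.IsDimFun X δX) (x : X) : δX x ≤ δY (p x) + c := by
  obtain ⟨w, hw, hwx, hmax⟩ := exists_maxFib p x
  have := delta_le hδ hw
  rw [hs w hmax, hwx] at this
  exact this

theorem IsShift.maxFib_of_eq (hs : IsShift p δX δY c) (hδ : Cyc.IsDimFun X δX) {x : X}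
    (h : δX x = δY (p x) + c) : MaxFib p x := by
  intro w hw hwx
  by_contra hne
  have h1 := (hδ w x hwx hne).1
  have h2 := hs.le hδ w
  rw [hw] at h2
  omega

theorem IsShift.comp {q : Z ⟶ X} [Flat q] {c' : ℤ} (hs : IsShift p δX δY c) (hs' : IsShift q δZ δX c') :
    IsShift (q ≫ p) δZ δY (c + c') := by
  intro z hz
  have h1 : MaxFib q z := fun w hw hwz => hz w (by rw [Scheme.Hom.comp_apply, Scheme.Hom.comp_apply, hw]) hwz
  have h2 : MaxFib p (q z) := fun w hw hwx => by
    obtain ⟨w', hw', hw'q⟩ := Flat.generalizingMap (f := q) hwx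
    rw [← hw'q, hz w' (by rw [Scheme.Hom.comp_apply, Scheme.Hom.comp_apply, hw'q, hw]) hw']
  rw [hs' z h1, hs (q z) h2, Scheme.Hom.comp_apply]
  ring

/-- Lengths of fibre rings multiply in a composition. -/
theorem length_fib_comp [IsLocallyNoetherian X] {q : Z ⟶ X} [Flat q] (z : Z) (h : MaxFib p (q z)) :
    Module.length (Z.presheaf.stalk z) (Z.presheaf.stalk z ⧸ fibIdeal (q ≫ p) z) =
      Module.length (X.presheaf.stalk (q z)) (X.presheaf.stalk (q z) ⧸ fibIdeal p (q z)) *
        Module.length (Z.presheaf.stalk z) (Z.presheaf.stalk z ⧸ fibIdeal q z) := by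
  letI := (q.stalkMap z).hom.toAlgebra
  haveI : Module.Flat (X.presheaf.stalk (q z)) (Z.presheaf.stalk z) := Flat.stalkMap q z
  have h1 := InjHullLib.length_baseChange (Z.presheaf.stalk z) (isFiniteLength_fib p h)
  rw [← (Algebra.TensorProduct.quotIdealMapEquivTensorQuot (Z.presheaf.stalk z)
    (fibIdeal p (q z))).toLinearEquiv.length_eq, RingHom.algebraMap_toAlgebra] at h1
  rw [← h1]
  have e : fibIdeal (q ≫ p) z = (fibIdeal p (q z)).map (q.stalkMap z).hom := by
    unfold fibIdeal
    rw [Scheme.Hom.stalkMap_comp, CommRingCat.hom_comp, ← Ideal.map_map]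
    rfl
  rw [e]

theorem pullFun_apply (r : ℤ) (α : Y → ℤ) (x : X) : Cyc.pullFun p δX δY r α x =
    if δX x = δY (p x) + r then
      α (p x) * ((Module.length (X.presheaf.stalk x) (X.presheaf.stalk x ⧸ fibIdeal p x)).toNat : ℤ)
    else 0 := rfl

/-- Flat pullback of cycles is functorial. -/
theorem pullFun_comp [IsLocallyNoetherian X] {q : Z ⟶ X} [Flat q] {c' : ℤ} (hs : IsShift p δX δY c)
    (hs' : IsShift q δZ δX c') (hδX : Cyc.IsDimFun X δX) (hδZ : Cyc.IsDimFun Z δZ) (α : Y → ℤ) :
    Cyc.pullFun (q ≫ p) δZ δY (c + c') α = Cyc.pullFun q δZ δX c' (Cyc.pullFun p δX δY c α) := by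
  funext z
  have l1 := hs'.le hδZ z
  have l2 := hs.le hδX (q z)
  rw [pullFun_apply, pullFun_apply, pullFun_apply]
  by_cases h : δZ z = δY (p (q z)) + (c + c')
  · have e1 : δZ z = δX (q z) + c' := by omega
    have e2 : δX (q z) = δY (p (q z)) + c := by omega
    rw [if_pos (show δZ z = δY ((q ≫ p) z) + (c + c') from h), if_pos e1, if_pos e2,
      length_fib_comp z (hs.maxFib_of_eq hδX e2), ENat.toNat_mul, Scheme.Hom.comp_apply]
    push_cast
    ring
  · rw [if_neg (show ¬ δZ z = δY ((q ≫ p) z) + (c + c') from h)]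
    by_cases e1 : δZ z = δX (q z) + c'
    · rw [if_pos e1, if_neg (fun e2 => h (by omega)), zero_mul]
    · rw [if_neg e1]

/-- Flat pullback commutes with the cycle of a coherent sheaf. -/
theorem sheafFun_pullback [IsLocallyNoetherian X] [IsLocallyNoetherian Y] [Flat p] (hs : IsShift p δX δY c)
    (hδX : Cyc.IsDimFun X δX) (hδY : Cyc.IsDimFun Y δY) {k : ℤ} {F : Y.Modules} (hF : Coh.IsCoh F)
    (hdim : ∀ y : Y, Nontrivial (F.presheaf.stalk y) → δY y ≤ k) :
    (∀ x : X, Nontrivial (((Scheme.Modules.pullback p).obj F).presheaf.stalk x) → δX x ≤ k + c) ∧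
      Cyc.pullFun p δX δY c (Cyc.sheafFun δY k F) =
        Cyc.sheafFun δX (k + c) ((Scheme.Modules.pullback p).obj F) := by
  haveI := hF.1
  have hzero : ∀ x : X, ¬ Nontrivial (F.presheaf.stalk (p x)) →
      ¬ Nontrivial (((Scheme.Modules.pullback p).obj F).presheaf.stalk x) := fun x h => by
    rw [not_nontrivial_iff_subsingleton] at h ⊢
    letI := (p.stalkMap x).hom.toAlgebra
    obtain ⟨φ, -⟩ := PullbackMod.exists_pullback_stalk_equiv p F x
    exact φ.symm.toEquiv.subsingleton
  refine ⟨fun x hx => ?_, funext fun x => ?_⟩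
  · have h1 : Nontrivial (F.presheaf.stalk (p x)) := by
      by_contra hc
      exact hzero x hc hx
    have := hdim _ h1
    have := hs.le hδX x
    omega
  · rw [pullFun_apply]
    letI := (p.stalkMap x).hom.toAlgebra
    haveI : Module.Flat (Y.presheaf.stalk (p x)) (X.presheaf.stalk x) := Flat.stalkMap p x
    obtain ⟨φ, -⟩ := PullbackMod.exists_pullback_stalk_equiv p F x
    by_cases hn : Nontrivial (F.presheaf.stalk (p x))
    swap
    · haveI := not_nontrivial_iff_subsingleton.1 hn
      haveI := not_nontrivial_iff_subsingleton.1 (hzero x hn)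
      simp [Cyc.sheafFun, Module.length_eq_zero]
    have hk := hdim _ hn
    have hle := hs.le hδX x
    unfold Cyc.sheafFun
    by_cases hxk : δX x = k + c
    · have e2 : δY (p x) = k := by omega
      have e1 : δX x = δY (p x) + c := by omega
      have hfl : IsFiniteLength (Y.presheaf.stalk (p x)) (F.presheaf.stalk (p x)) :=
        (AssLib.isFiniteLength_iff_minimal hF).2 fun y hy hyx => by
          by_contra hne
          have h1 := (hδY y (p x) hyx hne).1
          have h2 := hdim y (AssLib.nontrivial_of_isAssPoint hy)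
          omega
      rw [if_pos e1, if_pos e2, if_pos hxk, ← φ.length_eq, InjHullLib.length_baseChange _ hfl, ENat.toNat_mul]
      push_cast
      rfl
    · rw [if_neg hxk]
      by_cases e1 : δX x = δY (p x) + c
      · rw [if_pos e1, if_neg (fun e => hxk (by omega)), zero_mul]
      · rw [if_neg e1]

/-- Flat maps of given relative dimension shift dimension functions. -/
theorem IsShift.of_relDim [Flat p] [LocallyOfFiniteType p] (hX : Cyc.IsSetup X δX) (hY : Cyc.IsSetup Y δY)
    (r : ℕ) (hr : Cyc.HasRelDim p r) (hc : Cyc.DeltaCompat p δX δY) : IsShift p δX δY r := by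
  intro x hx
  refine (S1861.result X Y δX δY hX hY p r hr hc (p x) x (subset_closure rfl) fun x' h hx' => ?_).2
  exact hx x' (((hx'.map p.continuous).antisymm (specializes_iff_mem_closure.2 h)).eq) hx'

/-- A shift recorded by residual transcendence degrees is the relative dimension. -/
theorem hasRelDim_of_isShift [LocallyOfFiniteType p] [IsLocallyNoetherian Y] {r : ℕ}
    (hs : IsShift p δX δY r) (hc : Cyc.DeltaCompat p δX δY) : Cyc.HasRelDim p r := by
  intro y T hT
  obtain ⟨w, rfl, hw⟩ := DimFormulaLib.exists_generic_of_mem_irreducibleComponents hT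
  have hpw : p (p.fiberι y w) = y := by
    have : p.fiberι y w ∈ p ⁻¹' {y} := by rw [← Scheme.Hom.range_fiberι]; exact ⟨w, rfl⟩
    exact this
  have hmax : MaxFib p (p.fiberι y w) := fun v hv hvw => by
    obtain ⟨v', rfl⟩ : v ∈ Set.range (p.fiberι y) := by
      rw [Scheme.Hom.range_fiberι]
      exact hv.trans hpw
    rw [hw v' ((p.fiberι y).isEmbedding.isInducing.specializes_iff.1 hvw)]
  obtain ⟨n, hn, hδ⟩ := hc (p.fiberι y w)
  have h1 := hs _ hmax
  have hnr : n = r := by omega
  subst hnr
  rw [DimFormulaLib.topologicalKrullDim_closure_singleton,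
    DimFormulaLib.height_in_fibre p y w n hn]
  rfl

theorem deltaCompat_comp {q : Z ⟶ X} (hp : Cyc.DeltaCompat p δX δY) (hq : Cyc.DeltaCompat q δZ δX) :
    Cyc.DeltaCompat (q ≫ p) δZ δY := by
  intro z
  obtain ⟨n, hn, e⟩ := hq z
  obtain ⟨m, hm, e'⟩ := hp (q z)
  refine ⟨m + n, ?_, by rw [Scheme.Hom.comp_apply]; push_cast; omega⟩
  have := FlatDim.resTrdegAt_comp q p z
  rw [show DimFormulaLib.resTrdegAt p (q z) = m from hm, show DimFormulaLib.resTrdegAt q z = n from hn] at this
  exact this.trans (Nat.cast_add m n).symm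

end Groth.Agent.CycLib
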