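import Groth.Agent.CatSpaceLib.Scheme
import Groth.Agent.CycLib.Shift
import Groth.Agent.S9684

/-! # Setups pass to schemes locally of finite type -/

set_option autoImplicit false
set_option linter.style.haveILetI false

universe u

open CategoryTheory AlgebraicGeometry

namespace Groth.Agent.CycLib

theorem isSetup_of_lft {X Y : Scheme.{u}} (f : X ⟶ Y) [LocallyOfFiniteType f] {δX : X → ℤ} {δY : Y → ℤ}
    (hY : Cyc.IsSetup Y δY) (hδ : Cyc.DeltaCompat f δX δY) : Cyc.IsSetup X δX := by
  haveI := hY.1
  haveI := LocallyOfFiniteType.isLocallyNoetherian f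
  refine ⟨inferInstance, (CatSpaceLib.forall_isCatenarySpace_iff X).1 fun W g hg => ?_,
    S9684.result f δY hY δX hδ⟩
  haveI := hg
  exact (CatSpaceLib.forall_isCatenarySpace_iff Y).2 hY.2.1 W (g ≫ f) inferInstance

end Groth.Agent.CycLib
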