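import Groth.Agent.CycLib.C1Pull
import Groth.Agent.WeilCohLib.Geom

/-! # Cycles on closed subschemes -/

set_option autoImplicit false
set_option backward.isDefEq.respectTransparency false
set_option linter.style.haveILetI false

universe u

open CategoryTheory AlgebraicGeometry TopologicalSpace

noncomputable section

namespace Groth.Agent.CycLib

variable {X Z : Scheme.{u}} (i : Z ⟶ X) [IsClosedImmersion i] {δ : X → ℤ}

theorem mapCoeff_closed (z : Z) : AlgebraicCycle.mapCoeff i (fun z => δ (i z)) δ z = 1 := by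
  rw [AlgebraicCycle.mapCoeff, if_pos rfl]
  exact WeilCohLib.residueDegree_eq_one_of_surjective i z (bijective_residueFieldMap i z).2

theorem map_closed_apply (α : AlgebraicCycle Z ℤ) (z : Z) :
    AlgebraicCycle.map i (fun z => δ (i z)) δ α (i z) = α z := by
  rw [AlgebraicCycle.map, Function.locallyFinsupp.map_apply,
    show (i.base : Z → X) ⁻¹' {i z} = {z} from Set.ext fun w => ⟨fun h => i.isEmbedding.injective h, fun h => by rw [h]; rfl⟩,
    finsum_mem_singleton, mapCoeff_closed]
  simp

theorem map_closed_apply_of_notMem (α : AlgebraicCycle Z ℤ) {x : X} (hx : x ∉ Set.range i) :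
    AlgebraicCycle.map i (fun z => δ (i z)) δ α x = 0 := by
  rw [AlgebraicCycle.map, Function.locallyFinsupp.map_apply,
    show (i.base : Z → X) ⁻¹' {x} = ∅ from Set.eq_empty_of_forall_notMem fun w hw => hx ⟨w, hw⟩, finsum_mem_empty]

theorem mem_range_of_specializes {z : Z} {x : X} (h : i z ⤳ x) : x ∈ Set.range i :=
  h.mem_closed i.isClosedEmbedding.isClosed_range ⟨z, rfl⟩

theorem isDimFun_closed (hδ : Cyc.IsDimFun X δ) : Cyc.IsDimFun Z fun z => δ (i z) := fun a b hab hne => by
  have hne' : i a ≠ i b := i.isEmbedding.injective.ne hne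
  refine ⟨(hδ _ _ (hab.map i.continuous) hne').1, fun hz => (hδ _ _ (hab.map i.continuous) hne').2 fun w h1 h2 => ?_⟩
  obtain ⟨w, rfl⟩ := mem_range_of_specializes i h1
  rcases hz w (i.isEmbedding.isInducing.specializes_iff.1 h1) (i.isEmbedding.isInducing.specializes_iff.1 h2) with rfl | rfl
  exacts [Or.inl rfl, Or.inr rfl]

include i in
theorem isLocallyNoetherian_closed [IsLocallyNoetherian X] : IsLocallyNoetherian Z :=
  LocallyOfFiniteType.isLocallyNoetherian i

/-- A finitely supported sum over a closed subscheme. -/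
theorem finsum_closed {M : Type*} [AddCommMonoid M] (F : X → M) (hF : ∀ x, F x ≠ 0 → x ∈ Set.range i) :
    ∑ᶠ x : X, F x = ∑ᶠ z : Z, F (i z) := by
  classical
  rw [← finsum_mem_range (f := F) i.isEmbedding.injective]
  refine finsum_congr fun x => ?_
  by_cases hx : x ∈ Set.range i
  · rw [finsum_eq_if, if_pos hx]
  · rw [finsum_eq_if, if_neg hx]
    by_contra hne
    exact hx (hF x hne)

variable [IsLocallyNoetherian X] [IsLocallyNoetherian Z] (hδ : Cyc.IsDimFun X δ)
include hδ

/-- Pushforward along a closed immersion preserves rational equivalence. -/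
theorem ratEquivZero_map_closed {k : ℤ} {α : AlgebraicCycle Z ℤ}
    (h : Cyc.RatEquivZero (fun z => δ (i z)) k α) :
    Cyc.RatEquivZero δ k (AlgebraicCycle.map i (fun z => δ (i z)) δ α) := by
  obtain ⟨F, hF⟩ := (ratEquivZero_iff _).1 h
  choose g hg using fun j => (bijective_residueFieldMap i (F.ξ j)).2 (F.f j)
  have hFr : ∀ j (x : X), Cyc.divFun δ (i (F.ξ j)) (g j) x ≠ 0 → x ∈ Set.range i := fun j x hx =>
    mem_range_of_specializes i (specializes_of_divFun_ne_zero hx).1
  refine (ratEquivZero_iff _).2 ⟨⟨F.ι, fun j => i (F.ξ j), g, F.hξ, fun j e => F.hf j (by rw [← hg j, e, map_zero]),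
    fun x => ?_⟩, fun x => ?_⟩
  · obtain ⟨V, hV, hx⟩ := exists_affine x
    refine ⟨V, V.2, hx, (F.finite_mem (U := i ⁻¹ᵁ V) (i.isSpectralMap.2 V.isOpen hV.isCompact)).subset fun j hj => ?_⟩
    obtain ⟨y, hy, hyV⟩ := hj
    exact (specializes_iff_mem_closure.2 hy).mem_open V.2 hyV
  · by_cases hx : x ∈ Set.range i
    · obtain ⟨z, rfl⟩ := hx
      rw [map_closed_apply, hF]
      refine finsum_congr fun j => ?_
      rw [← hg j]
      exact divFun_map i hδ (isDimFun_closed i hδ) (F.ξ j) z (g j)
    · rw [map_closed_apply_of_notMem i α hx]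
      refine (finsum_eq_zero_of_forall_eq_zero fun j => ?_).symm
      by_contra hne
      exact hx (hFr j x hne)

theorem ratEquiv_map_closed {k : ℤ} {α β : AlgebraicCycle Z ℤ} (h : Cyc.RatEquiv (fun z => δ (i z)) k α β) :
    Cyc.RatEquiv δ k (AlgebraicCycle.map i (fun z => δ (i z)) δ α) (AlgebraicCycle.map i (fun z => δ (i z)) δ β) := by
  have h' := ratEquivZero_map_closed i hδ h
  unfold Cyc.RatEquiv
  convert h' using 1
  ext x
  by_cases hx : x ∈ Set.range i
  · obtain ⟨z, rfl⟩ := hx
    show AlgebraicCycle.map i _ δ α (i z) - AlgebraicCycle.map i _ δ β (i z) = _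
    rw [map_closed_apply, map_closed_apply, map_closed_apply]
    rfl
  · show AlgebraicCycle.map i _ δ α x - AlgebraicCycle.map i _ δ β x = _
    rw [map_closed_apply_of_notMem i α hx, map_closed_apply_of_notMem i β hx, map_closed_apply_of_notMem i _ hx]
    rfl

variable {L : X.Modules} (hL : PicF.IsInvertible L)
include hL

/-- Divisors of sections restrict to closed subschemes. -/
theorem secDivFun_closed (η z : Z) (s : Cyc.secFibre L (i η)) :
    Cyc.secDivFun δ L (i η) s (i z) =
      Cyc.secDivFun (fun z => δ (i z)) ((Scheme.Modules.pullback i).obj L) η (pullFib i L η s) z := by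
  haveI := InvExt.isQCoh_of_isInvertible hL
  by_cases h : η ⤳ z ∧ δ (i z) + 1 = δ (i η)
  · obtain ⟨hs, hd⟩ := h
    have h' := hs.map i.continuous
    obtain ⟨t, ht⟩ := exists_genAt hL (i z)
    have htx : Function.Bijective fun r : X.presheaf.stalk (i z) => r • t := by
      have := ht (i z) specializes_rfl
      rwa [TopCat.Presheaf.stalkSpecializes_refl] at this
    obtain ⟨φ, rfl⟩ := exists_smul_mkF (ht (i η) h') s
    rw [secDivFun_of h' hd, secDivFun_of (δ := fun z => δ (i z)) hs hd, secOrdAt_eq hδ h' hd htx (ht (i η) h'),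
      pullFib_smul_mkF, ← stalkSpecializes_pullStalk i L hs,
      secOrdAt_eq (isDimFun_closed i hδ) hs hd (ProjBundleLib.bijective_pullStalk_gen i z htx)
        (by rw [stalkSpecializes_pullStalk i L hs]; exact ProjBundleLib.bijective_pullStalk_gen i η (ht (i η) h')),
      ← residueFieldMap_residue i η φ, ordAt_map i hδ (isDimFun_closed i hδ) hs h' hd hd]
  · rw [Cyc.secDivFun, Cyc.secDivFun, dif_neg fun h' => h ⟨i.isEmbedding.isInducing.specializes_iff.1 h'.1, h'.2⟩, dif_neg h]

/-- Cap products with first Chern classes restrict to closed subschemes. -/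
theorem c1CapFun_closed (a : X → ℤ) (ha : ∀ x, a x ≠ 0 → x ∈ Set.range i) (v : (ξ : X) → Cyc.secFibre L ξ) (z : Z) :
    Cyc.c1CapFun δ L a v (i z) =
      Cyc.c1CapFun (fun z => δ (i z)) ((Scheme.Modules.pullback i).obj L) (fun η => a (i η))
        (fun η => pullFib i L η (v (i η))) z := by
  show ∑ᶠ ξ : X, a ξ * Cyc.secDivFun δ L ξ (v ξ) (i z) = ∑ᶠ η : Z, _
  rw [finsum_closed i _ fun x hx => ha x (left_ne_zero_of_mul hx)]
  exact finsum_congr fun η => congrArg _ (secDivFun_closed i hδ hL η z (v (i η)))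

omit hδ hL [IsLocallyNoetherian X] [IsLocallyNoetherian Z] in
theorem c1CapFun_eq_zero_of_notMem (a : X → ℤ) (ha : ∀ x, a x ≠ 0 → x ∈ Set.range i) (v : (ξ : X) → Cyc.secFibre L ξ)
    {x : X} (hx : x ∉ Set.range i) : Cyc.c1CapFun δ L a v x = 0 := by
  refine finsum_eq_zero_of_forall_eq_zero fun ξ => ?_
  by_contra hne
  obtain ⟨η, rfl⟩ := ha ξ (left_ne_zero_of_mul hne)
  exact hx (mem_range_of_specializes i (specializes_of_secDivFun_ne_zero (right_ne_zero_of_mul hne)).1)

end Groth.Agent.CycLib
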