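import Groth.Agent.CycLib.GysinPull
import Groth.Agent.CycLib.SetupLft

/-! # Base change of zero schemes -/

set_option autoImplicit false
set_option backward.isDefEq.respectTransparency false
set_option linter.style.haveILetI false

universe u

open CategoryTheory CategoryTheory.Limits AlgebraicGeometry TopologicalSpace

noncomputable section

namespace Groth.Agent.CycLib

variable {X X' D : Scheme.{u}} (f : X' ⟶ X)

/-- The pull back of a global section. -/
def pullSec (L : X.Modules) (s : L.presheaf.obj (Opposite.op ⊤)) :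
    ((Scheme.Modules.pullback f).obj L).presheaf.obj (Opposite.op ⊤) :=
  ((Scheme.Modules.pullbackPushforwardAdjunction f).unit.app L).app ⊤ s

theorem germ_pullSec (L : X.Modules) (s : L.presheaf.obj (Opposite.op ⊤)) (η : X') :
    ((Scheme.Modules.pullback f).obj L).presheaf.germ ⊤ η trivial (pullSec f L s) =
      PullbackMod.pullStalk f L η (L.presheaf.germ ⊤ (f η) trivial s) :=
  (PullbackMod.pullStalk_germ f L η (W := ⊤) trivial s).symm

theorem pullFib_germ (L : X.Modules) (s : L.presheaf.obj (Opposite.op ⊤)) (η : X') :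
    pullFib f L η (mkF L (f η) (L.presheaf.germ ⊤ (f η) trivial s)) =
      mkF _ η (((Scheme.Modules.pullback f).obj L).presheaf.germ ⊤ η trivial (pullSec f L s)) := by
  rw [pullFib_mkF, germ_pullSec]

theorem pullFib_eq_zero_iff {L : X.Modules} (hL : PicF.IsInvertible L) {η : X'} {s : Cyc.secFibre L (f η)} :
    pullFib f L η s = 0 ↔ s = 0 := by
  refine ⟨fun h => by_contra fun hs => pullFib_ne_zero f L hL hs h, fun h => ?_⟩
  subst h
  have e := pullFib_mkF f L η 0
  rwa [map_zero, show mkF L (f η) 0 = 0 from rfl] at e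

/-- The pull back of Gysin choices. -/
theorem pullFib_gysinChoice {L : X.Modules} (hL : PicF.IsInvertible L) (s : L.presheaf.obj (Opposite.op ⊤))
    (w : (ξ : X) → Cyc.secFibre L ξ) (η : X') :
    Cyc.gysinChoice _ (pullSec f L s) (fun η => pullFib f L η (w (f η))) η =
      pullFib f L η (Cyc.gysinChoice L s w (f η)) := by
  unfold Cyc.gysinChoice
  by_cases h : mkF L (f η) (L.presheaf.germ ⊤ (f η) trivial s) = 0
  · rw [if_neg (not_not.2 h), if_neg]
    rw [not_not, ← mkF, ← pullFib_germ, pullFib_eq_zero_iff f hL]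
    exact h
  · rw [if_pos h, if_pos]
    · exact (pullFib_germ f L s η).symm
    · intro e
      refine h ((pullFib_eq_zero_iff f hL).1 ?_)
      rw [pullFib_germ]
      exact e

/-- Zero schemes are stable under base change. -/
theorem isZeroSchemeOf_pullSec {L : X.Modules} (hL : PicF.IsInvertible L) {i : D ⟶ X} [IsClosedImmersion i]
    {s : L.presheaf.obj (Opposite.op ⊤)} (hD : Cyc.IsZeroSchemeOf i L s) :
    Cyc.IsZeroSchemeOf (pullback.fst f i) ((Scheme.Modules.pullback f).obj L) (pullSec f L s) := by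
  haveI := InvExt.isQCoh_of_isInvertible hL
  refine ⟨?_, fun z => ?_⟩
  · refine (Scheme.Pullback.range_fst f i).trans ?_
    ext η
    rw [Set.mem_preimage, hD.1, Set.mem_setOf_eq, Set.mem_setOf_eq]
    show mkF L (f η) _ = 0 ↔ mkF _ η _ = 0
    rw [← pullFib_germ, pullFib_eq_zero_iff f hL]
  have he : f (pullback.fst f i z) ⤳ i (pullback.snd f i z) := specializes_of_eq (by
    rw [← Scheme.Hom.comp_apply, pullback.condition, Scheme.Hom.comp_apply])
  obtain ⟨t₀, ht₀⟩ := exists_genAt hL (i (pullback.snd f i z))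
  have ht₀x : Function.Bijective fun r : X.presheaf.stalk (i (pullback.snd f i z)) => r • t₀ := by
    have := ht₀ _ specializes_rfl
    rwa [TopCat.Presheaf.stalkSpecializes_refl] at this
  obtain ⟨b, hb⟩ := ht₀x.2 (L.presheaf.germ ⊤ (i (pullback.snd f i z)) trivial s)
  change b • t₀ = _ at hb
  obtain ⟨t, b', ht, hb', hker⟩ := hD.2 (pullback.snd f i z)
  rw [← span_coeff_eq ht₀x ht hb.symm hb'] at hker
  refine ⟨PullbackMod.pullStalk f L _ (L.presheaf.stalkSpecializes he t₀),
    f.stalkMap (pullback.fst f i z) (X.presheaf.stalkSpecializes he b), ?_, ?_, ker_stalkMap_fst f i z hker he⟩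
  · exact Submodule.eq_top_iff'.2 fun m => Submodule.mem_span_singleton.2
      ((ProjBundleLib.bijective_pullStalk_gen f (pullback.fst f i z) (ht₀ _ he)).2 m)
  · rw [germ_pullSec, ← TopCat.Presheaf.germ_stalkSpecializes_apply L.presheaf (U := ⊤) (y := i (pullback.snd f i z)) trivial he, ← hb,
      RefOne.stalkSpecializes_smul, PullbackMod.pullStalk_smul]

/-- Zero schemes are stable under base change. -/
theorem isZeroSchemeOf_of_isPullback {L : X.Modules} (hL : PicF.IsInvertible L) {i : D ⟶ X} [IsClosedImmersion i]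
    {s : L.presheaf.obj (Opposite.op ⊤)} (hD : Cyc.IsZeroSchemeOf i L s) {D' : Scheme.{u}} {i' : D' ⟶ X'}
    {g : D' ⟶ D} (hsq : IsPullback i' g f i) :
    Cyc.IsZeroSchemeOf i' ((Scheme.Modules.pullback f).obj L) (pullSec f L s) := by
  refine isZeroSchemeOf_iso ((IsPullback.of_hasPullback f i).isoIsPullback _ _ hsq) i' ?_
  rw [IsPullback.isoIsPullback_hom_fst]
  exact isZeroSchemeOf_pullSec f hL hD

theorem deltaCompat_preimmersion (i : D ⟶ X) [IsPreimmersion i] (δ : X → ℤ) :
    Cyc.DeltaCompat i (fun d => δ (i d)) δ := fun d =>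
  ⟨0, (FlatDim.resTrdegAt_preimmersion i d).trans Nat.cast_zero.symm, by simp⟩

/-- The dimension functions of a base change to a closed subscheme. -/
theorem deltaCompat_closed_square {P PD : Scheme.{u}} {p : P ⟶ X} {δP : P → ℤ} {δ : X → ℤ}
    (hp : Cyc.DeltaCompat p δP δ) {i : D ⟶ X} [IsPreimmersion i] {i' : PD ⟶ P} [IsPreimmersion i'] {pD : PD ⟶ D}
    (w : i' ≫ p = pD ≫ i) : Cyc.DeltaCompat pD (fun z => δP (i' z)) fun d => δ (i d) := fun z => by
  obtain ⟨m, hm, e⟩ := hp (i' z)
  refine ⟨m, ?_, ?_⟩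
  · have h := FlatDim.resTrdegAt_congr w z
    rw [FlatDim.resTrdegAt_comp, FlatDim.resTrdegAt_comp, FlatDim.resTrdegAt_preimmersion i',
      FlatDim.resTrdegAt_preimmersion i, add_zero, zero_add] at h
    exact h.symm.trans hm
  · show δP (i' z) = δ (i (pD z)) + m
    rw [← Scheme.Hom.comp_apply pD i, ← w, Scheme.Hom.comp_apply]
    exact e

end Groth.Agent.CycLib
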