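import Groth.Agent.CycLib.Div
import Groth.Agent.RefOne.Stalk
import Groth.Prelude.Def_C1

/-! # Divisors of rational sections of invertible modules -/

set_option autoImplicit false
set_option backward.isDefEq.respectTransparency false
set_option linter.style.haveILetI false

universe u

open CategoryTheory AlgebraicGeometry TopologicalSpace

noncomputable section

namespace Groth.Agent.CycLib

variable {X : Scheme.{u}} {L : X.Modules} {δ : X → ℤ} {k : ℤ}

/-- The class of a stalk element in the fibre. -/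
abbrev mkF (L : X.Modules) (ξ : X) (t : L.presheaf.stalk ξ) : Cyc.secFibre L ξ := Submodule.Quotient.mk t

theorem smul_mkF_eq_zero_iff {ξ : X} {t : L.presheaf.stalk ξ}
    (ht : Function.Bijective fun r : X.presheaf.stalk ξ => r • t) (φ : X.presheaf.stalk ξ) :
    φ • mkF L ξ t = 0 ↔ X.residue ξ φ = 0 := by
  constructor
  · intro h
    rw [← Submodule.Quotient.mk_smul, Submodule.Quotient.mk_eq_zero] at h
    obtain ⟨m, hm, e⟩ : ∃ m ∈ IsLocalRing.maximalIdeal (X.presheaf.stalk ξ), m • t = φ • t := by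
      refine Submodule.smul_induction_on h (fun m hm n _ => ?_) (fun a b ⟨m, hm, em⟩ ⟨m', hm', em'⟩ => ?_)
      · obtain ⟨r, rfl⟩ := ht.2 n
        exact ⟨m * r, Ideal.mul_mem_right _ _ hm, mul_smul m r t⟩
      · exact ⟨m + m', Ideal.add_mem _ hm hm', by rw [add_smul, em, em']⟩
    obtain rfl : m = φ := ht.1 e
    exact (IsLocalRing.residue_eq_zero_iff _).2 hm
  · intro h
    rw [← Submodule.Quotient.mk_smul, Submodule.Quotient.mk_eq_zero]
    exact Submodule.smul_mem_smul ((IsLocalRing.residue_eq_zero_iff _).1 h) trivial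

theorem exists_smul_mkF {ξ : X} {t : L.presheaf.stalk ξ}
    (ht : Function.Bijective fun r : X.presheaf.stalk ξ => r • t) (s : Cyc.secFibre L ξ) :
    ∃ φ : X.presheaf.stalk ξ, s = φ • mkF L ξ t := by
  obtain ⟨m, rfl⟩ := Submodule.Quotient.mk_surjective _ s
  obtain ⟨φ, rfl⟩ := ht.2 m
  refine ⟨φ, ?_⟩
  rw [← Submodule.Quotient.mk_smul]

/-- An invertible module has a generator at `x` which generates at every generalization. -/
theorem exists_genAt (hL : PicF.IsInvertible L) (x : X) : ∃ t : L.presheaf.stalk x,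
    ∀ (ξ : X) (h : ξ ⤳ x), Function.Bijective fun r : X.presheaf.stalk ξ => r • L.presheaf.stalkSpecializes h t := by
  obtain ⟨W, s, hx, hs⟩ := ParaFLib.exists_gen_nhd hL x
  refine ⟨L.presheaf.germ W x hx s, fun ξ h => ?_⟩
  rw [TopCat.Presheaf.germ_stalkSpecializes_apply]
  exact hs.bijective_germ ξ (h.mem_open W.2 hx)

theorem exists_smul_of_ne_zero (hL : PicF.IsInvertible L) {ξ : X} {s s' : Cyc.secFibre L ξ} (hs : s ≠ 0)
    (hs' : s' ≠ 0) : ∃ g : X.presheaf.stalk ξ, X.residue ξ g ≠ 0 ∧ s' = g • s := by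
  obtain ⟨t, ht⟩ := ParaFLib.exists_stalk_gen hL ξ
  obtain ⟨φ, rfl⟩ := exists_smul_mkF ht s
  obtain ⟨φ', rfl⟩ := exists_smul_mkF ht s'
  have hφ : X.residue ξ φ ≠ 0 := fun e => hs ((smul_mkF_eq_zero_iff ht φ).2 e)
  have hφ' : X.residue ξ φ' ≠ 0 := fun e => hs' ((smul_mkF_eq_zero_iff ht φ').2 e)
  have hu : IsUnit φ := by
    by_contra hnu
    exact hφ ((IsLocalRing.residue_eq_zero_iff _).2 hnu)
  refine ⟨φ' * ↑hu.unit⁻¹, ?_, ?_⟩
  · rw [map_mul]
    exact mul_ne_zero hφ' ((hu.unit⁻¹).isUnit.map (X.residue ξ).hom).ne_zero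
  · rw [← mul_smul, mul_assoc, hu.val_inv_mul, mul_one]

theorem secDivFun_of {ξ x : X} (h : ξ ⤳ x) (hd : δ x + 1 = δ ξ) (s : Cyc.secFibre L ξ) :
    Cyc.secDivFun δ L ξ s x = Cyc.secOrdAt L ξ x h s := dif_pos ⟨h, hd⟩

theorem specializes_of_secDivFun_ne_zero {ξ x : X} {s : Cyc.secFibre L ξ} (h : Cyc.secDivFun δ L ξ s x ≠ 0) :
    ξ ⤳ x ∧ δ x + 1 = δ ξ := by
  by_contra hc
  exact h (dif_neg hc)

variable [IsLocallyNoetherian X] (hδ : Cyc.IsDimFun X δ)
include hδ

/-- The order of a section through any generator at `x`. -/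
theorem secOrdAt_eq {ξ x : X} (h : ξ ⤳ x) (hd : δ x + 1 = δ ξ) {t : L.presheaf.stalk x}
    (htx : Function.Bijective fun r : X.presheaf.stalk x => r • t)
    (htξ : Function.Bijective fun r : X.presheaf.stalk ξ => r • L.presheaf.stalkSpecializes h t)
    (φ : X.presheaf.stalk ξ) :
    Cyc.secOrdAt L ξ x h (φ • mkF L ξ (L.presheaf.stalkSpecializes h t)) = Cyc.ordAt x ξ h (X.residue ξ φ) := by
  have hex : ∃ t : L.presheaf.stalk x, Submodule.span (X.presheaf.stalk x) {t} = ⊤ :=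
    ⟨t, Submodule.eq_top_iff'.2 fun m => Submodule.mem_span_singleton.2 (htx.2 m)⟩
  rw [Cyc.secOrdAt, dif_pos hex]
  set t' := Classical.choose hex with ht'def
  obtain ⟨u, hu⟩ := htx.2 t'
  obtain ⟨v, hv⟩ := Submodule.mem_span_singleton.1 ((Classical.choose_spec hex).ge (Submodule.mem_top (x := t)))
  change v • t' = t at hv
  have hvu : v * u = 1 := htx.1 (by
    show (v * u) • t = (1 : X.presheaf.stalk x) • t
    rw [one_smul, mul_smul, show u • t = t' from hu, hv])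
  have hu' : IsUnit u := IsUnit.of_mul_eq_one v (by rwa [mul_comm] at hvu)
  have ht' : L.presheaf.stalkSpecializes h t' = X.presheaf.stalkSpecializes h u • L.presheaf.stalkSpecializes h t := by
    rw [← RefOne.stalkSpecializes_smul, show u • t = t' from hu]
  have hv' : X.presheaf.stalkSpecializes h v * X.presheaf.stalkSpecializes h u = 1 := by rw [← map_mul, hvu, map_one]
  have hex2 : ∃ ψ : X.presheaf.stalk ξ, φ • mkF L ξ (L.presheaf.stalkSpecializes h t) =
      ψ • (Submodule.Quotient.mk (L.presheaf.stalkSpecializes h t') : Cyc.secFibre L ξ) :=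
    ⟨φ * X.presheaf.stalkSpecializes h v, by
      rw [ht', Submodule.Quotient.mk_smul, ← mul_smul, mul_assoc, hv', mul_one]⟩
  rw [dif_pos hex2]
  set ψ := Classical.choose hex2
  have hψ := Classical.choose_spec hex2
  replace hψ : φ • mkF L ξ (L.presheaf.stalkSpecializes h t) =
      ψ • (Submodule.Quotient.mk (X.presheaf.stalkSpecializes h u • L.presheaf.stalkSpecializes h t) : Cyc.secFibre L ξ) :=
    hψ.trans (congrArg (fun m => ψ • (Submodule.Quotient.mk m : Cyc.secFibre L ξ)) ht')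
  rw [Submodule.Quotient.mk_smul, ← mul_smul, ← sub_eq_zero, ← sub_smul,
    smul_mkF_eq_zero_iff htξ, map_sub, sub_eq_zero, map_mul] at hψ
  change _ = X.residue ξ ψ * Cyc.specMap x ξ h u at hψ
  rcases eq_or_ne (X.residue ξ ψ) 0 with h0 | h0
  · rw [hψ, h0, zero_mul]
  · rw [hψ, ordAt_mul hδ h hd h0 (hu'.map (Cyc.specMap x ξ h)).ne_zero, ordAt_specMap_unit hδ h hd hu', add_zero]

/-- Changing the rational section adds a principal divisor. -/
theorem secOrdAt_smul (hL : PicF.IsInvertible L) {ξ x : X} (h : ξ ⤳ x) (hd : δ x + 1 = δ ξ)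
    {g : X.presheaf.stalk ξ} (hg : X.residue ξ g ≠ 0) {s : Cyc.secFibre L ξ} (hs : s ≠ 0) :
    Cyc.secOrdAt L ξ x h (g • s) = Cyc.ordAt x ξ h (X.residue ξ g) + Cyc.secOrdAt L ξ x h s := by
  obtain ⟨t, ht⟩ := exists_genAt hL x
  have htx : Function.Bijective fun r : X.presheaf.stalk x => r • t := by
    have := ht x specializes_rfl
    rwa [TopCat.Presheaf.stalkSpecializes_refl] at this
  obtain ⟨φ, rfl⟩ := exists_smul_mkF (ht ξ h) s
  have hφ : X.residue ξ φ ≠ 0 := fun e => hs ((smul_mkF_eq_zero_iff (ht ξ h) φ).2 e)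
  rw [← mul_smul, secOrdAt_eq hδ h hd htx (ht ξ h), secOrdAt_eq hδ h hd htx (ht ξ h), map_mul,
    ordAt_mul hδ h hd hg hφ]

theorem secDivFun_smul (hL : PicF.IsInvertible L) (ξ x : X) {g : X.presheaf.stalk ξ} (hg : X.residue ξ g ≠ 0)
    {s : Cyc.secFibre L ξ} (hs : s ≠ 0) :
    Cyc.secDivFun δ L ξ (g • s) x = Cyc.divFun δ ξ (X.residue ξ g) x + Cyc.secDivFun δ L ξ s x := by
  by_cases h : ξ ⤳ x ∧ δ x + 1 = δ ξ
  · rw [secDivFun_of h.1 h.2, secDivFun_of h.1 h.2, divFun_of h.1 h.2, secOrdAt_smul hδ hL h.1 h.2 hg hs]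
  · rw [Cyc.secDivFun, Cyc.secDivFun, Cyc.divFun, dif_neg h, dif_neg h, dif_neg h, add_zero]

omit hδ in
theorem finite_support_c1 (α : AlgebraicCycle X ℤ) (s : (ξ : X) → Cyc.secFibre L ξ) (x : X) :
    (Function.support fun ξ => α ξ * Cyc.secDivFun δ L ξ (s ξ) x).Finite := by
  obtain ⟨U, hU, hx⟩ := exists_affine x
  exact (α.locallyFiniteSupport.finite_inter_support_of_isCompact hU.isCompact).subset fun ξ hξ =>
    ⟨(specializes_of_secDivFun_ne_zero (right_ne_zero_of_mul hξ)).1.mem_open U.2 hx, left_ne_zero_of_mul hξ⟩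

/-- The cap product with `c₁` does not depend on the rational sections. -/
theorem ratEquiv_c1Cap (hL : PicF.IsInvertible L) {α : AlgebraicCycle X ℤ} (hα : α ∈ Cyc.Zk X δ (k + 1))
    {s s' : (ξ : X) → Cyc.secFibre L ξ} (hs : ∀ ξ, s ξ ≠ 0) (hs' : ∀ ξ, s' ξ ≠ 0)
    {γ γ' : AlgebraicCycle X ℤ} (hγ : ⇑γ = Cyc.c1CapFun δ L ⇑α s) (hγ' : ⇑γ' = Cyc.c1CapFun δ L ⇑α s') :
    Cyc.RatEquiv δ k γ' γ := by
  choose g hg hsg using fun ξ => exists_smul_of_ne_zero hL (hs ξ) (hs' ξ)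
  let F : Fam δ k :=
    { ι := {ξ : X // α ξ ≠ 0}
      ξ := fun i => i.1
      f := fun i => X.residue i.1 (g i.1) ^ α i.1
      hξ := fun i => by
        by_contra hne
        exact i.2 (hα i.1 hne)
      hf := fun i => zpow_ne_zero _ (hg i.1)
      fin := fun x => by
        obtain ⟨U, hU, hx⟩ := exists_affine x
        refine ⟨U, U.2, hx, ((α.locallyFiniteSupport.finite_inter_support_of_isCompact hU.isCompact).preimage
          (f := Subtype.val) (Subtype.val_injective.injOn)).subset fun i hi => ?_⟩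
        obtain ⟨y, hy, hyU⟩ := hi
        exact ⟨(specializes_iff_mem_closure.2 hy).mem_open U.2 hyU, i.2⟩ }
  refine (ratEquivZero_iff _).2 ⟨F, fun x => ?_⟩
  show γ' x - γ x = _
  rw [hγ, hγ', Cyc.c1CapFun, Cyc.c1CapFun, ← finsum_sub_distrib (finite_support_c1 α s' x) (finite_support_c1 α s x)]
  have e : ∀ ξ : X, α ξ * Cyc.secDivFun δ L ξ (s' ξ) x - α ξ * Cyc.secDivFun δ L ξ (s ξ) x =
      α ξ * Cyc.divFun δ ξ (X.residue ξ (g ξ)) x := fun ξ => by
    rw [hsg ξ, secDivFun_smul hδ hL ξ x (hg ξ) (hs ξ)]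
    ring
  rw [finsum_congr e]
  have e' : ∀ i : F.ι, Cyc.divFun δ (F.ξ i) (F.f i) x = α i.1 * Cyc.divFun δ i.1 (X.residue i.1 (g i.1)) x := by
    intro i
    show Cyc.divFun δ i.1 (X.residue i.1 (g i.1) ^ α i.1) x = _
    by_cases h : i.1 ⤳ x ∧ δ x + 1 = δ i.1
    · rw [divFun_of h.1 h.2, divFun_of h.1 h.2, ordAt_zpow hδ h.1 h.2 (hg i.1)]
    · rw [Cyc.divFun, Cyc.divFun, dif_neg h, dif_neg h, mul_zero]
  rw [finsum_congr e']
  show (∑ᶠ ξ : X, α ξ * Cyc.divFun δ ξ (X.residue ξ (g ξ)) x) = ∑ᶠ i : {ξ : X // α ξ ≠ 0}, _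
  rw [finsum_subtype_eq_finsum_cond (f := fun ξ : X => α ξ * Cyc.divFun δ ξ (X.residue ξ (g ξ)) x) (fun ξ => α ξ ≠ 0)]
  refine finsum_congr fun ξ => ?_
  by_cases h0 : α ξ = 0
  · simp [h0]
  · rw [finsum_eq_if, if_pos h0]

end Groth.Agent.CycLib
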