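import Groth.Agent.CycLib.RatPull
import Groth.Agent.CycLib.C1
import Groth.Agent.ProjBundleLib.TwistIso
import Groth.Agent.AmpleLib.Pullback

/-! # Flat pullback and the first Chern class -/

set_option autoImplicit false
set_option backward.isDefEq.respectTransparency false
set_option linter.style.haveILetI false

universe u

open CategoryTheory AlgebraicGeometry TopologicalSpace

noncomputable section

namespace Groth.Agent.CycLib

variable {X Y : Scheme.{u}} (p : X ⟶ Y) (L : Y.Modules)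

theorem stalkSpecializes_pullStalk {η x : X} (h : η ⤳ x) (m : L.presheaf.stalk (p x)) :
    ((Scheme.Modules.pullback p).obj L).presheaf.stalkSpecializes h (PullbackMod.pullStalk p L x m) =
      PullbackMod.pullStalk p L η (L.presheaf.stalkSpecializes (h.map p.continuous) m) := by
  obtain ⟨W, hW, s, rfl⟩ := TopCat.Presheaf.exists_germ_eq L.presheaf m
  rw [TopCat.Presheaf.germ_stalkSpecializes_apply, PullbackMod.pullStalk_germ, PullbackMod.pullStalk_germ,
    TopCat.Presheaf.germ_stalkSpecializes_apply]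

/-- The pullback of a rational section. -/
def pullFib (η : X) (s : Cyc.secFibre L (p η)) : Cyc.secFibre ((Scheme.Modules.pullback p).obj L) η :=
  Submodule.Quotient.mk (PullbackMod.pullStalk p L η (Quotient.out s))

theorem pullFib_mkF (η : X) (t : L.presheaf.stalk (p η)) :
    pullFib p L η (mkF L (p η) t) = mkF _ η (PullbackMod.pullStalk p L η t) := by
  rw [pullFib, Submodule.Quotient.eq, ← map_sub]
  have h : Quotient.out (mkF L (p η) t) - t ∈
      IsLocalRing.maximalIdeal (Y.presheaf.stalk (p η)) • (⊤ : Submodule _ (L.presheaf.stalk (p η))) :=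
    (Submodule.Quotient.eq _).1 (Quotient.out_eq (mkF L (p η) t))
  refine Submodule.smul_induction_on h (fun m hm n _ => ?_) fun a b ha hb => ?_
  · rw [PullbackMod.pullStalk_smul]
    exact Submodule.smul_mem_smul (fibIdeal_le p η (Ideal.mem_map_of_mem _ hm)) trivial
  · rw [map_add]
    exact Submodule.add_mem _ ha hb

theorem pullFib_smul_mkF (η : X) (φ : Y.presheaf.stalk (p η)) (t : L.presheaf.stalk (p η)) :
    pullFib p L η (φ • mkF L (p η) t) = p.stalkMap η φ • mkF _ η (PullbackMod.pullStalk p L η t) := by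
  rw [← Submodule.Quotient.mk_smul, pullFib_mkF, PullbackMod.pullStalk_smul]
  exact Submodule.Quotient.mk_smul _ _ _

theorem pullFib_ne_zero (hL : PicF.IsInvertible L) {η : X} {s : Cyc.secFibre L (p η)} (hs : s ≠ 0) :
    pullFib p L η s ≠ 0 := by
  haveI := InvExt.isQCoh_of_isInvertible hL
  obtain ⟨t, ht⟩ := ParaFLib.exists_stalk_gen hL (p η)
  obtain ⟨φ, rfl⟩ := exists_smul_mkF ht s
  have hφ : Y.residue (p η) φ ≠ 0 := fun e => hs ((smul_mkF_eq_zero_iff ht φ).2 e)
  rw [pullFib_smul_mkF]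
  intro e
  rw [smul_mkF_eq_zero_iff (ProjBundleLib.bijective_pullStalk_gen p η ht), ← residueFieldMap_residue p η φ] at e
  exact hφ ((p.residueFieldMap η).hom.injective (e.trans (map_zero _).symm))

variable {p L} [IsLocallyNoetherian X] [IsLocallyNoetherian Y] {δX : X → ℤ} {δY : Y → ℤ} {c k : ℤ}

/-- The pullback cycle. -/
def pullCycle (hs : IsShift p δX δY c) (hδX : Cyc.IsDimFun X δX) (α : AlgebraicCycle Y ℤ) : AlgebraicCycle X ℤ where
  toFun := Cyc.pullFun p δX δY c ⇑α
  supportWithinDomain' := Set.subset_univ _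
  supportLocallyFiniteWithinDomain' z _ := by
    obtain ⟨W, hW, hzW⟩ := exists_affine (p z)
    obtain ⟨V, hV, hzV, hVW⟩ := exists_isAffineOpen_mem_and_subset (x := z) (U := p ⁻¹ᵁ W) hzW
    refine ⟨V, V.2.mem_nhds hzV, ((α.locallyFiniteSupport.finite_inter_support_of_isCompact hW.isCompact).biUnion
      fun ξ _ => (finite_over (p := p) ξ hV).image Subtype.val).subset fun η ⟨hηV, hη⟩ => ?_⟩
    change Cyc.pullFun p δX δY c (⇑α) η ≠ 0 at hη
    rw [pullFun_apply] at hη
    split_ifs at hη with hd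
    · exact Set.mem_biUnion ⟨hVW hηV, left_ne_zero_of_mul hη⟩
        ⟨⟨η, rfl, hs.maxFib_of_eq hδX hd⟩, hηV, rfl⟩
    · exact absurd rfl hη

variable [Flat p] (hs : IsShift p δX δY c) (hδX : Cyc.IsDimFun X δX) (hδY : Cyc.IsDimFun Y δY)
  (hL : PicF.IsInvertible L) (v : (ξ : Y) → Cyc.secFibre L ξ) (hv : ∀ ξ, v ξ ≠ 0)
include hs hδX hδY hL hv

/-- Pullback of the divisor of a rational section. -/
theorem pullFun_secDivFun (ξ : Y) (x : X) :
    Cyc.pullFun p δX δY c (Cyc.secDivFun δY L ξ (v ξ)) x = ∑ᶠ η : Over p ξ,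
      mult p η.1 * Cyc.secDivFun δX ((Scheme.Modules.pullback p).obj L) η.1 (pullFib p L η.1 (v (p η.1))) x := by
  by_cases h : ξ ⤳ p x
  swap
  · rw [pullFun_apply, show Cyc.secDivFun δY L ξ (v ξ) (p x) = 0 from dif_neg fun h' => h h'.1, zero_mul, ite_self]
    symm
    refine finsum_eq_zero_of_forall_eq_zero fun η => ?_
    rw [show Cyc.secDivFun δX _ η.1 (pullFib p L η.1 (v (p η.1))) x = 0 from
      dif_neg fun h' => h (η.2.1 ▸ h'.1.map p.continuous), mul_zero]
  haveI := InvExt.isQCoh_of_isInvertible hL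
  obtain ⟨t, ht⟩ := exists_genAt hL (p x)
  have htx : Function.Bijective fun r : Y.presheaf.stalk (p x) => r • t := by
    have := ht (p x) specializes_rfl
    rwa [TopCat.Presheaf.stalkSpecializes_refl] at this
  obtain ⟨φ, hφ⟩ := exists_smul_mkF (ht ξ h) (v ξ)
  have hg : Y.residue ξ φ ≠ 0 := fun e => hv ξ (hφ.trans ((smul_mkF_eq_zero_iff (ht ξ h) φ).2 e))
  have hY : Cyc.secDivFun δY L ξ (v ξ) (p x) = Cyc.divFun δY ξ (Y.residue ξ φ) (p x) := by
    by_cases hd : δY (p x) + 1 = δY ξ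
    · rw [secDivFun_of h hd, divFun_of h hd, hφ, secOrdAt_eq hδY h hd htx (ht ξ h)]
    · rw [Cyc.secDivFun, Cyc.divFun, dif_neg fun h' => hd h'.2, dif_neg fun h' => hd h'.2]
  rw [pullFun_apply, hY, ← pullFun_apply, pullFun_divFun hs hδX hδY ξ hg x]
  refine finsum_congr fun η => ?_
  congr 1
  obtain ⟨η, rfl, hη⟩ := η
  by_cases hd : η ⤳ x ∧ δX x + 1 = δX η
  swap
  · rw [Cyc.secDivFun, Cyc.divFun, dif_neg hd, dif_neg hd]
  rw [divFun_of hd.1 hd.2, secDivFun_of hd.1 hd.2, hφ, pullFib_smul_mkF, ← stalkSpecializes_pullStalk p L hd.1,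
    secOrdAt_eq hδX hd.1 hd.2 (ProjBundleLib.bijective_pullStalk_gen p x htx)
      (by rw [stalkSpecializes_pullStalk p L hd.1]; exact ProjBundleLib.bijective_pullStalk_gen p η (ht (p η) h)),
    ← residueFieldMap_residue p η φ]
  simp [lift]

/-- The pullback of a cap product is a cap product. -/
theorem pullFun_c1Cap (α : AlgebraicCycle Y ℤ) :
    Cyc.pullFun p δX δY c (Cyc.c1CapFun δY L ⇑α v) =
      Cyc.c1CapFun δX ((Scheme.Modules.pullback p).obj L) ⇑(pullCycle hs hδX α) (fun η => pullFib p L η (v (p η))) := by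
  classical
  funext x
  obtain ⟨W, hW, hxW⟩ := exists_affine (p x)
  obtain ⟨V, hV, hxV, hVW⟩ := exists_isAffineOpen_mem_and_subset (x := x) (U := p ⁻¹ᵁ W) hxW
  let s := (α.locallyFiniteSupport.finite_inter_support_of_isCompact hW.isCompact).toFinset
  let t := fun ξ => (finite_over (p := p) ξ hV).toFinset
  let T := s.biUnion fun ξ => (t ξ).map ⟨Subtype.val, Subtype.val_injective⟩
  have hpull : ∀ η : X, (pullCycle hs hδX α) η = if δX η = δY (p η) + c then α (p η) * mult p η else 0 :=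
    fun η => pullFun_apply _ _ η
  show Cyc.pullFun p δX δY c (Cyc.c1CapFun δY L ⇑α v) x = ∑ᶠ η : X, (pullCycle hs hδX α) η *
    Cyc.secDivFun δX ((Scheme.Modules.pullback p).obj L) η (pullFib p L η (v (p η))) x
  rw [finsum_eq_sum_of_support_subset (α := X) _ (s := T) ?_, Finset.sum_biUnion ?_]
  rotate_left
  · intro a _ b _ hab
    rw [Function.onFun, Finset.disjoint_left]
    intro η ha hb
    obtain ⟨⟨η₁, h₁⟩, -, rfl⟩ := Finset.mem_map.1 ha
    obtain ⟨⟨η₂, h₂⟩, -, e⟩ := Finset.mem_map.1 hb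
    change η₂ = η₁ at e
    subst e
    exact hab (h₁.1.symm.trans h₂.1)
  · intro η hη
    have h1 := (specializes_of_secDivFun_ne_zero (right_ne_zero_of_mul hη)).1
    have h2 := left_ne_zero_of_mul hη
    rw [hpull] at h2
    split_ifs at h2 with hd
    · refine Finset.mem_coe.2 (Finset.mem_biUnion.2 ⟨p η, ?_, Finset.mem_map.2
        ⟨⟨η, rfl, hs.maxFib_of_eq hδX hd⟩, ?_, rfl⟩⟩)
      · simp only [s, Set.Finite.mem_toFinset]
        exact ⟨hVW (h1.mem_open V.2 hxV), left_ne_zero_of_mul h2⟩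
      · simp only [t, Set.Finite.mem_toFinset]
        exact h1.mem_open V.2 hxV
    · exact absurd rfl h2
  have e : ∀ ξ ∈ s, ∑ η ∈ (t ξ).map ⟨Subtype.val, Subtype.val_injective⟩,
      (pullCycle hs hδX α) η * Cyc.secDivFun δX ((Scheme.Modules.pullback p).obj L) η (pullFib p L η (v (p η))) x =
      α ξ * Cyc.pullFun p δX δY c (Cyc.secDivFun δY L ξ (v ξ)) x := by
    intro ξ _
    rw [pullFun_secDivFun hs hδX hδY hL v hv ξ x, finsum_eq_sum_of_support_subset _ (s := t ξ) ?_, Finset.sum_map,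
      Finset.mul_sum]
    · refine Finset.sum_congr rfl fun η _ => ?_
      show (pullCycle hs hδX α) η.1 * _ = _
      rw [hpull, if_pos (hs η.1 η.2.2), show α (p η.1) = α ξ from congrArg (fun z => α z) η.2.1, mul_assoc]
      rfl
    · intro η hη
      simp only [t, Set.Finite.coe_toFinset]
      exact (specializes_of_secDivFun_ne_zero (right_ne_zero_of_mul hη)).1.mem_open V.2 hxV
  rw [Finset.sum_congr rfl e]
  simp only [pullFun_apply]
  unfold Cyc.c1CapFun
  beta_reduce
  split_ifs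
  · rw [finsum_eq_sum_of_support_subset (α := Y) _ (s := s) ?_, Finset.sum_mul]
    · exact Finset.sum_congr rfl fun _ _ => mul_assoc _ _ _
    intro ξ hξ
    simp only [s, Set.Finite.coe_toFinset]
    exact ⟨(specializes_of_secDivFun_ne_zero (right_ne_zero_of_mul hξ)).1.mem_open W.2 hxW, left_ne_zero_of_mul hξ⟩
  · simp

/-- Flat pullback commutes with the first Chern class up to rational equivalence. -/
theorem ratEquiv_pull_c1Cap {α : AlgebraicCycle Y ℤ} (hα : α ∈ Cyc.Zk Y δY k)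
    (u : (η : X) → Cyc.secFibre ((Scheme.Modules.pullback p).obj L) η) (hu : ∀ η, u η ≠ 0)
    (γ₁ γ₂ : AlgebraicCycle X ℤ) (h₁ : ⇑γ₁ = Cyc.pullFun p δX δY c (Cyc.c1CapFun δY L ⇑α v))
    (h₂ : ⇑γ₂ = Cyc.c1CapFun δX ((Scheme.Modules.pullback p).obj L) (Cyc.pullFun p δX δY c ⇑α) u) :
    Cyc.RatEquiv δX (k + c - 1) γ₁ γ₂ := by
  have hmem : pullCycle hs hδX α ∈ Cyc.Zk X δX (k + c - 1 + 1) := fun x hx => by
    show Cyc.pullFun p δX δY c (⇑α) x = 0
    rw [pullFun_apply]
    split_ifs with hd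
    · rw [hα (p x) (fun e => hx (by omega)), zero_mul]
    · rfl
  refine ratEquiv_c1Cap hδX (AmpleLib.isInvertible_pullback p hL) hmem hu
    (fun η => pullFib_ne_zero p L hL (hv (p η))) (γ := γ₂) (γ' := γ₁) h₂ ?_
  rw [h₁]
  exact pullFun_c1Cap hs hδX hδY hL v hv α

end Groth.Agent.CycLib
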