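import Groth.Agent.CycLib.C1Cycle
import Groth.Agent.CycLib.C1Pull
import Groth.Agent.CycLib.PushEquiv
import Groth.Agent.AmpleLib.Pullback

/-! # The projection formula for `c₁` -/

set_option autoImplicit false
set_option backward.isDefEq.respectTransparency false
set_option linter.style.haveILetI false

universe u

open CategoryTheory AlgebraicGeometry TopologicalSpace

noncomputable section

namespace Groth.Agent.CycLib

/-- The divisor of a rational section as a cycle. -/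
def secDivCycle {X : Scheme.{u}} [IsLocallyNoetherian X] {δ : X → ℤ} (hδ : Cyc.IsDimFun X δ) {L : X.Modules}
    (hL : PicF.IsInvertible L) (ξ : X) (s : Cyc.secFibre L ξ) : AlgebraicCycle X ℤ where
  toFun := Cyc.secDivFun δ L ξ s
  supportWithinDomain' := Set.subset_univ _
  supportLocallyFiniteWithinDomain' z _ := by
    obtain ⟨U, hz, hU⟩ := finite_inter_support_secDivFun hδ hL ξ s z
    exact ⟨U, U.2.mem_nhds hz, hU⟩

variable {X Y : Scheme.{u}} (p : X ⟶ Y) {δX : X → ℤ} {δY : Y → ℤ} {L : Y.Modules}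

/-- The divisor of a pulled back section. -/
theorem secDivFun_pullFib [IsLocallyNoetherian X] [IsLocallyNoetherian Y] (hδX : Cyc.IsDimFun X δX)
    (hL : PicF.IsInvertible L) {ξ : X} {y : Y} {t : L.presheaf.stalk y}
    (ht : ∀ ζ (h : ζ ⤳ y), Function.Bijective fun r : Y.presheaf.stalk ζ => r • L.presheaf.stalkSpecializes h t)
    (hy : p ξ ⤳ y) (φ : Y.presheaf.stalk (p ξ)) {x : X} (hx : p x = y) :
    Cyc.secDivFun δX ((Scheme.Modules.pullback p).obj L) ξ
        (pullFib p L ξ (φ • mkF L (p ξ) (L.presheaf.stalkSpecializes hy t))) x =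
      Cyc.divFun δX ξ (p.residueFieldMap ξ (Y.residue (p ξ) φ)) x := by
  subst hx
  haveI := InvExt.isQCoh_of_isInvertible hL
  by_cases h : ξ ⤳ x ∧ δX x + 1 = δX ξ
  · have htx : Function.Bijective fun r : Y.presheaf.stalk (p x) => r • t := by
      have := ht (p x) specializes_rfl
      rwa [TopCat.Presheaf.stalkSpecializes_refl] at this
    rw [secDivFun_of h.1 h.2, divFun_of h.1 h.2, pullFib_smul_mkF, ← stalkSpecializes_pullStalk p L h.1,
      secOrdAt_eq hδX h.1 h.2 (ProjBundleLib.bijective_pullStalk_gen p x htx)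
        (by rw [stalkSpecializes_pullStalk p L h.1]; exact ProjBundleLib.bijective_pullStalk_gen p ξ (ht (p ξ) hy)),
      ← residueFieldMap_residue p ξ φ]
  · rw [Cyc.secDivFun, Cyc.divFun, dif_neg h, dif_neg h]

variable [IsProper p] (hX : Cyc.IsSetup X δX) (hY : Cyc.IsSetup Y δY) (hδ : Cyc.DeltaCompat p δX δY)

include hX hY hδ

/-- The projection formula on the closure of a point. -/
theorem sum_secDivFun_pullFib (hL : PicF.IsInvertible L) (ξ : X) (s : Cyc.secFibre L (p ξ)) (hs : s ≠ 0) (y : Y) :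
    ∑ᶠ x ∈ p ⁻¹' {y}, Cyc.secDivFun δX ((Scheme.Modules.pullback p).obj L) ξ (pullFib p L ξ s) x *
        (AlgebraicCycle.mapCoeff p δX δY x : ℤ) =
      (AlgebraicCycle.mapCoeff p δX δY ξ : ℤ) * Cyc.secDivFun δY L (p ξ) s y := by
  haveI := hX.1
  haveI := hY.1
  by_cases hy : p ξ ⤳ y
  swap
  · rw [show Cyc.secDivFun δY L (p ξ) s y = 0 from dif_neg fun h => hy h.1, mul_zero]
    refine finsum_mem_eq_zero_of_forall_eq_zero fun x hx => by_contra fun hne => hy ?_
    have := (specializes_of_secDivFun_ne_zero (left_ne_zero_of_mul hne)).1.map p.continuous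
    rwa [show p x = y from hx] at this
  obtain ⟨t, ht⟩ := exists_genAt hL y
  obtain ⟨φ, rfl⟩ := exists_smul_mkF (ht (p ξ) hy) s
  have hφ : Y.residue (p ξ) φ ≠ 0 := fun e => hs ((smul_mkF_eq_zero_iff (ht (p ξ) hy) φ).2 e)
  have hf : p.residueFieldMap ξ (Y.residue (p ξ) φ) ≠ 0 := fun e =>
    hφ ((p.residueFieldMap ξ).hom.injective (e.trans (map_zero _).symm))
  rw [finsum_mem_congr rfl (fun x hx => by rw [secDivFun_pullFib p hX.2.2 hL ht hy φ hx]),
    sum_divFun p hX hY hδ ξ _ hf y]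
  have htx : Function.Bijective fun r : Y.presheaf.stalk y => r • t := by
    have := ht y specializes_rfl
    rwa [TopCat.Presheaf.stalkSpecializes_refl] at this
  show _ = ((if δX ξ = δY (p ξ) then p.residueDegree ξ else 0 : ℕ) : ℤ) * _
  split_ifs with he
  swap
  · simp
  have hn : Cyc.normGen p ξ (p.residueFieldMap ξ (Y.residue (p ξ) φ)) = Y.residue (p ξ) φ ^ (p.residueDegree ξ : ℤ) := by
    letI := (p.residueFieldMap ξ).hom.toAlgebra
    rw [zpow_natCast]
    exact Algebra.norm_algebraMap (Y.residue (p ξ) φ)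
  rw [hn]
  by_cases hd : δY y + 1 = δY (p ξ)
  · rw [divFun_of hy hd, secDivFun_of hy hd, ordAt_zpow hY.2.2 hy hd hφ, secOrdAt_eq hY.2.2 hy hd htx (ht (p ξ) hy)]
  · rw [Cyc.divFun, Cyc.secDivFun, dif_neg fun h => hd h.2, dif_neg fun h => hd h.2, mul_zero]

/-- The projection formula. -/
theorem map_c1Cap_pullFib (hL : PicF.IsInvertible L) (α : AlgebraicCycle X ℤ)
    (v : (η : Y) → Cyc.secFibre L η) (hv : ∀ η, v η ≠ 0) (γ : AlgebraicCycle X ℤ)
    (hγ : ∀ x, γ x = Cyc.c1CapFun δX ((Scheme.Modules.pullback p).obj L) ⇑α (fun ξ => pullFib p L ξ (v (p ξ))) x)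
    (y : Y) :
    AlgebraicCycle.map p δX δY γ y = Cyc.c1CapFun δY L ⇑(AlgebraicCycle.map p δX δY α) v y := by
  classical
  haveI := hX.1
  haveI := hY.1
  obtain ⟨V, hV, hy⟩ := exists_affine y
  have hfin : ({ξ | p ξ ∈ V} ∩ Function.support ⇑α).Finite :=
    α.locallyFiniteSupport.finite_inter_support_of_isCompact (p.isSpectralMap.2 V.isOpen hV.isCompact)
  let S := hfin.toFinset
  have hS : ∀ ξ, p ξ ⤳ y → α ξ ≠ 0 → ξ ∈ S := fun ξ h h' => hfin.mem_toFinset.2 ⟨h.mem_open V.2 hy, h'⟩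
  let c : X → AlgebraicCycle X ℤ := fun ξ =>
    secDivCycle hX.2.2 (AmpleLib.isInvertible_pullback p hL) ξ (pullFib p L ξ (v (p ξ)))
  let W := S.biUnion fun ξ => (finite_window p (c ξ) y).toFinset
  have hW : ∀ ξ ∈ S, ∀ x, p x = y → c ξ x ≠ 0 → x ∈ W := fun ξ hξ x hx h =>
    Finset.mem_biUnion.2 ⟨ξ, hξ, (finite_window p (c ξ) y).mem_toFinset.2 ⟨hx, h⟩⟩
  have hγy : ∀ x, p x = y → γ x = ∑ ξ ∈ S, α ξ * c ξ x := fun x hx => by
    rw [hγ]
    refine finsum_eq_sum_of_support_subset _ fun ξ hξ => hS ξ ?_ (left_ne_zero_of_mul hξ)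
    rw [← hx]
    exact (specializes_of_secDivFun_ne_zero (right_ne_zero_of_mul hξ)).1.map p.continuous
  have hWγ : ∀ x, p x = y → γ x ≠ 0 → x ∈ W := fun x hx h => by
    rw [hγy x hx] at h
    obtain ⟨ξ, hξ, hne⟩ := Finset.exists_ne_zero_of_sum_ne_zero h
    exact hW ξ hξ x hx (right_ne_zero_of_mul hne)
  rw [map_apply_eq_sum p γ y W hWγ]
  have e1 : ∀ x ∈ W, (p ⁻¹' {y}).indicator (fun x => γ x * (AlgebraicCycle.mapCoeff p δX δY x : ℤ)) x =
      ∑ ξ ∈ S, α ξ * (p ⁻¹' {y}).indicator (fun x => c ξ x * (AlgebraicCycle.mapCoeff p δX δY x : ℤ)) x := fun x _ => by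
    by_cases hx : x ∈ p ⁻¹' {y}
    · simp only [Set.indicator_of_mem hx]
      rw [hγy x hx, Finset.sum_mul]
      exact Finset.sum_congr rfl fun ξ _ => mul_assoc _ _ _
    · simp [Set.indicator_of_notMem hx]
  rw [Finset.sum_congr rfl e1, Finset.sum_comm]
  have e2 : ∀ ξ ∈ S, ∑ x ∈ W, α ξ * (p ⁻¹' {y}).indicator (fun x => c ξ x * (AlgebraicCycle.mapCoeff p δX δY x : ℤ)) x =
      α ξ * ((AlgebraicCycle.mapCoeff p δX δY ξ : ℤ) * Cyc.secDivFun δY L (p ξ) (v (p ξ)) y) := fun ξ hξ => by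
    rw [← Finset.mul_sum, ← map_apply_eq_sum p (c ξ) y W (hW ξ hξ), AlgebraicCycle.map,
      Function.locallyFinsupp.map_apply]
    exact congrArg _ (sum_secDivFun_pullFib p hX hY hδ hL ξ _ (hv _) y)
  rw [Finset.sum_congr rfl e2]
  show _ = ∑ᶠ η : Y, _
  have e3 : ∀ η, η ⤳ y → AlgebraicCycle.map p δX δY α η =
      ∑ ξ ∈ S, if p ξ = η then α ξ * (AlgebraicCycle.mapCoeff p δX δY ξ : ℤ) else 0 := fun η hη => by
    rw [map_apply_eq_sum p α η S fun ξ he h => hS ξ (by rw [show p ξ = η from he]; exact hη) h]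
    refine Finset.sum_congr rfl fun ξ _ => ?_
    simp [Set.indicator_apply]
  rw [finsum_eq_sum_of_support_subset _ (s := S.image p) fun η hη => by
    have h1 := (specializes_of_secDivFun_ne_zero (right_ne_zero_of_mul hη)).1
    have h2 := left_ne_zero_of_mul hη
    rw [e3 η h1] at h2
    obtain ⟨ξ, hξ, hne⟩ := Finset.exists_ne_zero_of_sum_ne_zero h2
    exact Finset.mem_image.2 ⟨ξ, hξ, by_contra fun h => hne (if_neg h)⟩]
  symm
  have e4 : ∀ η ∈ S.image p, AlgebraicCycle.map p δX δY α η * Cyc.secDivFun δY L η (v η) y =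
      ∑ ξ ∈ S, if p ξ = η then α ξ * (AlgebraicCycle.mapCoeff p δX δY ξ : ℤ) * Cyc.secDivFun δY L η (v η) y else 0 :=
    fun η _ => by
    by_cases h : Cyc.secDivFun δY L η (v η) y = 0
    · simp [h]
    rw [e3 η (specializes_of_secDivFun_ne_zero h).1, Finset.sum_mul]
    exact Finset.sum_congr rfl fun ξ _ => by rw [ite_mul, zero_mul]
  rw [Finset.sum_congr rfl e4, Finset.sum_comm]
  refine Finset.sum_congr rfl fun ξ hξ => ?_
  rw [Finset.sum_ite_eq, if_pos (Finset.mem_image_of_mem p hξ), mul_assoc]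

end Groth.Agent.CycLib
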