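import Groth.Agent.CycLib.FibreMult
import Groth.Agent.CycLib.SetupLft

/-! # Proper pushforward commutes with flat pullback -/

set_option autoImplicit false
set_option backward.isDefEq.respectTransparency false
set_option linter.style.haveILetI false

universe u

open CategoryTheory CategoryTheory.Limits AlgebraicGeometry TopologicalSpace

noncomputable section

namespace Groth.Agent.CycLib

/-- A residue extension with vanishing transcendence degree of a morphism locally of finite type is finite. -/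
theorem finite_residue_of_trdeg_zero {X Y : Scheme.{u}} (f : X ⟶ Y) [LocallyOfFiniteType f] (x : X)
    (h : (letI := (f.residueFieldMap x).hom.toAlgebra
      Algebra.trdeg (Y.residueField (f x)) (X.residueField x)) = 0) : (f.residueFieldMap x).hom.Finite := by
  algebraize [(f.residueFieldMap x).hom]
  haveI : Algebra.EssFiniteType (Y.residueField (f x)) (X.residueField x) :=
    RingHom.EssFiniteType.residueFieldMap (LocallyOfFiniteType.stalkMap f x)
  haveI : Algebra.IsAlgebraic (Y.residueField (f x)) (X.residueField x) := trdeg_eq_zero_iff.1 h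
  exact (Algebra.finite_of_essFiniteType_of_isAlgebraic : Module.Finite (Y.residueField (f x)) (X.residueField x))

theorem map_pullFun {X Y X' Y' : Scheme.{u}} {f : X ⟶ Y} {g : Y' ⟶ Y} {g' : X' ⟶ X} {f' : X' ⟶ Y'}
    (hc : IsPullback g' f' f g) [LocallyOfFiniteType f] [QuasiCompact f] [QuasiCompact f']
    [IsLocallyNoetherian X'] [IsLocallyNoetherian Y']
    {δX : X → ℤ} {δY : Y → ℤ} {δX' : X' → ℤ} {δY' : Y' → ℤ} (hY' : Cyc.IsDimFun Y' δY') (hX' : Cyc.IsDimFun X' δX')
    (hf : Cyc.DeltaCompat f δX δY) (hf' : Cyc.DeltaCompat f' δX' δY') {c : ℤ}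
    (hs : IsShift g δY' δY c) (hs' : IsShift g' δX' δX c) (α : AlgebraicCycle X ℤ) (α' : AlgebraicCycle X' ℤ)
    (hα' : ⇑α' = Cyc.pullFun g' δX' δX c ⇑α) :
    ⇑(AlgebraicCycle.map f' δX' δY' α') = Cyc.pullFun g δY' δY c ⇑(AlgebraicCycle.map f δX δY α) := by
  classical
  funext y'
  rw [pullFun_apply, AlgebraicCycle.map, AlgebraicCycle.map, Function.locallyFinsupp.map_apply,
    Function.locallyFinsupp.map_apply]
  have hsq : ∀ w, g (f' w) = f (g' w) := fun w => by
    rw [← Scheme.Hom.comp_apply, ← Scheme.Hom.comp_apply, hc.w]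
  -- the points contributing upstairs
  have hterm : ∀ x', f' x' = y' → α' x' * (AlgebraicCycle.mapCoeff f' δX' δY' x' : ℤ) ≠ 0 →
      δX' x' = δY' y' ∧ δX' x' = δX (g' x') + c ∧ δX (g' x') = δY (f (g' x')) ∧ δY' y' = δY (g y') + c ∧
        α (g' x') ≠ 0 ∧ f'.residueDegree x' ≠ 0 := fun x' hx' h => by
    have h1 := left_ne_zero_of_mul h
    have h2 := right_ne_zero_of_mul h
    rw [hα', pullFun_apply] at h1
    rw [AlgebraicCycle.mapCoeff] at h2
    split_ifs at h1 with e1
    split_ifs at h2 with e2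
    · change δX' x' = δY' (f' x') at e2
      obtain ⟨n, hn, e3⟩ := hf (g' x')
      have e4 := hs.le hY' y'
      rw [hx'] at e2
      have e5 : δY (g y') = δY (f (g' x')) := by rw [← hsq x', hx']
      refine ⟨e2, e1, ?_, ?_, left_ne_zero_of_mul h1, fun h0 => h2 (by rw [h0]; rfl)⟩ <;> omega
    all_goals first | exact absurd rfl h1 | exact absurd rfl h2
  by_cases hy : δY' y' = δY (g y') + c
  swap
  · rw [if_neg hy]
    exact finsum_mem_eq_zero_of_forall_eq_zero fun x' hx' => by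
      by_contra h
      exact hy (hterm x' hx' h).2.2.2.1
  rw [if_pos hy]
  have hmax : MaxFib g y' := hs.maxFib_of_eq hY' hy
  let T := {x : X | f x = g y' ∧ δX x = δY (f x) ∧ α x ≠ 0}
  have hT : T.Finite := by
    have hK : IsCompact (f ⁻¹' {g y'}) := f.isCompact_preimage_singleton (g y')
    exact (α.locallyFiniteSupport.finite_inter_support_of_isCompact hK).subset fun x hx => ⟨hx.1, hx.2.2⟩
  have hfin : ∀ x ∈ T, (f.residueFieldMap x).hom.Finite := fun x hx => by
    obtain ⟨n, hn, e⟩ := hf x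
    have h0 : n = 0 := by have := hx.2.1; omega
    rw [h0, Nat.cast_zero] at hn
    exact finite_residue_of_trdeg_zero f x hn
  have key : ∀ x ∈ T, ∑ᶠ x' ∈ {x' : X' | g' x' = x ∧ f' x' = y'},
      α' x' * (AlgebraicCycle.mapCoeff f' δX' δY' x' : ℤ) =
      α x * (AlgebraicCycle.mapCoeff f δX δY x : ℤ) *
        ((Module.length (Y'.presheaf.stalk y') (Y'.presheaf.stalk y' ⧸ fibIdeal g y')).toNat : ℤ) := fun x hx => by
    obtain ⟨hfi, hsum⟩ := sum_mult_baseChange hc x (hfin x hx) y' hx.1.symm hmax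
    rw [AlgebraicCycle.mapCoeff, if_pos hx.2.1, mul_assoc, ← hsum, finsum_mem_eq_finite_toFinset_sum _ hfi,
      finsum_mem_eq_finite_toFinset_sum _ hfi, Finset.mul_sum]
    refine Finset.sum_congr rfl fun x' hx' => ?_
    obtain ⟨h1, h2⟩ : g' x' = x ∧ f' x' = y' := hfi.mem_toFinset.1 hx'
    -- the point has finite residue extension
    have hmax' : MaxFib g' x' := maxFib_baseChange hc x (hfin x hx) x' h1 (h2 ▸ hmax)
    have e1 : δX' x' = δX (g' x') + c := hs' x' hmax'
    have e2 : δX' x' = δY' (f' x') := by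
      rw [e1, h1, h2, hx.2.1, hy, hx.1]
    rw [hα', pullFun_apply, if_pos e1, AlgebraicCycle.mapCoeff, if_pos e2, h1]
    ring
  have hdisj : (↑hT.toFinset : Set X).PairwiseDisjoint fun x => {x' : X' | g' x' = x ∧ f' x' = y'} :=
    fun a _ b _ hab => Set.disjoint_left.2 fun w hw hw' => hab (hw.1.symm.trans hw'.1)
  have hSfin : ∀ x ∈ T, {x' : X' | g' x' = x ∧ f' x' = y'}.Finite := fun x hx =>
    (sum_mult_baseChange hc x (hfin x hx) y' hx.1.symm hmax).1
  rw [finsum_mem_inter_support_eq (f := fun x' => α' x' * (AlgebraicCycle.mapCoeff f' δX' δY' x' : ℤ))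
      (s := f' ⁻¹' {y'}) (t := ⋃ x ∈ T, {x' : X' | g' x' = x ∧ f' x' = y'}) ?_,
    finsum_mem_inter_support_eq (f := fun x => α x * (AlgebraicCycle.mapCoeff f δX δY x : ℤ))
      (s := f ⁻¹' {g y'}) (t := T) ?_, finsum_mem_biUnion (fun a ha b hb => hdisj (hT.mem_toFinset.2 ha) (hT.mem_toFinset.2 hb)) hT hSfin,
    finsum_mem_eq_finite_toFinset_sum _ hT, finsum_mem_eq_finite_toFinset_sum _ hT, Finset.sum_mul]
  · exact Finset.sum_congr rfl fun x hx => key x (hT.mem_toFinset.1 hx)
  · ext x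
    refine ⟨fun ⟨h1, h2⟩ => ⟨⟨h1, ?_, left_ne_zero_of_mul h2⟩, h2⟩, fun ⟨h1, h2⟩ => ⟨h1.1, h2⟩⟩
    by_contra h
    exact h2 (by simp [AlgebraicCycle.mapCoeff, h])
  · ext x'
    refine ⟨fun ⟨h1, h2⟩ => ⟨?_, h2⟩, fun ⟨h1, h2⟩ => ⟨?_, h2⟩⟩
    · obtain ⟨-, -, h3, -, h4, -⟩ := hterm x' h1 h2
      exact Set.mem_biUnion (show g' x' ∈ T from ⟨by rw [← hsq, h1], h3, h4⟩) ⟨rfl, h1⟩
    · simp only [Set.mem_iUnion] at h1
      obtain ⟨x, -, h3⟩ := h1
      exact h3.2

end Groth.Agent.CycLib
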