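import Groth.Agent.CycLib.Div
import Groth.Agent.TameLib.Semilocal

/-! # Orders and preimmersions -/

set_option autoImplicit false
set_option backward.isDefEq.respectTransparency false
set_option linter.style.haveILetI false

universe u

open CategoryTheory AlgebraicGeometry TopologicalSpace

noncomputable section

namespace Groth.Agent.CycLib

variable {X Y : Scheme.{u}} (f : Y ⟶ X)

theorem residueFieldMap_residue (y : Y) (a : X.presheaf.stalk (f y)) :
    f.residueFieldMap y (X.residue (f y) a) = Y.residue y (f.stalkMap y a) :=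
  congrArg (fun φ => φ a) (Scheme.residue_residueFieldMap f y)

theorem residueFieldMap_specMap {η y : Y} (h : η ⤳ y) (h' : f η ⤳ f y) (a : X.presheaf.stalk (f y)) :
    f.residueFieldMap η (Cyc.specMap (f y) (f η) h' a) = Cyc.specMap y η h (f.stalkMap y a) := by
  show f.residueFieldMap η (X.residue (f η) (X.presheaf.stalkSpecializes h' a)) =
    Y.residue η (Y.presheaf.stalkSpecializes h (f.stalkMap y a))
  rw [residueFieldMap_residue]
  congr 1
  exact congrArg (fun φ => φ a) (f.stalkSpecializes_stalkMap η y h)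

variable [SurjectiveOnStalks f]

theorem bijective_residueFieldMap (y : Y) : Function.Bijective (f.residueFieldMap y) := by
  refine ⟨(f.residueFieldMap y).hom.injective, fun z => ?_⟩
  obtain ⟨ζ, rfl⟩ := Y.residue_surjective y z
  obtain ⟨a, rfl⟩ := f.stalkMap_surjective y ζ
  exact ⟨X.residue (f y) a, residueFieldMap_residue f y a⟩

variable [IsLocallyNoetherian X] [IsLocallyNoetherian Y] {δ : X → ℤ} {δY : Y → ℤ}

/-- Orders are unchanged by maps which are surjective on stalks. -/
theorem ordAt_map (hδ : Cyc.IsDimFun X δ) (hδY : Cyc.IsDimFun Y δY) {η y : Y} (h : η ⤳ y) (h' : f η ⤳ f y)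
    (hdY : δY y + 1 = δY η) (hd : δ (f y) + 1 = δ (f η)) (g : X.residueField (f η)) :
    Cyc.ordAt y η h (f.residueFieldMap η g) = Cyc.ordAt (f y) (f η) h' g := by
  rcases eq_or_ne g 0 with rfl | hg
  · rw [map_zero, ordAt_zero hδY h hdY, ordAt_zero hδ h' hd]
  obtain ⟨a, b, hb, rfl⟩ := exists_fraction h' g
  have ha : Cyc.specMap (f y) (f η) h' a ≠ 0 := fun e => hg (by rw [e, zero_div])
  have hinj := (bijective_residueFieldMap f η).1
  have hm : ∀ c, Cyc.specMap (f y) (f η) h' c ≠ 0 → Cyc.specMap y η h (f.stalkMap y c) ≠ 0 := fun c hc e =>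
    hc (hinj (by rw [residueFieldMap_specMap f h h', e, map_zero]))
  let φ : Cyc.LocQuot (f y) (f η) h' →+* Cyc.LocQuot y η h :=
    Ideal.Quotient.lift _ ((Ideal.Quotient.mk _).comp (f.stalkMap y).hom) fun c hc => by
      rw [RingHom.comp_apply, Ideal.Quotient.eq_zero_iff_mem, RingHom.mem_ker]
      show Cyc.specMap y η h (f.stalkMap y c) = 0
      rw [← residueFieldMap_specMap f h h', RingHom.mem_ker.1 hc, map_zero]
  have hφ : Function.Bijective φ := by
    refine ⟨fun p q e => ?_, fun q => ?_⟩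
    · obtain ⟨p, rfl⟩ := Ideal.Quotient.mk_surjective p
      obtain ⟨q, rfl⟩ := Ideal.Quotient.mk_surjective q
      have e' : Ideal.Quotient.mk (RingHom.ker (Cyc.specMap y η h)) (f.stalkMap y p) =
          Ideal.Quotient.mk _ (f.stalkMap y q) := e
      rw [Ideal.Quotient.eq, RingHom.mem_ker, map_sub, ← residueFieldMap_specMap f h h',
        ← residueFieldMap_specMap f h h', ← map_sub] at e'
      rw [Ideal.Quotient.eq, RingHom.mem_ker, map_sub]
      exact hinj (e'.trans (map_zero _).symm)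
    · obtain ⟨q, rfl⟩ := Ideal.Quotient.mk_surjective q
      obtain ⟨p, rfl⟩ := f.stalkMap_surjective y q
      exact ⟨Ideal.Quotient.mk _ p, rfl⟩
  have he : ∀ c, Cyc.specMap (f y) (f η) h' c ≠ 0 →
      Cyc.ordAt y η h (f.residueFieldMap η (Cyc.specMap (f y) (f η) h' c)) =
        Cyc.ordAt (f y) (f η) h' (Cyc.specMap (f y) (f η) h' c) := fun c hc => by
    rw [residueFieldMap_specMap f h h', ordAt_specMap hδY h hdY (hm c hc), ordAt_specMap hδ h' hd hc,
      show Ideal.Quotient.mk (RingHom.ker (Cyc.specMap y η h)) (f.stalkMap y c) =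
        RingEquiv.ofBijective φ hφ (Ideal.Quotient.mk _ c) from rfl, TameLib.ord_ringEquiv]
  rw [div_eq_mul_inv, map_mul, map_inv₀, ordAt_mul hδ h' hd ha (inv_ne_zero hb), ordAt_inv hδ h' hd hb,
    ordAt_mul hδY h hdY, ordAt_inv hδY h hdY, he a ha, he b hb]
  · exact fun e => hb (hinj (e.trans (map_zero _).symm))
  · exact fun e => ha (hinj (e.trans (map_zero _).symm))
  · exact inv_ne_zero fun e => hb (hinj (e.trans (map_zero _).symm))

/-- Principal divisors restrict along immersions. -/
theorem divFun_map [IsPreimmersion f] (hδ : Cyc.IsDimFun X δ) (hδY : Cyc.IsDimFun Y fun y => δ (f y)) (η y : Y)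
    (g : X.residueField (f η)) :
    Cyc.divFun (fun y => δ (f y)) η (f.residueFieldMap η g) y = Cyc.divFun δ (f η) g (f y) := by
  by_cases h : η ⤳ y ∧ δ (f y) + 1 = δ (f η)
  · rw [divFun_of (δ := fun y => δ (f y)) h.1 h.2, divFun_of (h.1.map f.continuous) h.2,
      ordAt_map f hδ hδY h.1 (h.1.map f.continuous) h.2 h.2]
  · rw [Cyc.divFun, Cyc.divFun, dif_neg h, dif_neg fun h' => h ⟨f.isEmbedding.isInducing.specializes_iff.1 h'.1, h'.2⟩]

omit [SurjectiveOnStalks f] [IsLocallyNoetherian X] [IsLocallyNoetherian Y] in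
theorem isDimFun_open (U : X.Opens) (hδ : Cyc.IsDimFun X δ) :
    Cyc.IsDimFun (U : Scheme.{u}) fun u : U => δ (U.ι u) := fun a b hab hne => by
  have he := U.ι.isOpenEmbedding
  refine ⟨(hδ _ _ (hab.map U.ι.continuous) (he.injective.ne hne)).1, fun hz =>
    (hδ _ _ (hab.map U.ι.continuous) (he.injective.ne hne)).2 fun z h1 h2 => ?_⟩
  obtain ⟨z, rfl⟩ : z ∈ Set.range U.ι := h2.mem_open he.isOpen_range ⟨b, rfl⟩
  rcases hz z (he.isInducing.specializes_iff.1 h1) (he.isInducing.specializes_iff.1 h2) with rfl | rfl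
  exacts [Or.inl rfl, Or.inr rfl]

end Groth.Agent.CycLib
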