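import Groth.Agent.CycLib.NormDiv
import Groth.Agent.S6459
import Mathlib.AlgebraicGeometry.Morphisms.Finite

/-! # The pushforward of a principal divisor is the divisor of the norm -/

set_option autoImplicit false
set_option backward.isDefEq.respectTransparency false
set_option linter.style.haveILetI false

universe u

open CategoryTheory AlgebraicGeometry TopologicalSpace

noncomputable section

namespace Groth.Agent.CycLib

theorem exists_affine_finite_app {X Y : Scheme.{u}} (p : X ⟶ Y) {V : Y.Opens} [IsFinite (p ∣_ V)] {y : Y} (hy : y ∈ V) :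
    ∃ W : Y.Opens, IsAffineOpen W ∧ IsAffineOpen (p ⁻¹ᵁ W) ∧ (p.app W).hom.Finite ∧ y ∈ W := by
  obtain ⟨W, hW, hyW, hWV⟩ := exists_isAffineOpen_mem_and_subset (x := y) (U := V) hy
  refine ⟨W, hW, ?_⟩
  have hWV' : V.ι ''ᵁ V.ι ⁻¹ᵁ W = W := by
    rw [Scheme.Hom.image_preimage_eq_opensRange_inf, Scheme.Opens.opensRange_ι, inf_eq_right]
    exact hWV
  have hW' : IsAffineOpen (V.ι ⁻¹ᵁ W) := (hW.preimage_of_isOpenImmersion V.ι (by
    rw [Scheme.Opens.opensRange_ι]
    exact hWV))
  have h1 := IsFinite.finite_app (p ∣_ V) (V.ι ⁻¹ᵁ W) hW'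
  rw [morphismRestrict_app, CommRingCat.hom_comp] at h1
  have h2 : (p.app (V.ι ''ᵁ V.ι ⁻¹ᵁ W)).hom.Finite := by
    let e := X.presheaf.map (eqToHom (image_morphismRestrict_preimage p V (V.ι ⁻¹ᵁ W))).op
    have h3 := (RingHom.Finite.of_surjective _ (ConcreteCategory.bijective_of_isIso (inv e)).2).comp h1
    rwa [← RingHom.comp_assoc, ← CommRingCat.hom_comp, IsIso.hom_inv_id, CommRingCat.hom_id, RingHom.id_comp] at h3
  have h4 : IsAffineOpen (p ⁻¹ᵁ (V.ι ''ᵁ V.ι ⁻¹ᵁ W)) := by
    rw [← image_morphismRestrict_preimage]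
    exact (hW'.preimage (p ∣_ V)).image_of_isOpenImmersion _
  rw [hWV'] at h2 h4
  exact ⟨h4, h2, hyW⟩

variable {X Y : Scheme.{u}} [IsIntegral X] [IsIntegral Y] {δX : X → ℤ} {δY : Y → ℤ} (p : X ⟶ Y) [IsProper p]

/-- The norm formula. -/
theorem map_divFun (hX : Cyc.IsSetup X δX) (hY : Cyc.IsSetup Y δY) (hδ : Cyc.DeltaCompat p δX δY)
    (hdom : p (genericPoint X) = genericPoint Y) (hn : δX (genericPoint X) = δY (genericPoint Y))
    (f : X.residueField (genericPoint X)) (hf : f ≠ 0) (y : Y) :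
    ∑ᶠ x ∈ p ⁻¹' {y}, Cyc.divFun δX (genericPoint X) f x * (AlgebraicCycle.mapCoeff p δX δY x : ℤ) =
      Cyc.divFun δY (p (genericPoint X)) (Cyc.normGen p (genericPoint X) f) y := by
  haveI := hX.1
  haveI := hY.1
  have hδX := hX.2.2
  have hδY := hY.2.2
  have hyη : p (genericPoint X) ⤳ y := hdom ▸ genericPoint_specializes y
  have hηY : δY (p (genericPoint X)) = δY (genericPoint Y) := congrArg δY hdom
  by_cases hd : δY y + 1 = δY (p (genericPoint X))
  swap
  · rw [show Cyc.divFun δY (p (genericPoint X)) (Cyc.normGen p (genericPoint X) f) y = 0 from dif_neg fun h => hd h.2,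
      finsum_mem_def]
    refine finsum_eq_zero_of_forall_eq_zero fun x => ?_
    by_contra hne
    change Set.indicator _ _ _ ≠ (0 : ℤ) at hne
    rw [Set.indicator_apply_ne_zero] at hne
    obtain ⟨hx, hne⟩ := hne
    change p x = y at hx
    change _ ≠ (0 : ℤ) at hne
    have h1 := (specializes_of_divFun_ne_zero (left_ne_zero_of_mul hne)).2
    have h2 := right_ne_zero_of_mul hne
    rw [AlgebraicCycle.mapCoeff] at h2
    split_ifs at h2 with h3
    · change δX x = δY (p x) at h3
      rw [hx] at h3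
      omega
    · simp at h2
  have hne : y ≠ p (genericPoint X) := fun e => by rw [e] at hd; omega
  have hfib : ∀ x, p x = y → δX x + 1 = δX (genericPoint X) := fun x hx => by
    obtain ⟨n, -, hn'⟩ := hδ x
    have hxη : genericPoint X ≠ x := fun e => hne (by rw [← hx, ← e])
    have := (hδX _ _ (genericPoint_specializes x) hxη).1
    rw [hx] at hn'
    omega
  rw [divFun_of hyη hd]
  have hdim : ringKrullDim (Y.presheaf.stalk y) = 1 := (S6459.result Y δY hY y).2 (by omega)
  have hfin : (p.residueFieldMap (genericPoint X)).hom.Finite := by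
    rcases S1862.result X Y δX δY hX hY p hδ hn with h | h
    · refine absurd ?_ h
      refine Dense.mono (Set.singleton_subset_iff.2 ⟨genericPoint X, hdom⟩) ?_
      rw [dense_iff_closure_eq]
      exact (genericPoint_spec Y).def
    · exact h.2
  obtain ⟨V, hyV, hV⟩ := S1867.result X Y p hdom hfin y hdim
  obtain ⟨W, hW, hU, hWfin, hyW⟩ := exists_affine_finite_app p hyV
  have hηU : genericPoint X ∈ p ⁻¹ᵁ W := hyη.mem_open W.2 hyW
  obtain ⟨a, b, hb, hab⟩ := exists_fraction_affine (specializes_rfl (x := genericPoint X)) hU hηU f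
  rw [specMap_germ _ hηU hηU, specMap_germ _ hηU hηU] at hab
  set fa := X.residue (genericPoint X) (X.presheaf.germ (p ⁻¹ᵁ W) (genericPoint X) hηU a)
  set fb := X.residue (genericPoint X) (X.presheaf.germ (p ⁻¹ᵁ W) (genericPoint X) hηU b)
  have ha : fa ≠ 0 := fun e => hf (by rw [hab, e, zero_div])
  obtain ⟨hfinite, ea⟩ := sum_fibre_eq p hδX hδY hdom hfin hyη hd hfib hW hU hWfin hyW a hηU ha
  obtain ⟨-, eb⟩ := sum_fibre_eq p hδX hδY hdom hfin hyη hd hfib hW hU hWfin hyW b hηU hb
  have hN : ∀ g : X.residueField (genericPoint X), g ≠ 0 → Cyc.normGen p (genericPoint X) g ≠ 0 := fun g hg => by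
    letI := (p.residueFieldMap (genericPoint X)).hom.toAlgebra
    haveI : Module.Finite (Y.residueField (p (genericPoint X))) (X.residueField (genericPoint X)) := hfin
    exact Algebra.norm_ne_zero_iff.2 hg
  have hNdiv : Cyc.normGen p (genericPoint X) f =
      Cyc.normGen p (genericPoint X) fa / Cyc.normGen p (genericPoint X) fb := by
    rw [eq_div_iff (hN fb hb), hab]
    letI := (p.residueFieldMap (genericPoint X)).hom.toAlgebra
    show Algebra.norm _ (fa / fb) * Algebra.norm _ fb = Algebra.norm _ fa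
    rw [← map_mul, div_mul_cancel₀ _ hb]
  rw [hNdiv, div_eq_mul_inv, ordAt_mul hδY hyη hd (hN fa ha) (inv_ne_zero (hN fb hb)), ordAt_inv hδY hyη hd (hN fb hb),
    ← ea, ← eb, ← sub_eq_add_neg, ← finsum_mem_sub_distrib _ _ hfinite]
  refine finsum_mem_congr rfl fun x hx => ?_
  change p x = y at hx
  have hgx := genericPoint_specializes x
  have hdx := hfib x hx
  have hcoef : δX x = δY (p x) := by rw [hx]; omega
  rw [AlgebraicCycle.mapCoeff, if_pos hcoef, divFun_of hgx hdx, divFun_of hgx hdx, divFun_of hgx hdx, hab, div_eq_mul_inv,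
    ordAt_mul hδX hgx hdx ha (inv_ne_zero hb), ordAt_inv hδX hgx hdx hb]
  ring

end Groth.Agent.CycLib
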