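import Groth.Agent.CycLib.DegZero
import Groth.Agent.CycLib.NormPush
import Groth.Agent.CycLib.Closed
import Groth.Agent.CurveLib.Components
import Groth.Agent.RatliffLib.Formal
import Groth.Agent.FlatDim.Trdeg

/-! # Proper push forward of principal divisors of closed integral subschemes -/

set_option autoImplicit false
set_option backward.isDefEq.respectTransparency false
set_option linter.style.haveILetI false

universe u

open CategoryTheory CategoryTheory.Limits AlgebraicGeometry TopologicalSpace

noncomputable section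

namespace Groth.Agent.CycLib

theorem isSetup_closed {X Z : Scheme.{u}} (i : Z ⟶ X) [IsClosedImmersion i] {δ : X → ℤ} (hX : Cyc.IsSetup X δ) :
    Cyc.IsSetup Z fun z => δ (i z) := by
  haveI := hX.1
  exact ⟨isLocallyNoetherian_closed i, fun z => RatliffLib.isUniversallyCatenary_of_surjective
    (i.stalkMap z).hom (i.stalkMap_surjective z) (hX.2.1 (i z)), isDimFun_closed i hX.2.2⟩

theorem resTrdegAt_congr {X Y : Scheme.{u}} {f g : X ⟶ Y} (e : f = g) (x : X) :
    DimFormulaLib.resTrdegAt f x = DimFormulaLib.resTrdegAt g x := by subst e; rfl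

section square

variable {X Y Z W : Scheme.{u}} {δX : X → ℤ} {δY : Y → ℤ} {p : X ⟶ Y} {q : Z ⟶ W} {i : Z ⟶ X} {j : W ⟶ Y}
  [IsClosedImmersion i] [IsClosedImmersion j]

theorem deltaCompat_square (hδ : Cyc.DeltaCompat p δX δY) (e : q ≫ j = i ≫ p) :
    Cyc.DeltaCompat q (fun z => δX (i z)) fun w => δY (j w) := fun z => by
  obtain ⟨n, hn, hn'⟩ := hδ (i z)
  have he : j (q z) = p (i z) := by rw [← Scheme.Hom.comp_apply, e, Scheme.Hom.comp_apply]
  refine ⟨n, ?_, by show δX (i z) = δY (j (q z)) + n; rw [hn', he]⟩
  have h := resTrdegAt_congr e z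
  rw [FlatDim.resTrdegAt_comp, FlatDim.resTrdegAt_comp, FlatDim.resTrdegAt_preimmersion j,
    FlatDim.resTrdegAt_preimmersion i, zero_add, add_zero] at h
  exact h.trans hn

theorem residueDegree_square (e : q ≫ j = i ≫ p) (z : Z) : q.residueDegree z = p.residueDegree (i z) := by
  rw [← residueDegree_comp_right q j z (bijective_residueFieldMap j _), residueDegree_congr e z,
    residueDegree_comp_left i p z (bijective_residueFieldMap i z)]

theorem mapCoeff_square (e : q ≫ j = i ≫ p) (z : Z) :
    AlgebraicCycle.mapCoeff q (fun z => δX (i z)) (fun w => δY (j w)) z = AlgebraicCycle.mapCoeff p δX δY (i z) := by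
  have he : j (q z) = p (i z) := by rw [← Scheme.Hom.comp_apply, e, Scheme.Hom.comp_apply]
  show (if δX (i z) = δY (j (q z)) then q.residueDegree z else 0) =
    if δX (i z) = δY (p (i z)) then p.residueDegree (i z) else 0
  rw [he, residueDegree_square e]

theorem normGen_square (e : q ≫ j = i ≫ p) (η : Z) (g : X.residueField (i η))
    (he : j (q η) = p (i η)) :
    Cyc.normGen q η (i.residueFieldMap η g) =
      j.residueFieldMap (q η) ((Y.residueFieldCongr he.symm).hom (Cyc.normGen p (i η) g)) := by
  let φ : Y.residueField (p (i η)) →+* W.residueField (q η) :=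
    (j.residueFieldMap (q η)).hom.comp (Y.residueFieldCongr he.symm).hom.hom
  have hφ : Function.Bijective φ :=
    (bijective_residueFieldMap j (q η)).comp (ConcreteCategory.bijective_of_isIso (Y.residueFieldCongr he.symm).hom)
  have hsq : ∀ r, q.residueFieldMap η (φ r) = i.residueFieldMap η (p.residueFieldMap (i η) r) := by
    have key : ∀ (f f' : Z ⟶ Y) (hf : f = f') (h : f η = f' η) (r : Y.residueField (f' η)),
        f.residueFieldMap η ((Y.residueFieldCongr h.symm).hom r) = f'.residueFieldMap η r := by
      rintro f f' rfl h r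
      simp
    intro r
    have h := key _ _ e (by rw [Scheme.Hom.comp_apply, Scheme.Hom.comp_apply]; exact he) r
    rw [Scheme.residueFieldMap_comp, Scheme.residueFieldMap_comp] at h
    exact h
  letI := (q.residueFieldMap η).hom.toAlgebra
  letI := (p.residueFieldMap (i η)).hom.toAlgebra
  show Algebra.norm (W.residueField (q η)) (i.residueFieldMap η g) = φ (Algebra.norm (Y.residueField (p (i η))) g)
  rw [Algebra.norm_eq_of_equiv_equiv (RingEquiv.ofBijective φ hφ)
    (RingEquiv.ofBijective (i.residueFieldMap η).hom (bijective_residueFieldMap i η)) (RingHom.ext hsq) g]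
  exact ((RingEquiv.ofBijective φ hφ).apply_symm_apply _).symm

end square

variable {X Y : Scheme.{u}} (p : X ⟶ Y) [IsProper p] {δX : X → ℤ} {δY : Y → ℤ}

/-- Push forward of a principal divisor: the divisor of the norm, or zero. -/
theorem sum_divFun (hX : Cyc.IsSetup X δX) (hY : Cyc.IsSetup Y δY) (hδ : Cyc.DeltaCompat p δX δY)
    (ξ : X) (f : X.residueField ξ) (hf : f ≠ 0) (y : Y) :
    ∑ᶠ x ∈ p ⁻¹' {y}, Cyc.divFun δX ξ f x * (AlgebraicCycle.mapCoeff p δX δY x : ℤ) =
      if δX ξ = δY (p ξ) then Cyc.divFun δY (p ξ) (Cyc.normGen p ξ f) y else 0 := by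
  classical
  haveI := hX.1
  haveI := hY.1
  let CX : Closeds X := ⟨closure {ξ}, isClosed_closure⟩
  let CY : Closeds Y := ⟨closure {p ξ}, isClosed_closure⟩
  let IX := Scheme.IdealSheafData.vanishingIdeal CX
  let IY := Scheme.IdealSheafData.vanishingIdeal CY
  let i := IX.subschemeι
  let j := IY.subschemeι
  haveI : IsIntegral IX.subscheme :=
    CurveLib.isIntegral_vanishingIdeal isClosed_closure isIrreducible_singleton.closure
  haveI : IsIntegral IY.subscheme :=
    CurveLib.isIntegral_vanishingIdeal isClosed_closure isIrreducible_singleton.closure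
  have hri : Set.range i = closure {ξ} := by
    rw [Scheme.IdealSheafData.range_subschemeι, Scheme.IdealSheafData.coe_support_vanishingIdeal]
    rfl
  have hrj : Set.range j = closure {p ξ} := by
    rw [Scheme.IdealSheafData.range_subschemeι, Scheme.IdealSheafData.coe_support_vanishingIdeal]
    rfl
  have hgi : i (genericPoint IX.subscheme) = ξ := by
    refine ((genericPoint_spec IX.subscheme).image i.continuous).eq ?_
    rw [Set.image_univ, hri, closure_closure]
    exact isGenericPoint_closure
  have hgj : j (genericPoint IY.subscheme) = p ξ := by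
    refine ((genericPoint_spec IY.subscheme).image j.continuous).eq ?_
    rw [Set.image_univ, hrj, closure_closure]
    exact isGenericPoint_closure
  have hmaps : ∀ z, p (i z) ∈ Set.range j := fun z => by
    rw [hrj, ← specializes_iff_mem_closure]
    exact (specializes_iff_mem_closure.2 (hri.le ⟨z, rfl⟩)).map p.continuous
  haveI : Surjective (pullback.fst (i ≫ p) j) := ⟨fun z => by
    obtain ⟨w, hw⟩ := hmaps z
    obtain ⟨a, ha, -⟩ := Scheme.Pullback.exists_preimage_pullback (f := i ≫ p) (g := j) z w
      (by rw [Scheme.Hom.comp_apply]; exact hw.symm)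
    exact ⟨a, ha⟩⟩
  haveI : IsIso (pullback.fst (i ≫ p) j) := isIso_of_isClosedImmersion_of_surjective _
  let q : IX.subscheme ⟶ IY.subscheme := inv (pullback.fst (i ≫ p) j) ≫ pullback.snd (i ≫ p) j
  have e : q ≫ j = i ≫ p := by
    rw [Category.assoc, ← pullback.condition, ← Category.assoc, IsIso.inv_hom_id, Category.id_comp]
  have he : ∀ z, j (q z) = p (i z) := fun z => by rw [← Scheme.Hom.comp_apply, e, Scheme.Hom.comp_apply]
  haveI : IsProper q := by
    haveI : IsProper (q ≫ j) := by rw [e]; infer_instance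
    exact IsProper.of_comp q j
  have hZ := isSetup_closed i hX
  have hW := isSetup_closed j hY
  haveI := hZ.1
  haveI := hW.1
  have hdom : q (genericPoint IX.subscheme) = genericPoint IY.subscheme :=
    j.isEmbedding.injective (by rw [he, hgi, hgj])
  -- move the function to the subscheme
  have transport : ∀ (a : X) (ea : a = ξ), ∃ g : X.residueField a, g ≠ 0 ∧
      (∀ x, Cyc.divFun δX ξ f x = Cyc.divFun δX a g x) ∧
      ∀ (b : Y) (eb : b = p a), Cyc.divFun δY (p ξ) (Cyc.normGen p ξ f) y =
        Cyc.divFun δY b ((Y.residueFieldCongr eb.symm).hom (Cyc.normGen p a g)) y := by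
    rintro a rfl
    refine ⟨f, hf, fun x => rfl, ?_⟩
    rintro b rfl
    simp
  obtain ⟨g, hg, hdiv, hnorm⟩ := transport _ hgi
  have hg' : i.residueFieldMap (genericPoint IX.subscheme) g ≠ 0 := fun h0 =>
    hg ((bijective_residueFieldMap i _).1 (h0.trans (map_zero _).symm))
  have hsupp : ∀ x, Cyc.divFun δX ξ f x ≠ 0 → x ∈ Set.range i := fun x hx => by
    rw [hri, ← specializes_iff_mem_closure]
    exact (specializes_of_divFun_ne_zero hx).1
  rw [finsum_mem_def, finsum_closed i _ (fun x hx => hsupp x (by
    rw [Set.indicator_apply_ne_zero] at hx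
    exact left_ne_zero_of_mul hx.2))]
  have hterm : ∀ z, (p ⁻¹' {y}).indicator (fun x => Cyc.divFun δX ξ f x * (AlgebraicCycle.mapCoeff p δX δY x : ℤ)) (i z) =
      (q ⁻¹' (j ⁻¹' {y})).indicator (fun z => Cyc.divFun (fun z => δX (i z)) (genericPoint IX.subscheme)
        (i.residueFieldMap (genericPoint IX.subscheme) g) z *
          (AlgebraicCycle.mapCoeff q (fun z => δX (i z)) (fun w => δY (j w)) z : ℤ)) z := fun z => by
    have hmem : i z ∈ p ⁻¹' {y} ↔ z ∈ q ⁻¹' (j ⁻¹' {y}) := by
      show p (i z) = y ↔ j (q z) = y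
      rw [he]
    by_cases hz : i z ∈ p ⁻¹' {y}
    · rw [Set.indicator_of_mem hz, Set.indicator_of_mem (hmem.1 hz), mapCoeff_square e, hdiv,
        divFun_map i hX.2.2 hZ.2.2 _ z g]
    · rw [Set.indicator_of_notMem hz, Set.indicator_of_notMem fun h => hz (hmem.2 h)]
  rw [finsum_congr hterm, ← finsum_mem_def]
  by_cases hy : y ∈ Set.range j
  swap
  · rw [show j ⁻¹' {y} = ∅ from Set.eq_empty_of_forall_notMem fun w hw => hy ⟨w, hw⟩, Set.preimage_empty,
      finsum_mem_empty, eq_comm, ite_eq_right_iff]
    intro _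
    by_contra hne
    exact hy (by
      rw [hrj, ← specializes_iff_mem_closure]
      exact (specializes_of_divFun_ne_zero hne).1)
  obtain ⟨w, rfl⟩ := hy
  rw [show j ⁻¹' {j w} = {w} from Set.ext fun v =>
    ⟨fun h => j.isEmbedding.injective h, fun h => congrArg j h⟩]
  have hcompat := deltaCompat_square hδ e
  have hiff : δX ξ = δY (p ξ) ↔
      (fun z => δX (i z)) (genericPoint IX.subscheme) = (fun w => δY (j w)) (genericPoint IY.subscheme) := by
    show δX ξ = δY (p ξ) ↔ δX (i _) = δY (j _)
    rw [hgi, hgj]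
  by_cases hcase : δX ξ = δY (p ξ)
  · rw [if_pos hcase, map_divFun q hZ hW hcompat hdom (hiff.1 hcase) _ hg' w, hnorm _ (he _),
      normGen_square e _ g (he _), divFun_map j hY.2.2 hW.2.2]
  · rw [if_neg hcase]
    exact map_divFun_eq_zero q hZ hW hcompat hdom (fun h => hcase (hiff.2 h)) _ hg' w

end Groth.Agent.CycLib
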