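import Mathlib.AlgebraicGeometry.Morphisms.ClosedImmersion
import Mathlib.AlgebraicGeometry.Stalk
import Mathlib.AlgebraicGeometry.Pullbacks

/-! # The ideal of the base change of a principal closed subscheme -/

set_option autoImplicit false
set_option backward.isDefEq.respectTransparency false
set_option linter.style.haveILetI false

universe u

open CategoryTheory CategoryTheory.Limits AlgebraicGeometry

noncomputable section

namespace Groth.Agent.CycLib

variable {X X' D : Scheme.{u}} (f : X' ⟶ X) (i : D ⟶ X) [IsClosedImmersion i]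

theorem ker_stalkMap_fst (z : ↥(pullback f i)) {b : X.presheaf.stalk (i (pullback.snd f i z))}
    (hker : RingHom.ker (i.stalkMap (pullback.snd f i z)).hom = Ideal.span {b})
    (e : f (pullback.fst f i z) ⤳ i (pullback.snd f i z)) :
    RingHom.ker ((pullback.fst f i).stalkMap z).hom =
      Ideal.span {f.stalkMap (pullback.fst f i z) (X.presheaf.stalkSpecializes e b)} := by
  set x := pullback.fst f i z with hx
  have hle : Ideal.span {f.stalkMap x (X.presheaf.stalkSpecializes e b)} ≤
      RingHom.ker ((pullback.fst f i).stalkMap z).hom := by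
    rw [Ideal.span_singleton_le_iff_mem, RingHom.mem_ker]
    show (f.stalkMap x ≫ (pullback.fst f i).stalkMap z) (X.presheaf.stalkSpecializes e b) = 0
    rw [← Scheme.Hom.stalkMap_comp, Scheme.Hom.stalkMap_congr_hom _ _ (pullback.condition (f := f) (g := i)),
      Scheme.Hom.stalkMap_comp, CommRingCat.comp_apply, CommRingCat.comp_apply, TopCat.Presheaf.stalkCongr_hom]
    refine Eq.trans (congrArg _ ?_) (map_zero ((pullback.snd f i).stalkMap z).hom)
    refine RingHom.mem_ker.1 ?_
    rw [hker]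
    refine Ideal.mem_span_singleton'.2 ⟨1, ?_⟩
    rw [one_mul]
    refine Eq.symm ?_
    refine (ConcreteCategory.congr_hom (TopCat.Presheaf.stalkSpecializes_comp X.presheaf _ _) b).trans ?_
    exact ConcreteCategory.congr_hom (TopCat.Presheaf.stalkSpecializes_refl X.presheaf _) b
  refine le_antisymm (fun a ha => ?_) hle
  set I := Ideal.span {f.stalkMap x (X.presheaf.stalkSpecializes e b)} with hI
  haveI : Nontrivial (X'.presheaf.stalk x ⧸ I) := Ideal.Quotient.nontrivial_iff.2 fun h =>
    RingHom.ker_ne_top ((pullback.fst f i).stalkMap z).hom (eq_top_iff.2 (h.symm.le.trans hle))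
  haveI : IsLocalRing (X'.presheaf.stalk x ⧸ I) :=
    IsLocalRing.of_surjective' (Ideal.Quotient.mk I) Ideal.Quotient.mk_surjective
  let q : X'.presheaf.stalk x ⟶ CommRingCat.of (X'.presheaf.stalk x ⧸ I) := CommRingCat.ofHom (Ideal.Quotient.mk I)
  haveI : IsLocalHom q.hom := Function.Surjective.isLocalHom (Ideal.Quotient.mk I) Ideal.Quotient.mk_surjective
  let φ : X.presheaf.stalk (i (pullback.snd f i z)) ⟶ CommRingCat.of (X'.presheaf.stalk x ⧸ I) :=
    X.presheaf.stalkSpecializes e ≫ f.stalkMap x ≫ q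
  have hφ : RingHom.ker (i.stalkMap (pullback.snd f i z)).hom ≤ RingHom.ker φ.hom := by
    rw [hker, Ideal.span_singleton_le_iff_mem, RingHom.mem_ker]
    exact Ideal.Quotient.eq_zero_iff_mem.2 (Ideal.mem_span_singleton_self _)
  let ψ : D.presheaf.stalk (pullback.snd f i z) ⟶ CommRingCat.of (X'.presheaf.stalk x ⧸ I) :=
    CommRingCat.ofHom ((i.stalkMap (pullback.snd f i z)).hom.liftOfSurjective (i.stalkMap_surjective _) ⟨φ.hom, hφ⟩)
  have hψ : i.stalkMap (pullback.snd f i z) ≫ ψ = φ :=
    CommRingCat.hom_ext (RingHom.liftOfRightInverse_comp _ _ _ ⟨φ.hom, hφ⟩)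
  let h : Spec (CommRingCat.of (X'.presheaf.stalk x ⧸ I)) ⟶ X' := Spec.map q ≫ X'.fromSpecStalk x
  let l : Spec (CommRingCat.of (X'.presheaf.stalk x ⧸ I)) ⟶ pullback f i :=
    pullback.lift h (Spec.map ψ ≫ D.fromSpecStalk (pullback.snd f i z)) (by
      show (Spec.map q ≫ X'.fromSpecStalk x) ≫ f = _
      rw [Category.assoc, ← Scheme.SpecMap_stalkMap_fromSpecStalk, Category.assoc,
        ← Scheme.SpecMap_stalkMap_fromSpecStalk, ← Spec.map_comp_assoc, ← Spec.map_comp_assoc, hψ,
        ← Scheme.SpecMap_stalkSpecializes_fromSpecStalk e, ← Spec.map_comp_assoc])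
  have hl : l ≫ pullback.fst f i = h := pullback.lift_fst _ _ _
  have hcp : l (IsLocalRing.closedPoint (X'.presheaf.stalk x ⧸ I)) = z := by
    refine (pullback.fst f i).isEmbedding.injective ?_
    rw [← Scheme.Hom.comp_apply, hl, Scheme.Hom.comp_apply]
    exact (congrArg (X'.fromSpecStalk x) (IsLocalRing.comap_closedPoint q.hom)).trans Scheme.fromSpecStalk_closedPoint
  obtain ⟨U, hxU, σ, rfl⟩ := TopCat.Presheaf.exists_germ_eq X'.presheaf a
  have key : ∀ (h' : Spec (CommRingCat.of (X'.presheaf.stalk x ⧸ I)) ⟶ X') (_ : h' = h)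
      (hU : h' (IsLocalRing.closedPoint _) ∈ U),
      Scheme.stalkClosedPointTo h' (X'.presheaf.germ U _ hU σ) = q (X'.presheaf.germ U x hxU σ) := by
    rintro _ rfl hU
    exact ConcreteCategory.congr_hom (Scheme.germ_stalkClosedPointTo_Spec_fromSpecStalk q U hU) σ
  have hU : (l ≫ pullback.fst f i) (IsLocalRing.closedPoint (X'.presheaf.stalk x ⧸ I)) ∈ U := by
    rw [Scheme.Hom.comp_apply, hcp]; exact hxU
  have h1 := key _ hl hU
  have hzero : ∀ w, w = z → ∀ hw, (pullback f i).presheaf.germ (pullback.fst f i ⁻¹ᵁ U) w hw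
      ((pullback.fst f i).app U σ) = 0 := by
    rintro _ rfl hw
    rw [← Scheme.Hom.germ_stalkMap_apply]
    exact ha
  rw [Scheme.stalkClosedPointTo_comp, CommRingCat.comp_apply] at h1
  erw [Scheme.Hom.germ_stalkMap_apply] at h1
  rw [hzero _ hcp, map_zero] at h1
  exact Ideal.Quotient.eq_zero_iff_mem.1 h1.symm

end Groth.Agent.CycLib
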