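import Groth.Agent.CycLib.Proj
import Groth.Agent.CycLib.ZeroPull
import Groth.Agent.CycLib.PushRat

/-! # Sections with the same zero scheme after pull back -/

set_option autoImplicit false
set_option backward.isDefEq.respectTransparency false
set_option linter.style.haveILetI false

universe u

open CategoryTheory CategoryTheory.Limits AlgebraicGeometry TopologicalSpace

noncomputable section

namespace Groth.Agent.CycLib

theorem exists_unit_of_span {R M : Type*} [CommRing R] [AddCommGroup M] [Module R M] {t₀ τ : M}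
    (h : Function.Bijective fun r : R => r • t₀) (hτ : Submodule.span R {τ} = ⊤) : ∃ c : Rˣ, τ = (c : R) • t₀ := by
  obtain ⟨c, hc⟩ := h.2 τ
  obtain ⟨e, he⟩ := Submodule.mem_span_singleton.1 (hτ.ge (Submodule.mem_top (x := t₀)))
  have hec : e * c = 1 := h.1 (by
    show (e * c) • t₀ = (1 : R) • t₀
    rw [one_smul, mul_smul]
    exact (congrArg (e • ·) hc).trans he)
  exact ⟨(IsUnit.of_mul_eq_one e (by rwa [mul_comm] at hec)).unit, hc.symm⟩

/-- The coefficient of a germ on a free generator spans the same ideal as on any generator. -/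
theorem span_coeff_eq {R M : Type*} [CommRing R] [AddCommGroup M] [Module R M] {t₀ τ m : M}
    (h : Function.Bijective fun r : R => r • t₀) (hτ : Submodule.span R {τ} = ⊤) {a b : R}
    (ha : m = a • t₀) (hb : m = b • τ) : Ideal.span {a} = Ideal.span {b} := by
  obtain ⟨c, rfl⟩ := exists_unit_of_span h hτ
  rw [← mul_smul] at hb
  rw [h.1 (ha.symm.trans hb), Ideal.span_singleton_mul_right_unit c.isUnit]

variable {X X' D : Scheme.{u}} (f : X' ⟶ X) {δ' : X' → ℤ} {L : X.Modules} {i : D ⟶ X}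
  {s : L.presheaf.obj (Opposite.op ⊤)} {w : (ξ : X) → Cyc.secFibre L ξ}

/-- Off the inverse image of the zero scheme the pulled back section has no divisor. -/
theorem mem_range_pull [IsLocallyNoetherian X] [IsLocallyNoetherian X'] [IsClosedImmersion i]
    (hδ' : Cyc.IsDimFun X' δ') (hL : PicF.IsInvertible L) (hD : Cyc.IsZeroSchemeOf i L s) {ξ x : X'}
    (h : Cyc.secDivFun δ' ((Scheme.Modules.pullback f).obj L) ξ (pullFib f L ξ (Cyc.gysinChoice L s w (f ξ))) x ≠ 0) :
    f x ∈ Set.range i := by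
  by_contra hx
  obtain ⟨hs, hd⟩ := specializes_of_secDivFun_ne_zero h
  have ht : ∀ ζ (h : ζ ⤳ f x), Function.Bijective fun r : X.presheaf.stalk ζ =>
      r • L.presheaf.stalkSpecializes h (L.presheaf.germ ⊤ (f x) trivial s) := fun ζ hζ => by
    rw [TopCat.Presheaf.germ_stalkSpecializes_apply]
    exact (germ_gen (w := w) hL hD fun hm => hx (hm |> fun hm => hζ.mem_closed i.isClosedEmbedding.isClosed_range hm)).1
  have e : Cyc.gysinChoice L s w (f ξ) = (1 : X.presheaf.stalk (f ξ)) •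
      mkF L (f ξ) (L.presheaf.stalkSpecializes (hs.map f.continuous) (L.presheaf.germ ⊤ (f x) trivial s)) := by
    rw [one_smul, TopCat.Presheaf.germ_stalkSpecializes_apply]
    exact (germ_gen hL hD fun hm => hx ((hs.map f.continuous).mem_closed i.isClosedEmbedding.isClosed_range hm)).2
  refine h ?_
  rw [e, secDivFun_pullFib f hδ' hL ht (hs.map f.continuous) 1 rfl, map_one, map_one, divFun_of hs hd,
    ordAt_one hδ' hs hd]

variable [IsLocallyNoetherian X] [IsLocallyNoetherian X'] [IsClosedImmersion i]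

/-- The two sections defining the zero scheme upstairs have the same divisor. -/
theorem secDivFun_gysin_pull (hδ' : Cyc.IsDimFun X' δ') (hL : PicF.IsInvertible L) (hD : Cyc.IsZeroSchemeOf i L s)
    {s' : ((Scheme.Modules.pullback f).obj L).presheaf.obj (Opposite.op ⊤)}
    (hD' : Cyc.IsZeroSchemeOf (pullback.fst f i) ((Scheme.Modules.pullback f).obj L) s') (w : (ξ : X) → Cyc.secFibre L ξ)
    (w' : (ξ : X') → Cyc.secFibre ((Scheme.Modules.pullback f).obj L) ξ) (z : ↥(pullback f i)) {ξ : X'}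
    (hξ : ξ ∉ Set.range (pullback.fst f i)) :
    Cyc.secDivFun δ' ((Scheme.Modules.pullback f).obj L) ξ (Cyc.gysinChoice _ s' w' ξ) (pullback.fst f i z) =
      Cyc.secDivFun δ' ((Scheme.Modules.pullback f).obj L) ξ (pullFib f L ξ (Cyc.gysinChoice L s w (f ξ)))
        (pullback.fst f i z) := by
  haveI := InvExt.isQCoh_of_isInvertible hL
  have hL' : PicF.IsInvertible ((Scheme.Modules.pullback f).obj L) := AmpleLib.isInvertible_pullback f hL
  have hfξ : f ξ ∉ Set.range i := fun hm => hξ ((Scheme.Pullback.range_fst f i).symm ▸ hm)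
  by_cases h : ξ ⤳ pullback.fst f i z ∧ δ' (pullback.fst f i z) + 1 = δ' ξ
  swap
  · rw [Cyc.secDivFun, Cyc.secDivFun, dif_neg h, dif_neg h]
  obtain ⟨hs, hd⟩ := h
  have he : f (pullback.fst f i z) ⤳ i (pullback.snd f i z) := specializes_of_eq (by
    rw [← Scheme.Hom.comp_apply, pullback.condition, Scheme.Hom.comp_apply])
  obtain ⟨t₀, ht₀⟩ := exists_genAt hL (i (pullback.snd f i z))
  have ht₀x : Function.Bijective fun r : X.presheaf.stalk (i (pullback.snd f i z)) => r • t₀ := by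
    have := ht₀ _ specializes_rfl
    rwa [TopCat.Presheaf.stalkSpecializes_refl] at this
  obtain ⟨b, hb⟩ := ht₀x.2 (L.presheaf.germ ⊤ (i (pullback.snd f i z)) trivial s)
  change b • t₀ = _ at hb
  obtain ⟨t, b', ht, hb', hker⟩ := hD.2 (pullback.snd f i z)
  rw [← span_coeff_eq ht₀x ht hb.symm hb'] at hker
  set τ := L.presheaf.stalkSpecializes he t₀ with hτ
  have hτg : ∀ ζ (h : ζ ⤳ f (pullback.fst f i z)),
      Function.Bijective fun r : X.presheaf.stalk ζ => r • L.presheaf.stalkSpecializes h τ := fun ζ hζ => by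
    have := ht₀ ζ (hζ.trans he)
    rwa [← TopCat.Presheaf.stalkSpecializes_comp L.presheaf hζ he] at this
  have hτx : Function.Bijective fun r : X.presheaf.stalk (f (pullback.fst f i z)) => r • τ := ht₀ _ he
  have hby : L.presheaf.germ ⊤ (f (pullback.fst f i z)) trivial s = X.presheaf.stalkSpecializes he b • τ := by
    rw [hτ, ← RefOne.stalkSpecializes_smul, hb, TopCat.Presheaf.germ_stalkSpecializes_apply]
  have hbξ : L.presheaf.germ ⊤ (f ξ) trivial s =
      X.presheaf.stalkSpecializes (hs.map f.continuous) (X.presheaf.stalkSpecializes he b) •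
        L.presheaf.stalkSpecializes (hs.map f.continuous) τ := by
    rw [← RefOne.stalkSpecializes_smul, ← hby, TopCat.Presheaf.germ_stalkSpecializes_apply]
  have hgX := (germ_gen (w := w) hL hD hfξ).2
  have hptx := ProjBundleLib.bijective_pullStalk_gen f (pullback.fst f i z) hτx
  have hptξ : Function.Bijective fun r : X'.presheaf.stalk ξ =>
      r • ((Scheme.Modules.pullback f).obj L).presheaf.stalkSpecializes hs (PullbackMod.pullStalk f L _ τ) := by
    rw [stalkSpecializes_pullStalk f L hs]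
    exact ProjBundleLib.bijective_pullStalk_gen f ξ (hτg _ (hs.map f.continuous))
  obtain ⟨a, ha⟩ := hptx.2 (((Scheme.Modules.pullback f).obj L).presheaf.germ ⊤ (pullback.fst f i z) trivial s')
  change a • _ = _ at ha
  obtain ⟨t', a', ht', ha', hker'⟩ := hD'.2 z
  have hspan : Ideal.span {a} =
      Ideal.span {f.stalkMap (pullback.fst f i z) (X.presheaf.stalkSpecializes he b)} := by
    rw [← ker_stalkMap_fst f i z hker he, hker']
    exact span_coeff_eq hptx ht' ha.symm ha'
  have haξ : ((Scheme.Modules.pullback f).obj L).presheaf.germ ⊤ ξ trivial s' = X'.presheaf.stalkSpecializes hs a •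
      ((Scheme.Modules.pullback f).obj L).presheaf.stalkSpecializes hs (PullbackMod.pullStalk f L _ τ) := by
    rw [← RefOne.stalkSpecializes_smul, ha, TopCat.Presheaf.germ_stalkSpecializes_apply]
  have hgX' := (germ_gen (w := w') hL' hD' hξ).2
  have hne' : Cyc.specMap (pullback.fst f i z) ξ hs a ≠ 0 := fun e0 => by
    refine (show mkF _ ξ (((Scheme.Modules.pullback f).obj L).presheaf.germ ⊤ ξ trivial s') ≠ 0 from
      fun e1 => hξ (hD'.1.symm ▸ e1)) ?_
    rw [haξ, mkF, Submodule.Quotient.mk_smul]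
    exact (smul_mkF_eq_zero_iff hptξ _).2 e0
  have hne : Cyc.specMap (pullback.fst f i z) ξ hs (f.stalkMap _ (X.presheaf.stalkSpecializes he b)) ≠ 0 := fun e0 => by
    refine (show mkF L (f ξ) (L.presheaf.germ ⊤ (f ξ) trivial s) ≠ 0 from fun e1 => hfξ (hD.1.symm ▸ e1)) ?_
    rw [hbξ, mkF, Submodule.Quotient.mk_smul]
    refine (smul_mkF_eq_zero_iff (hτg _ (hs.map f.continuous)) _).2 ((f.residueFieldMap ξ).hom.injective ?_)
    rw [map_zero]
    refine (residueFieldMap_residue f ξ _).trans ?_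
    rw [Scheme.Hom.stalkSpecializes_stalkMap_apply f ξ _ hs]
    exact e0
  rw [hgX', hgX, mkF, mkF, haξ, hbξ, Submodule.Quotient.mk_smul, Submodule.Quotient.mk_smul,
    secDivFun_pullFib f hδ' hL hτg (hs.map f.continuous) _ rfl, divFun_of hs hd, secDivFun_of hs hd,
    secOrdAt_eq hδ' hs hd hptx hptξ, residueFieldMap_residue,
    Scheme.Hom.stalkSpecializes_stalkMap_apply f ξ _ hs]
  show Cyc.ordAt _ ξ hs (Cyc.specMap _ ξ hs a) = Cyc.ordAt _ ξ hs (Cyc.specMap _ ξ hs _)
  rw [ordAt_specMap hδ' hs hd hne', ordAt_specMap hδ' hs hd hne]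
  show (((Module.length _ (_ ⧸ Ideal.span {Ideal.Quotient.mk _ a})).toNat : ℕ) : ℤ) =
    (((Module.length _ (_ ⧸ Ideal.span {Ideal.Quotient.mk _ _})).toNat : ℕ) : ℤ)
  rw [← Set.image_singleton, ← Ideal.map_span, hspan, Ideal.map_span, Set.image_singleton]

omit [IsLocallyNoetherian X] [IsLocallyNoetherian X'] [IsClosedImmersion i] in
/-- A zero scheme up to isomorphism. -/
theorem isZeroSchemeOf_iso {P Q : Scheme.{u}} (e : P ≅ Q) (j : Q ⟶ X) {L : X.Modules}
    {s : L.presheaf.obj (Opposite.op ⊤)} (h : Cyc.IsZeroSchemeOf (e.hom ≫ j) L s) : Cyc.IsZeroSchemeOf j L s := by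
  have hs : Function.Surjective e.hom := fun q => ⟨e.inv q, by rw [← Scheme.Hom.comp_apply, e.inv_hom_id]; rfl⟩
  refine ⟨Eq.trans ?_ h.1, fun q => ?_⟩
  · exact (hs.range_comp j).symm
  · obtain ⟨p, rfl⟩ := hs q
    obtain ⟨t, b, ht, hb, hker⟩ := h.2 p
    refine ⟨t, b, ht, hb, ?_⟩
    refine Eq.trans ?_ hker
    show _ = RingHom.ker ((e.hom ≫ j).stalkMap p).hom
    rw [Scheme.Hom.stalkMap_comp, CommRingCat.hom_comp]
    exact (RingHom.ker_comp_of_injective _ (ConcreteCategory.bijective_of_isIso (e.hom.stalkMap p)).1).symm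

/-- Gysin cycles for a section and for the pull back of a section with the same zero scheme. -/
theorem ratEquiv_gysin_pull (hδ' : Cyc.IsDimFun X' δ') {k : ℤ} (hL : PicF.IsInvertible L)
    (hD : Cyc.IsZeroSchemeOf i L s) {P : Scheme.{u}} (j : P ⟶ X') [IsClosedImmersion j]
    (e : P ≅ pullback f i) (hj : e.hom ≫ pullback.fst f i = j)
    {s' : ((Scheme.Modules.pullback f).obj L).presheaf.obj (Opposite.op ⊤)}
    (hD' : Cyc.IsZeroSchemeOf j ((Scheme.Modules.pullback f).obj L) s')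
    (hw : ∀ ξ, w ξ ≠ 0) (w' : (ξ : X') → Cyc.secFibre ((Scheme.Modules.pullback f).obj L) ξ) (hw' : ∀ ξ, w' ξ ≠ 0)
    (α' : AlgebraicCycle X' ℤ) (hα' : α' ∈ Cyc.Zk X' δ' (k + 1)) (γ₀ γ' : AlgebraicCycle P ℤ)
    (h₀ : ∀ z, γ₀ z = Cyc.c1CapFun δ' ((Scheme.Modules.pullback f).obj L) ⇑α'
      (fun ξ => pullFib f L ξ (Cyc.gysinChoice L s w (f ξ))) (j z))
    (h' : ∀ z, γ' z = Cyc.c1CapFun δ' ((Scheme.Modules.pullback f).obj L) ⇑α'
      (Cyc.gysinChoice ((Scheme.Modules.pullback f).obj L) s' w') (j z)) :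
    Cyc.RatEquiv (fun z => δ' (j z)) k γ' γ₀ := by
  classical
  subst hj
  have hD'' := isZeroSchemeOf_iso e _ hD'
  haveI := isLocallyNoetherian_closed (e.hom ≫ pullback.fst f i)
  have hL' : PicF.IsInvertible ((Scheme.Modules.pullback f).obj L) := AmpleLib.isInvertible_pullback f hL
  have hu : ∀ ξ, pullFib f L ξ (Cyc.gysinChoice L s w (f ξ)) ≠ 0 := fun ξ =>
    pullFib_ne_zero f L hL (gysinChoice_ne_zero hw _)
  choose g hg hsg using fun ξ => exists_smul_of_ne_zero hL' (hu ξ) (gysinChoice_ne_zero (s := s') hw' ξ)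
  have hr : Set.range (pullback.fst f i) ⊆ Set.range (e.hom ≫ pullback.fst f i) := by
    rintro _ ⟨y, rfl⟩
    exact ⟨e.inv y, by rw [← Scheme.Hom.comp_apply, e.inv_hom_id_assoc]⟩
  let I := {ξ : X' // α' ξ ≠ 0 ∧ ξ ∈ Set.range (e.hom ≫ pullback.fst f i)}
  have hk : ∀ l : I, δ' l.1 = k + 1 := fun l => by
    by_contra hne
    exact l.2.1 (hα' l.1 hne)
  let F : Fam δ' k :=
    { ι := I
      ξ := fun l => l.1
      f := fun l => X'.residue l.1 (g l.1) ^ α' l.1
      hξ := hk
      hf := fun l => zpow_ne_zero _ (hg l.1)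
      fin := fun x => by
        obtain ⟨U, hU, hx⟩ := exists_affine x
        refine ⟨U, U.2, hx, ((α'.locallyFiniteSupport.finite_inter_support_of_isCompact hU.isCompact).preimage
          (f := Subtype.val) (Subtype.val_injective.injOn)).subset fun l hl => ?_⟩
        obtain ⟨y, hy, hyU⟩ := hl
        exact ⟨(specializes_iff_mem_closure.2 hy).mem_open U.2 hyU, l.2.1⟩ }
  refine Fam.ratEquivZero_restrict (e.hom ≫ pullback.fst f i) hδ' F (fun l => l.2.2) _ fun z => ?_
  show γ' z - γ₀ z = ∑ᶠ l, Cyc.divFun δ' (F.ξ l) (F.f l) ((e.hom ≫ pullback.fst f i) z)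
  rw [h', h₀, Cyc.c1CapFun, Cyc.c1CapFun, ← finsum_sub_distrib (finite_support_c1 α' _ _) (finite_support_c1 α' _ _)]
  have e' : ∀ l : I, Cyc.divFun δ' (F.ξ l) (F.f l) ((e.hom ≫ pullback.fst f i) z) =
      α' l.1 * Cyc.divFun δ' l.1 (X'.residue l.1 (g l.1)) ((e.hom ≫ pullback.fst f i) z) := by
    intro l
    show Cyc.divFun δ' l.1 (X'.residue l.1 (g l.1) ^ α' l.1) _ = _
    by_cases h : l.1 ⤳ (e.hom ≫ pullback.fst f i) z ∧ δ' ((e.hom ≫ pullback.fst f i) z) + 1 = δ' l.1
    · rw [divFun_of h.1 h.2, divFun_of h.1 h.2, ordAt_zpow hδ' h.1 h.2 (hg l.1)]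
    · rw [Cyc.divFun, Cyc.divFun, dif_neg h, dif_neg h, mul_zero]
  rw [finsum_congr e', finsum_subtype_eq_finsum_cond (f := fun ξ : X' =>
    α' ξ * Cyc.divFun δ' ξ (X'.residue ξ (g ξ)) ((e.hom ≫ pullback.fst f i) z))
    (fun ξ => α' ξ ≠ 0 ∧ ξ ∈ Set.range (e.hom ≫ pullback.fst f i))]
  refine finsum_congr fun ξ => ?_
  rw [finsum_eq_if]
  split_ifs with h
  · rw [hsg ξ, secDivFun_smul hδ' hL' ξ _ (hg ξ) (hu ξ)]
    ring
  · by_cases h0 : α' ξ = 0
    · rw [h0, zero_mul, zero_mul, sub_zero]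
    rw [Scheme.Hom.comp_apply, secDivFun_gysin_pull f hδ' hL hD hD'' w w' (e.hom z) fun hm => h ⟨h0, hr hm⟩, sub_self]

end Groth.Agent.CycLib
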