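import Groth.Agent.CycLib.IntIntegral
import Groth.Agent.CycLib.PushPull
import Groth.Agent.DimFormulaLib.FibrePoints

/-! # Nefness on curves and inverse images -/

set_option autoImplicit false
set_option backward.isDefEq.respectTransparency false
set_option linter.style.haveILetI false

universe u

open CategoryTheory CategoryTheory.Limits AlgebraicGeometry TopologicalSpace

noncomputable section

namespace Groth.Agent.CycLib

/-- A point over a given one with finite residue extension. -/
theorem exists_finite_point {X Y : Scheme.{u}} [IsLocallyNoetherian X] (f : Y ⟶ X) [IsProper f] [Surjective f] {δY : Y → ℤ} {δX : X → ℤ}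
    (hd : Cyc.DeltaCompat f δY δX) (x : X) :
    ∃ y, f y = x ∧ δY y = δX x ∧ AlgebraicCycle.mapCoeff f δY δX y ≠ 0 := by
  haveI : CompactSpace (f.fiber x) := inferInstance
  obtain ⟨y₀, hy₀⟩ := f.surjective x
  haveI : Nonempty (f.fiber x) := ⟨(f.fiberHomeo x).symm ⟨y₀, hy₀⟩⟩
  obtain ⟨z, -, hz⟩ := (isClosed_univ (X := f.fiber x)).exists_closed_singleton Set.univ_nonempty
  set y := (f.fiberHomeo x z).1 with hy
  have hfy : f y = x := (f.fiberHomeo x z).2
  have hh : Order.height z = 0 := Order.height_eq_zero.2 fun w hw => by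
    have := (Scheme.le_iff_specializes.1 hw).mem_closed hz rfl
    rw [Set.mem_singleton_iff] at this
    exact this ▸ le_rfl
  obtain ⟨n, hn, e⟩ := hd y
  have hn' := DimFormulaLib.height_in_fibre f x z n hn
  rw [hh] at hn'
  have hn0 : n = 0 := by exact_mod_cast hn'.symm
  subst hn0
  have he : δY y = δX (f y) := by rw [e, Nat.cast_zero, add_zero]
  refine ⟨y, hfy, by rw [he, hfy], ?_⟩
  rw [AlgebraicCycle.mapCoeff, if_pos he]
  have hfin := finite_residue_of_trdeg_zero f y (hn.trans Nat.cast_zero)
  letI := (f.residueFieldMap y).hom.toAlgebra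
  haveI : Module.Finite (X.residueField (f y)) (Y.residueField y) := hfin
  exact Module.finrank_pos.ne'

variable (k : Type u) [Field k] {X : Scheme.{u}} [X.Over (Spec (CommRingCat.of k))]
  [IsProper (X ↘ Spec (CommRingCat.of k))]

/-- Nef on curves in terms of the pairing at points of dimension one. -/
theorem nef_iff {L : X.Modules} (hL : PicF.IsInvertible L) {δ : X → ℤ}
    (hδ : Cyc.DeltaCompat (X ↘ Spec (CommRingCat.of k)) δ (fun _ => 0)) :
    (∀ C : X.IdealSheafData, IsIntegral C.subscheme → topologicalKrullDim (C.support : Set X) = 1 →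
      0 ≤ Curv2.euler k X (CohB1.tensorMod (ClSub.quotMod C) L) - Curv2.euler k X (ClSub.quotMod C)) ↔
    ∀ x, δ x = 1 → IntLib.pairing k (IntLib.compMod x) (IntLib.dif hL) ≤ 0 := by
  constructor
  · intro h x hx
    let C := Scheme.IdealSheafData.vanishingIdeal (⟨closure {x}, isClosed_closure⟩ : TopologicalSpace.Closeds X)
    have hC : (C.support : Set X) = closure {x} := by
      rw [Scheme.IdealSheafData.coe_support_vanishingIdeal]
      rfl
    have hn := h C (CurveLib.isIntegral_vanishingIdeal isClosed_closure isIrreducible_singleton.closure)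
      (by rw [hC, dim_closure_eq k hδ x (t := 1) hx]; rfl)
    rw [IntLib.pairing_dif]
    change Curv2.euler k X (ClSub.quotMod C) - Curv2.euler k X (CohB1.tensorMod (ClSub.quotMod C) L) ≤ 0
    linarith
  · intro h C hC hd
    haveI := hC
    have h1 := (pairing_quot_integral k hδ C (d := 1) hd.le (fun _ : Fin 1 => L) fun _ => hL).2
    rw [Fin.prod_univ_one, IntLib.pairing_dif] at h1
    split_ifs at h1 with h2
    · rw [one_mul] at h1
      have := h _ h2
      linarith
    · rw [zero_mul] at h1
      linarith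

/-- Nefness and surjective inverse images. -/
theorem nef_pullback_iff {Y : Scheme.{u}} [Y.Over (Spec (CommRingCat.of k))] [IsProper (Y ↘ Spec (CommRingCat.of k))]
    (f : Y ⟶ X) (hf : f ≫ (X ↘ Spec (CommRingCat.of k)) = Y ↘ Spec (CommRingCat.of k)) [Surjective f]
    {L : X.Modules} (hL : PicF.IsInvertible L) :
    (∀ C : X.IdealSheafData, IsIntegral C.subscheme → topologicalKrullDim (C.support : Set X) = 1 →
      0 ≤ Curv2.euler k X (CohB1.tensorMod (ClSub.quotMod C) L) - Curv2.euler k X (ClSub.quotMod C)) ↔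
    (∀ C : Y.IdealSheafData, IsIntegral C.subscheme → topologicalKrullDim (C.support : Set Y) = 1 →
      0 ≤ Curv2.euler k Y (CohB1.tensorMod (ClSub.quotMod C) ((Scheme.Modules.pullback f).obj L)) -
        Curv2.euler k Y (ClSub.quotMod C)) := by
  obtain ⟨δY, hδY⟩ := exists_delta k Y
  obtain ⟨δX, hδX⟩ := exists_delta k X
  have hd := deltaCompat_of_over k hf hδY hδX
  haveI : IsProper f := by
    haveI : IsProper (f ≫ (X ↘ Spec (CommRingCat.of k))) := hf ▸ inferInstance
    exact IsProper.of_comp f (X ↘ Spec (CommRingCat.of k))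
  rw [nef_iff k hL hδX, nef_iff k (AmpleLib.isInvertible_pullback f hL) hδY]
  have key : ∀ ξ, δY ξ = 1 → IntLib.pairing k (IntLib.compMod ξ) (IntLib.dif (AmpleLib.isInvertible_pullback f hL)) =
      (AlgebraicCycle.mapCoeff f δY δX ξ : ℤ) * IntLib.pairing k (IntLib.compMod (f ξ)) (IntLib.dif hL) := fun ξ h => by
    have := pairing_pullback k hf hδY hδX 1 (fun _ : Fin 1 => L) (fun _ => hL) ξ (by rw [h]; rfl)
    rwa [Fin.prod_univ_one, Fin.prod_univ_one] at this
  constructor
  · intro h ξ hξ
    rw [key ξ hξ]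
    by_cases hc : AlgebraicCycle.mapCoeff f δY δX ξ = 0
    · rw [hc, Nat.cast_zero, zero_mul]
    refine mul_nonpos_of_nonneg_of_nonpos (Int.natCast_nonneg _) (h _ ?_)
    rw [AlgebraicCycle.mapCoeff] at hc
    split_ifs at hc with he
    · rw [← he, hξ]
    · exact absurd rfl hc
  · intro h x hx
    haveI := EulerIneqLib.isNoetherian_proper (X := X) k
    obtain ⟨y, rfl, hy, hc⟩ := exists_finite_point f hd x
    have h1 := h y (hy.trans hx)
    rw [key y (hy.trans hx)] at h1
    exact nonpos_of_mul_nonpos_right h1 (by exact_mod_cast Nat.pos_of_ne_zero hc) 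

end Groth.Agent.CycLib
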