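import Groth.Agent.CycLib.C1
import Groth.Agent.DCohLib.StalkTensor

/-! # Divisors of products of rational sections -/

set_option autoImplicit false
set_option backward.isDefEq.respectTransparency false
set_option linter.style.haveILetI false

universe u

open CategoryTheory AlgebraicGeometry TopologicalSpace TensorProduct
open Groth.Agent.DCohLib

noncomputable section

namespace Groth.Agent.CycLib

variable {X : Scheme.{u}} {L N : X.Modules}

theorem bijective_germMul {x : X} {a : L.presheaf.stalk x} {b : N.presheaf.stalk x}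
    (ha : Function.Bijective fun r : X.presheaf.stalk x => r • a)
    (hb : Function.Bijective fun r : X.presheaf.stalk x => r • b) :
    Function.Bijective fun r : X.presheaf.stalk x => r • germMul x a b := by
  let R := X.presheaf.stalk x
  let e : R ≃ₗ[R] L.presheaf.stalk x := LinearEquiv.ofBijective (LinearMap.toSpanSingleton R _ a) ha
  let e' : R ≃ₗ[R] N.presheaf.stalk x := LinearEquiv.ofBijective (LinearMap.toSpanSingleton R _ b) hb
  let E := ((TensorProduct.lid R R).symm ≪≫ₗ TensorProduct.congr e e') ≪≫ₗ stalkTensor x L N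
  have : (fun r : R => r • germMul x a b) = E := funext fun r => by
    show r • germMul x a b = stalkTensorHom x (TensorProduct.congr e e' ((TensorProduct.lid R R).symm r))
    rw [TensorProduct.lid_symm_apply, TensorProduct.congr_tmul]
    show r • germMul x a b = germMul x ((1 : R) • a) (r • b)
    rw [one_smul, (germMul_smul x r a b).2]
  rw [this]
  exact E.bijective

theorem stalkSpecializes_germMul {ξ x : X} (h : ξ ⤳ x) (a : L.presheaf.stalk x) (b : N.presheaf.stalk x) :
    (tmod L N).presheaf.stalkSpecializes h (germMul x a b) =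
      germMul ξ (L.presheaf.stalkSpecializes h a) (N.presheaf.stalkSpecializes h b) := by
  obtain ⟨U, hU, m, n, rfl, rfl⟩ := exists_common_germ x a b
  rw [germMul_germ, TopCat.Presheaf.germ_stalkSpecializes_apply, TopCat.Presheaf.germ_stalkSpecializes_apply,
    TopCat.Presheaf.germ_stalkSpecializes_apply, germMul_germ]

variable [IsLocallyNoetherian X] {δ : X → ℤ}

/-- Divisors of rational sections add up under the tensor product. -/
theorem secDivFun_germMul (hδ : Cyc.IsDimFun X δ) (hL : PicF.IsInvertible L) (hN : PicF.IsInvertible N) (ξ x : X)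
    {a : L.presheaf.stalk ξ} (ha : mkF L ξ a ≠ 0) {b : N.presheaf.stalk ξ} (hb : mkF N ξ b ≠ 0) :
    Cyc.secDivFun δ (tmod L N) ξ (mkF (tmod L N) ξ (germMul ξ a b)) x =
      Cyc.secDivFun δ L ξ (mkF L ξ a) x + Cyc.secDivFun δ N ξ (mkF N ξ b) x := by
  by_cases h : ξ ⤳ x ∧ δ x + 1 = δ ξ
  swap
  · rw [Cyc.secDivFun, Cyc.secDivFun, Cyc.secDivFun, dif_neg h, dif_neg h, dif_neg h, add_zero]
  obtain ⟨h, hd⟩ := h
  obtain ⟨t, ht⟩ := exists_genAt hL x
  obtain ⟨t', ht'⟩ := exists_genAt hN x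
  have htx : Function.Bijective fun r : X.presheaf.stalk x => r • t := by
    have := ht x specializes_rfl
    rwa [TopCat.Presheaf.stalkSpecializes_refl] at this
  have ht'x : Function.Bijective fun r : X.presheaf.stalk x => r • t' := by
    have := ht' x specializes_rfl
    rwa [TopCat.Presheaf.stalkSpecializes_refl] at this
  obtain ⟨φ, rfl⟩ := (ht ξ h).2 a
  obtain ⟨ψ, rfl⟩ := (ht' ξ h).2 b
  have e₁ : mkF L ξ (φ • L.presheaf.stalkSpecializes h t) = φ • mkF L ξ (L.presheaf.stalkSpecializes h t) :=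
    Submodule.Quotient.mk_smul _ _ _
  have e₂ : mkF N ξ (ψ • N.presheaf.stalkSpecializes h t') = ψ • mkF N ξ (N.presheaf.stalkSpecializes h t') :=
    Submodule.Quotient.mk_smul _ _ _
  rw [e₁] at ha ⊢
  rw [e₂] at hb ⊢
  have hφ : X.residue ξ φ ≠ 0 := fun e => ha ((smul_mkF_eq_zero_iff (ht ξ h) φ).2 e)
  have hψ : X.residue ξ ψ ≠ 0 := fun e => hb ((smul_mkF_eq_zero_iff (ht' ξ h) ψ).2 e)
  have eT : mkF (tmod L N) ξ (germMul ξ (φ • L.presheaf.stalkSpecializes h t) (ψ • N.presheaf.stalkSpecializes h t')) =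
      (φ * ψ) • mkF (tmod L N) ξ ((tmod L N).presheaf.stalkSpecializes h (germMul x t t')) := by
    rw [(germMul_smul ξ φ _ _).1, (germMul_smul ξ ψ _ _).2, ← mul_smul, ← stalkSpecializes_germMul]
    exact Submodule.Quotient.mk_smul _ _ _
  rw [eT, secDivFun_of h hd, secDivFun_of h hd, secDivFun_of h hd,
    secOrdAt_eq hδ h hd (L := tmod L N) (bijective_germMul htx ht'x)
      (by rw [stalkSpecializes_germMul]; exact bijective_germMul (ht ξ h) (ht' ξ h)),
    secOrdAt_eq hδ h hd htx (ht ξ h), secOrdAt_eq hδ h hd ht'x (ht' ξ h), map_mul, ordAt_mul hδ h hd hφ hψ]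

theorem mkF_germMul_ne_zero (hL : PicF.IsInvertible L) (hN : PicF.IsInvertible N) {ξ : X}
    {a : L.presheaf.stalk ξ} (ha : mkF L ξ a ≠ 0) {b : N.presheaf.stalk ξ} (hb : mkF N ξ b ≠ 0) :
    mkF (tmod L N) ξ (germMul ξ a b) ≠ 0 := by
  obtain ⟨t, ht⟩ := ParaFLib.exists_stalk_gen hL ξ
  obtain ⟨t', ht'⟩ := ParaFLib.exists_stalk_gen hN ξ
  obtain ⟨φ, rfl⟩ := ht.2 a
  obtain ⟨ψ, rfl⟩ := ht'.2 b
  intro h0
  have hφ : X.residue ξ φ ≠ 0 := fun e => ha ((Submodule.Quotient.mk_smul _ _ _).trans ((smul_mkF_eq_zero_iff ht φ).2 e))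
  have hψ : X.residue ξ ψ ≠ 0 := fun e => hb ((Submodule.Quotient.mk_smul _ _ _).trans ((smul_mkF_eq_zero_iff ht' ψ).2 e))
  change mkF (tmod L N) ξ (germMul ξ (φ • t) (ψ • t')) = 0 at h0
  rw [(germMul_smul ξ φ _ _).1, (germMul_smul ξ ψ _ _).2, ← mul_smul] at h0
  have := (smul_mkF_eq_zero_iff (bijective_germMul ht ht') (φ * ψ)).1 ((Submodule.Quotient.mk_smul _ _ _).symm.trans h0)
  rw [map_mul] at this
  exact mul_ne_zero hφ hψ this

end Groth.Agent.CycLib
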