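import Groth.Agent.CycLib.DivPull
import Groth.Agent.RefOne.Stalk
import Groth.Agent.S5090

/-! # Stalks of quasi-coherent modules at generalizations -/

set_option autoImplicit false
set_option backward.isDefEq.respectTransparency false
set_option linter.style.haveILetI false

universe u

open CategoryTheory AlgebraicGeometry

noncomputable section

namespace Groth.Agent.CycLib

/-- The length of a localization computed with any model. -/
theorem length_localized_of_isBaseChange {R S M N : Type u} [CommRing R] [CommRing S] [Algebra R S] (Q : Ideal R)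
    [Q.IsPrime] [IsLocalization.AtPrime S Q] [AddCommGroup M] [Module R M] [AddCommGroup N] [Module R N] [Module S N]
    [IsScalarTower R S N] {ψ : M →ₗ[R] N} (h : IsBaseChange S ψ) :
    Module.length (Localization.AtPrime Q) (LocalizedModule Q.primeCompl M) = Module.length S N := by
  let L := Localization.AtPrime Q
  let φ : L ≃ₐ[R] S := IsLocalization.algEquiv Q.primeCompl L S
  letI : Algebra L S := φ.toAlgHom.toRingHom.toAlgebra
  letI := Module.compHom N (algebraMap L S)
  haveI : IsScalarTower L S N := .of_algebraMap_smul fun _ _ => rfl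
  haveI : IsScalarTower R L N := .of_algebraMap_smul fun r n => by
    show φ (algebraMap R L r) • n = r • n
    rw [φ.commutes, algebraMap_smul]
  haveI : IsLocalizedModule Q.primeCompl ψ := (isLocalizedModule_iff_isBaseChange Q.primeCompl S ψ).2 h
  have h1 : IsBaseChange L (LocalizedModule.mkLinearMap Q.primeCompl M) :=
    IsLocalizedModule.isBaseChange Q.primeCompl L _
  have h2 : IsBaseChange L ψ := IsLocalizedModule.isBaseChange Q.primeCompl L ψ
  rw [← h1.equiv.length_eq, h2.equiv.length_eq]
  exact Module.length_eq_of_surjective φ.surjective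

variable {X : Scheme.{u}}

/-- The stalk at a generalization is a base change of the stalk. -/
theorem isBaseChange_stalkSpecializes {F : X.Modules} [Coh.IsQCoh F] {η x : X} (h : η ⤳ x) :
    letI := (X.presheaf.stalkSpecializes h).hom.toAlgebra
    letI := Module.compHom (F.presheaf.stalk η) (X.presheaf.stalkSpecializes h).hom
    haveI : IsScalarTower (X.presheaf.stalk x) (X.presheaf.stalk η) (F.presheaf.stalk η) :=
      .of_algebraMap_smul fun _ _ => rfl
    ∃ ψ : F.presheaf.stalk x →ₗ[X.presheaf.stalk x] F.presheaf.stalk η,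
      IsBaseChange (X.presheaf.stalk η) ψ := by
  obtain ⟨W, hW, hx, -⟩ := exists_isAffineOpen_mem_and_subset (x := x) (U := (⊤ : X.Opens)) trivial
  have hη : η ∈ W := h.mem_open W.2 hx
  let A := Γ(X, W)
  let B := X.presheaf.stalk x
  let C := X.presheaf.stalk η
  letI : Algebra A B := TopCat.Presheaf.algebra_section_stalk X.presheaf ⟨x, hx⟩
  letI : Algebra A C := TopCat.Presheaf.algebra_section_stalk X.presheaf ⟨η, hη⟩
  letI : Algebra B C := (X.presheaf.stalkSpecializes h).hom.toAlgebra
  haveI : IsScalarTower A B C := .of_algebraMap_eq fun a =>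
    (TopCat.Presheaf.germ_stalkSpecializes_apply X.presheaf hx h a).symm
  haveI := hW.isLocalization_stalk ⟨x, hx⟩
  haveI := hW.isLocalization_stalk ⟨η, hη⟩
  letI := Module.compHom (F.presheaf.stalk x) (X.presheaf.germ W x hx).hom
  letI := Module.compHom (F.presheaf.stalk η) (X.presheaf.germ W η hη).hom
  haveI : IsScalarTower A B (F.presheaf.stalk x) := .of_algebraMap_smul fun _ _ => rfl
  haveI : IsScalarTower A C (F.presheaf.stalk η) := .of_algebraMap_smul fun _ _ => rfl
  letI := Module.compHom (F.presheaf.stalk η) (algebraMap B C)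
  haveI : IsScalarTower B C (F.presheaf.stalk η) := .of_algebraMap_smul fun _ _ => rfl
  haveI : IsScalarTower A B (F.presheaf.stalk η) := .of_algebraMap_smul fun a m => by
    show algebraMap B C (algebraMap A B a) • m = algebraMap A C a • m
    rw [← IsScalarTower.algebraMap_apply]
  haveI := FlatLocus.isLocalizedModule_germL F hW x hx
  haveI := FlatLocus.isLocalizedModule_germL F hW η hη
  let ψ : F.presheaf.stalk x →ₗ[B] F.presheaf.stalk η :=
    { toFun := F.presheaf.stalkSpecializes h
      map_add' := map_add _
      map_smul' := fun b m => RefOne.stalkSpecializes_smul F h b m }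
  have hb1 := IsLocalizedModule.isBaseChange (hW.primeIdealOf ⟨x, hx⟩).asIdeal.primeCompl B (FlatLocus.germL F W x hx)
  have hb2 := IsLocalizedModule.isBaseChange (hW.primeIdealOf ⟨η, hη⟩).asIdeal.primeCompl C (FlatLocus.germL F W η hη)
  have hψ : (ψ.restrictScalars A).comp (FlatLocus.germL F W x hx) = FlatLocus.germL F W η hη :=
    LinearMap.ext fun m => TopCat.Presheaf.germ_stalkSpecializes_apply F.presheaf hx h m
  exact ⟨ψ, IsBaseChange.of_comp hb1 (hψ ▸ hb2)⟩

/-- The length of the localization of a stalk. -/
theorem length_localized_stalk {F : X.Modules} [Coh.IsQCoh F] {x : X} (Q : PrimeSpectrum (X.presheaf.stalk x)) :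
    Module.length (Localization.AtPrime Q.asIdeal) (LocalizedModule Q.asIdeal.primeCompl (F.presheaf.stalk x)) =
      Module.length (X.presheaf.stalk (X.fromSpecStalk x Q)) (F.presheaf.stalk (X.fromSpecStalk x Q)) := by
  have hη := fromSpecStalk_specializes Q
  have hker := ker_specMap_eq Q hη
  letI := (X.presheaf.stalkSpecializes hη).hom.toAlgebra
  letI := Module.compHom (F.presheaf.stalk (X.fromSpecStalk x Q)) (X.presheaf.stalkSpecializes hη).hom
  haveI : IsScalarTower (X.presheaf.stalk x) (X.presheaf.stalk (X.fromSpecStalk x Q))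
      (F.presheaf.stalk (X.fromSpecStalk x Q)) := .of_algebraMap_smul fun _ _ => rfl
  haveI := S5090.isLocalization_stalkSpecializes hη
  haveI : IsLocalization.AtPrime (X.presheaf.stalk (X.fromSpecStalk x Q)) Q.asIdeal := by
    have e : Q.asIdeal = (IsLocalRing.maximalIdeal _).comap (X.presheaf.stalkSpecializes hη).hom := by
      rw [← hker]
      ext t
      exact IsLocalRing.residue_eq_zero_iff _
    have h' : Q.asIdeal.primeCompl =
        ((IsLocalRing.maximalIdeal _).comap (X.presheaf.stalkSpecializes hη).hom).primeCompl := by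
      ext t
      simp only [Ideal.primeCompl, Submonoid.mem_mk, Subsemigroup.mem_mk, Set.mem_compl_iff, SetLike.mem_coe, ← e]
    show IsLocalization Q.asIdeal.primeCompl _
    rw [h']
    infer_instance
  obtain ⟨ψ, hψ⟩ := isBaseChange_stalkSpecializes (F := F) hη
  exact length_localized_of_isBaseChange Q.asIdeal hψ

/-- A coherent module has finitely generated stalks. -/
theorem finite_stalk {F : X.Modules} [IsLocallyNoetherian X] (hF : Coh.IsCoh F) (x : X) :
    Module.Finite (X.presheaf.stalk x) (F.presheaf.stalk x) := by
  obtain ⟨W, hW, hxW, -⟩ := exists_isAffineOpen_mem_and_subset (x := x) (U := (⊤ : X.Opens)) trivial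
  haveI := hF.1
  haveI := QCohLib.finite_sections_of_isCoh hF hW
  letI := Module.compHom (F.presheaf.stalk x) (X.presheaf.germ W x hxW).hom
  letI : Algebra Γ(X, W) (X.presheaf.stalk x) := TopCat.Presheaf.algebra_section_stalk X.presheaf ⟨x, hxW⟩
  haveI := hW.isLocalization_stalk ⟨x, hxW⟩
  haveI : IsScalarTower Γ(X, W) (X.presheaf.stalk x) (F.presheaf.stalk x) := .of_algebraMap_smul fun _ _ => rfl
  haveI := FlatLocus.isLocalizedModule_germL F hW x hxW
  exact Module.Finite.of_isLocalizedModule (hW.primeIdealOf ⟨x, hxW⟩).asIdeal.primeCompl (FlatLocus.germL F W x hxW)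

end Groth.Agent.CycLib
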