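import Groth.Agent.CycLib.Shift
import Groth.Agent.CycLib.Immersion
import Groth.Agent.S1833
import Groth.Agent.S16234
import Groth.Agent.S5090

/-! # Flat pullback of principal divisors -/

set_option autoImplicit false
set_option backward.isDefEq.respectTransparency false
set_option linter.style.haveILetI false

universe u

open CategoryTheory AlgebraicGeometry TopologicalSpace TensorProduct
open scoped Pointwise

noncomputable section

namespace Groth.Agent.CycLib

variable {X Y : Scheme.{u}} (p : X ⟶ Y)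

/-- Length of a quotient ring transported along an isomorphism. -/
theorem length_quot_ringEquiv {R S : Type u} [CommRing R] [CommRing S] (φ : R ≃+* S) (I : Ideal R) (J : Ideal S)
    (h : J = I.map (φ : R →+* S)) : Module.length S (S ⧸ J) = Module.length R (R ⧸ I) := by
  letI := φ.toRingHom.toAlgebra
  let e₀ : (R ⧸ I) ≃+* (S ⧸ J) := Ideal.quotientEquiv _ _ φ h
  let e : (R ⧸ I) ≃ₗ[R] (S ⧸ J) :=
    { e₀ with
      map_smul' := fun r z => by
        obtain ⟨y, rfl⟩ := Ideal.Quotient.mk_surjective z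
        show Ideal.Quotient.mk _ (φ (r * y)) = Ideal.Quotient.mk _ (φ r * φ y)
        rw [map_mul] }
  rw [e.length_eq]
  exact (Module.length_eq_of_surjective (R := S) φ.surjective).symm

/-- Length of the localization of a cyclic module. -/
theorem length_localized_quot {R S : Type u} [CommRing R] [CommRing S] [Algebra R S] (Q : Ideal R) [Q.IsPrime]
    [IsLocalization.AtPrime S Q] (J : Ideal R) :
    Module.length (Localization.AtPrime Q) (LocalizedModule Q.primeCompl (R ⧸ J)) =
      Module.length S (S ⧸ J.map (algebraMap R S)) := by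
  let L := Localization.AtPrime Q
  have hb : IsBaseChange L (LocalizedModule.mkLinearMap Q.primeCompl (R ⧸ J)) :=
    IsLocalizedModule.isBaseChange Q.primeCompl L _
  rw [← hb.equiv.length_eq, ← (Algebra.TensorProduct.quotIdealMapEquivTensorQuot L J).toLinearEquiv.length_eq]
  let φ : L ≃ₐ[R] S := IsLocalization.algEquiv Q.primeCompl L S
  refine (length_quot_ringEquiv φ.toRingEquiv _ _ ?_).symm
  rw [Ideal.map_map]
  congr 1
  exact φ.toAlgHom.comp_algebraMap.symm

/-- The generic points of the fibre components over `ξ`. -/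
abbrev Over (ξ : Y) : Type u := {η : X // p η = ξ ∧ MaxFib p η}

/-- The multiplicity of a point in its fibre. -/
def mult (η : X) : ℤ := ((Module.length (X.presheaf.stalk η) (X.presheaf.stalk η ⧸ fibIdeal p η)).toNat : ℤ)

/-- The pullback of a rational function to a point over `ξ`. -/
def lift {ξ : Y} (g : Y.residueField ξ) {η : X} (e : p η = ξ) : X.residueField η :=
  p.residueFieldMap η ((Y.residueFieldCongr e.symm).hom g)

variable {p}

theorem residueFieldCongr_specMap {a b z : Y} (e : a = b) (ha : a ⤳ z) (hb : b ⤳ z) (t : Y.presheaf.stalk z) :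
    (Y.residueFieldCongr e).hom (Cyc.specMap z a ha t) = Cyc.specMap z b hb t := by
  subst e
  simp

theorem lift_specMap {ξ : Y} {x η : X} (e : p η = ξ) (h : ξ ⤳ p x) (hη : η ⤳ x) (a : Y.presheaf.stalk (p x)) :
    lift p (Cyc.specMap (p x) ξ h a) e = Cyc.specMap x η hη (p.stalkMap x a) := by
  rw [lift, residueFieldCongr_specMap e.symm h (hη.map p.continuous), residueFieldMap_specMap p hη (hη.map p.continuous)]

theorem lift_ne_zero {ξ : Y} {g : Y.residueField ξ} (hg : g ≠ 0) {η : X} (e : p η = ξ) : lift p g e ≠ 0 := by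
  intro h0
  apply hg
  have h1 := (p.residueFieldMap η).hom.injective (h0.trans (map_zero _).symm)
  exact (Y.residueFieldCongr e.symm).commRingCatIsoToRingEquiv.injective (h1.trans (map_zero _).symm)

theorem lift_mul {ξ : Y} (g g' : Y.residueField ξ) {η : X} (e : p η = ξ) :
    lift p (g * g') e = lift p g e * lift p g' e := by
  simp [lift]

theorem lift_inv {ξ : Y} (g : Y.residueField ξ) {η : X} (e : p η = ξ) : lift p g⁻¹ e = (lift p g e)⁻¹ := by
  simp [lift]

/-- The point of a prime of the local ring. -/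
theorem ker_specMap_eq {x : X} (Q : PrimeSpectrum (X.presheaf.stalk x)) (h : X.fromSpecStalk x Q ⤳ x) :
    RingHom.ker (Cyc.specMap x (X.fromSpecStalk x Q) h) = Q.asIdeal :=
  congrArg PrimeSpectrum.asIdeal ((X.fromSpecStalk x).isEmbedding.injective (fromSpecStalk_ker h) :
    (⟨RingHom.ker (Cyc.specMap x (X.fromSpecStalk x Q) h), inferInstance⟩ : PrimeSpectrum _) = Q)

theorem fromSpecStalk_specializes {x : X} (Q : PrimeSpectrum (X.presheaf.stalk x)) : X.fromSpecStalk x Q ⤳ x := by
  have := (fromSpecStalk_specializes_iff Q (IsLocalRing.closedPoint _)).2 (IsLocalRing.le_maximalIdeal Q.2.ne_top)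
  rwa [Scheme.fromSpecStalk_closedPoint] at this

variable (p) in
/-- The ideal of the preimage of the closure of `ξ`. -/
abbrev clIdeal (x : X) (ξ : Y) (h : ξ ⤳ p x) : Ideal (X.presheaf.stalk x) :=
  (RingHom.ker (Cyc.specMap (p x) ξ h)).map (p.stalkMap x).hom

theorem clIdeal_le_iff {x : X} {ξ : Y} (h : ξ ⤳ p x) (Q : PrimeSpectrum (X.presheaf.stalk x)) :
    clIdeal p x ξ h ≤ Q.asIdeal ↔ ξ ⤳ p (X.fromSpecStalk x Q) := by
  have e : p (X.fromSpecStalk x Q) = Y.fromSpecStalk (p x) (PrimeSpectrum.comap (p.stalkMap x).hom Q) :=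
    (congrArg (fun φ : Spec (X.presheaf.stalk x) ⟶ Y => φ Q)
      (Scheme.SpecMap_stalkMap_fromSpecStalk (f := p) (x := x))).symm
  rw [Ideal.map_le_iff_le_comap, e]
  conv_rhs => rw [← fromSpecStalk_ker h]
  refine Iff.trans ?_ (fromSpecStalk_specializes_iff (⟨_, inferInstance⟩ : PrimeSpectrum (Y.presheaf.stalk (p x)))
    (PrimeSpectrum.comap (p.stalkMap x).hom Q)).symm
  rfl

/-- The localization of the ideal of the preimage is the fibre ideal. -/
theorem clIdeal_map {x η : X} (hη : η ⤳ x) :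
    (clIdeal p x (p η) (hη.map p.continuous)).map (X.presheaf.stalkSpecializes hη).hom = fibIdeal p η := by
  have h' : p η ⤳ p x := hη.map p.continuous
  letI := (Y.presheaf.stalkSpecializes h').hom.toAlgebra
  haveI := S5090.isLocalization_stalkSpecializes h'
  have hm : RingHom.ker (Cyc.specMap (p x) (p η) h') =
      (IsLocalRing.maximalIdeal (Y.presheaf.stalk (p η))).comap (Y.presheaf.stalkSpecializes h').hom := by
    ext a
    exact IsLocalRing.residue_eq_zero_iff _
  unfold clIdeal fibIdeal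
  rw [hm, Ideal.map_map, ← CommRingCat.hom_comp, ← Scheme.Hom.stalkSpecializes_stalkMap p η x hη,
    CommRingCat.hom_comp, ← Ideal.map_map]
  congr 1
  exact IsLocalization.AtPrime.map_eq_maximalIdeal
    ((IsLocalRing.maximalIdeal (Y.presheaf.stalk (p η))).comap (Y.presheaf.stalkSpecializes h').hom)
    (Y.presheaf.stalk (p η))

variable {δX : X → ℤ} {δY : Y → ℤ} {c : ℤ} [IsLocallyNoetherian X] [IsLocallyNoetherian Y]
  (hs : IsShift p δX δY c) (hδX : Cyc.IsDimFun X δX) (hδY : Cyc.IsDimFun Y δY)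
include hs hδX hδY

section Main

variable {ξ : Y} {x : X} (h : ξ ⤳ p x) (hd : δY (p x) + 1 = δY ξ) (hx : δX x = δY (p x) + c)
include hd hx

omit [IsLocallyNoetherian X] [IsLocallyNoetherian Y] in
theorem eq_or_over (Q : PrimeSpectrum (X.presheaf.stalk x)) (hQ : clIdeal p x ξ h ≤ Q.asIdeal) :
    Q = IsLocalRing.closedPoint _ ∨
      (p (X.fromSpecStalk x Q) = ξ ∧ δX (X.fromSpecStalk x Q) = δX x + 1 ∧ MaxFib p (X.fromSpecStalk x Q)) := by
  have hw : X.fromSpecStalk x Q ⤳ x := fromSpecStalk_specializes Q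
  have h2 := (clIdeal_le_iff h Q).1 hQ
  by_cases hne : X.fromSpecStalk x Q = x
  · exact Or.inl ((X.fromSpecStalk x).isEmbedding.injective (hne.trans Scheme.fromSpecStalk_closedPoint.symm))
  · have he : p (X.fromSpecStalk x Q) = ξ := by
      rcases eq_or_eq_of_between hδY h2 (hw.map p.continuous) hd with e | e
      · exact e
      · exact absurd (hs.maxFib_of_eq hδX hx _ e hw) hne
    have h3 := (hδX _ _ hw hne).1
    have h4 := hs.le hδX (X.fromSpecStalk x Q)
    rw [he] at h4
    exact Or.inr ⟨he, by omega, hs.maxFib_of_eq hδX (by rw [he]; omega)⟩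

omit [IsLocallyNoetherian X] [IsLocallyNoetherian Y] in
theorem over_delta (η : Over p ξ) : δX η.1 = δX x + 1 := by
  rw [hs η.1 η.2.2, η.2.1]
  omega

variable [Flat p]

/-- The divisor formula for a function which is regular at the point. -/
theorem len_eq_sum {a : Y.presheaf.stalk (p x)} (ha : Cyc.specMap (p x) ξ h a ≠ 0) :
    Cyc.ordAt (p x) ξ h (Cyc.specMap (p x) ξ h a) * mult p x =
      ∑ᶠ η : Over p ξ, mult p η.1 * Cyc.divFun δX η.1 (lift p (Cyc.specMap (p x) ξ h a) η.2.1) x ∧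
    (Function.support fun η : Over p ξ =>
      mult p η.1 * Cyc.divFun δX η.1 (lift p (Cyc.specMap (p x) ξ h a) η.2.1) x).Finite := by
  classical
  have hmax := hs.maxFib_of_eq hδX hx
  letI := (p.stalkMap x).hom.toAlgebra
  haveI : Module.Flat (Y.presheaf.stalk (p x)) (X.presheaf.stalk x) := Flat.stalkMap p x
  set P : Ideal (Y.presheaf.stalk (p x)) := RingHom.ker (Cyc.specMap (p x) ξ h)
  haveI := krullDimLE_locQuot hδY h hd
  have hR0 : Ideal.Quotient.mk P a ∈ nonZeroDivisors ((Y.presheaf.stalk (p x)) ⧸ P) :=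
    mem_nonZeroDivisors_of_ne_zero fun e => ha (RingHom.mem_ker.1 (Ideal.Quotient.eq_zero_iff_mem.1 e))
  set J : Ideal (X.presheaf.stalk x) := clIdeal p x ξ h
  set b : (X.presheaf.stalk x) := p.stalkMap x a
  let eJ : ((X.presheaf.stalk x) ⧸ J) ≃ₗ[(X.presheaf.stalk x)] (X.presheaf.stalk x) ⊗[(Y.presheaf.stalk (p x))] ((Y.presheaf.stalk (p x)) ⧸ P) := (Algebra.TensorProduct.quotIdealMapEquivTensorQuot (X.presheaf.stalk x) P).toLinearEquiv
  have heq : ∀ z, eJ (b • z) = (LinearMap.lsmul (Y.presheaf.stalk (p x)) ((Y.presheaf.stalk (p x)) ⧸ P) a).lTensor (X.presheaf.stalk x) (eJ z) := fun z => by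
    rw [map_smul]
    induction eJ z using TensorProduct.induction_on with
    | zero => rw [smul_zero, map_zero]
    | tmul u v =>
      rw [LinearMap.lTensor_tmul, LinearMap.lsmul_apply, TensorProduct.tmul_smul, TensorProduct.smul_tmul', TensorProduct.smul_tmul']
      rfl
    | add u v hu hv => rw [smul_add, map_add, hu, hv]
  have hinj : Function.Injective (LinearMap.lsmul (X.presheaf.stalk x) ((X.presheaf.stalk x) ⧸ J) b) := fun z z' e => by
    refine eJ.injective (Module.Flat.lTensor_preserves_injective_linearMap (M := (X.presheaf.stalk x)) (LinearMap.lsmul (Y.presheaf.stalk (p x)) ((Y.presheaf.stalk (p x)) ⧸ P) a) ?_ ?_)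
    · intro u v huv
      rw [LinearMap.lsmul_apply, LinearMap.lsmul_apply, ← sub_eq_zero, ← smul_sub, Algebra.smul_def,
        mul_comm] at huv
      exact sub_eq_zero.1 ((mem_nonZeroDivisors_iff_right.1 hR0) _ huv)
    · rw [← heq, ← heq]
      exact congrArg eJ e
  set I : Ideal (Y.presheaf.stalk (p x)) := P ⊔ Ideal.span {a}
  have hI : IsFiniteLength (Y.presheaf.stalk (p x)) ((Y.presheaf.stalk (p x)) ⧸ I) := by
    rw [← Module.length_ne_top_iff,
      ← (DoubleQuot.quotQuotEquivQuotSupₐ (Y.presheaf.stalk (p x)) P (Ideal.span {a})).toLinearEquiv.length_eq,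
      Module.length_eq_of_surjective (R := (Y.presheaf.stalk (p x)) ⧸ P) (S := (Y.presheaf.stalk (p x))) Ideal.Quotient.mk_surjective, Ideal.map_span,
      Set.image_singleton]
    exact Ring.ord_ne_top hR0
  have hfib := isFiniteLength_fib p hmax
  have h2 : J ⊔ Ideal.span {b} = I.map (p.stalkMap x).hom := by
    rw [Ideal.map_sup, Ideal.map_span, Set.image_singleton]
  have hlen : Module.length (X.presheaf.stalk x) (((X.presheaf.stalk x) ⧸ J) ⧸ b • (⊤ : Submodule (X.presheaf.stalk x) ((X.presheaf.stalk x) ⧸ J))) =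
      Module.length (Y.presheaf.stalk (p x)) ((Y.presheaf.stalk (p x)) ⧸ I) * Module.length (X.presheaf.stalk x) ((X.presheaf.stalk x) ⧸ fibIdeal p x) := by
    have e1 : Module.length (X.presheaf.stalk x) ((X.presheaf.stalk x) ⧸ I.map (p.stalkMap x).hom) =
        Module.length (Y.presheaf.stalk (p x)) ((Y.presheaf.stalk (p x)) ⧸ I) * Module.length (X.presheaf.stalk x) ((X.presheaf.stalk x) ⧸ fibIdeal p x) := by
      have := InjHullLib.length_baseChange (X.presheaf.stalk x) hI
      rwa [← (Algebra.TensorProduct.quotIdealMapEquivTensorQuot (X.presheaf.stalk x) I).toLinearEquiv.length_eq] at this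
    rw [← e1, ← h2, ← (DoubleQuot.quotQuotEquivQuotSupₐ (X.presheaf.stalk x) J (Ideal.span {b})).toLinearEquiv.length_eq]
    have hsub : b • (⊤ : Submodule (X.presheaf.stalk x) ((X.presheaf.stalk x) ⧸ J)) =
        ((Ideal.span {b}).map (Ideal.Quotient.mkₐ (X.presheaf.stalk x) J)).restrictScalars (X.presheaf.stalk x) := by
      ext z
      rw [Submodule.mem_smul_pointwise_iff_exists, Submodule.restrictScalars_mem, Ideal.map_span, Set.image_singleton,
        Ideal.mem_span_singleton]
      constructor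
      · rintro ⟨w, -, rfl⟩
        exact ⟨w, rfl⟩
      · rintro ⟨w, rfl⟩
        exact ⟨w, trivial, rfl⟩
    exact (Submodule.quotEquivOfEq _ _ hsub).length_eq
  have hne2 : Module.length (Y.presheaf.stalk (p x)) ((Y.presheaf.stalk (p x)) ⧸ I) * Module.length (X.presheaf.stalk x) ((X.presheaf.stalk x) ⧸ fibIdeal p x) ≠ ⊤ :=
    WithTop.mul_ne_top (Module.length_ne_top_iff.2 hI) (Module.length_ne_top_iff.2 hfib)
  have hsupp : ∀ Q : PrimeSpectrum (X.presheaf.stalk x), Q ∈ Module.support (X.presheaf.stalk x) ((X.presheaf.stalk x) ⧸ J) ↔ J ≤ Q.asIdeal := fun Q => by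
    rw [Module.support_eq_zeroLocus, Ideal.annihilator_quotient]
    rfl
  have hd1 : Module.supportDim (X.presheaf.stalk x) ((X.presheaf.stalk x) ⧸ J) ≤ 1 := by
    refine iSup_le fun l => ?_
    by_contra hl
    have hlen : 2 ≤ l.length := by
      by_contra h'
      exact hl (by exact_mod_cast (show l.length ≤ 1 by omega))
    let Q₀ := l ⟨0, by omega⟩
    let Q₁ := l ⟨1, by omega⟩
    let Q₂ := l ⟨2, by omega⟩
    have h01 : Q₀ < Q₁ := l.strictMono (Fin.mk_lt_mk.2 zero_lt_one)
    have h12 : Q₁ < Q₂ := l.strictMono (Fin.mk_lt_mk.2 one_lt_two)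
    rcases eq_or_over hs hδX hδY h hd hx Q₀.1 ((hsupp _).1 Q₀.2) with e | ⟨-, e₀, -⟩
    · have hlt : Q₀.1.asIdeal < Q₁.1.asIdeal := h01
      rw [e] at hlt
      exact hlt.not_ge (IsLocalRing.le_maximalIdeal Q₁.1.2.ne_top)
    rcases eq_or_over hs hδX hδY h hd hx Q₁.1 ((hsupp _).1 Q₁.2) with e | ⟨-, e₁, -⟩
    · have hlt : Q₁.1.asIdeal < Q₂.1.asIdeal := h12
      rw [e] at hlt
      exact hlt.not_ge (IsLocalRing.le_maximalIdeal Q₂.1.2.ne_top)
    have := (hδX _ _ ((fromSpecStalk_specializes_iff Q₀.1 Q₁.1).2 h01.le)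
      ((X.fromSpecStalk x).isEmbedding.injective.ne fun e => h01.ne (Subtype.ext e))).1
    omega
  have hd0 : Module.supportDim (X.presheaf.stalk x) (((X.presheaf.stalk x) ⧸ J) ⧸ b • (⊤ : Submodule (X.presheaf.stalk x) ((X.presheaf.stalk x) ⧸ J))) ≤ 0 := by
    haveI : Subsingleton (Module.support (X.presheaf.stalk x) (((X.presheaf.stalk x) ⧸ J) ⧸ b • (⊤ : Submodule (X.presheaf.stalk x) ((X.presheaf.stalk x) ⧸ J)))) := ⟨fun q q' => by
      have hfl : IsFiniteLength (X.presheaf.stalk x) (((X.presheaf.stalk x) ⧸ J) ⧸ b • (⊤ : Submodule (X.presheaf.stalk x) ((X.presheaf.stalk x) ⧸ J))) := by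
        rw [← Module.length_ne_top_iff, hlen]; exact hne2
      exact Subtype.ext (PrimeSpectrum.ext ((IsLocalRing.eq_maximalIdeal ((S16234.result (X.presheaf.stalk x) _).2 hfl q.1 q.2)).trans
        (IsLocalRing.eq_maximalIdeal ((S16234.result (X.presheaf.stalk x) _).2 hfl q'.1 q'.2)).symm))⟩
    exact Order.krullDim_nonpos_of_subsingleton
  have key := S1833.result (X.presheaf.stalk x) ((X.presheaf.stalk x) ⧸ J) b hd1 hd0
  rw [LinearMap.ker_eq_bot.2 hinj, show Module.length (X.presheaf.stalk x) (⊥ : Submodule (X.presheaf.stalk x) ((X.presheaf.stalk x) ⧸ J)) = 0 from Module.length_eq_zero,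
    zero_add, hlen] at key
  rw [finsum_subtype_eq_finsum_cond
    (f := fun Q : PrimeSpectrum (X.presheaf.stalk x) => Ring.ord ((X.presheaf.stalk x) ⧸ Q.asIdeal) (Ideal.Quotient.mk Q.asIdeal b) *
      Module.length (Localization.AtPrime Q.asIdeal) (LocalizedModule Q.asIdeal.primeCompl ((X.presheaf.stalk x) ⧸ J)))
    (fun Q => Q ∈ Module.support (X.presheaf.stalk x) ((X.presheaf.stalk x) ⧸ J) ∧ Q.asIdeal ≠ IsLocalRing.maximalIdeal (X.presheaf.stalk x)) |>.symm] at key
  set T := {Q : PrimeSpectrum (X.presheaf.stalk x) // Q ∈ Module.support (X.presheaf.stalk x) ((X.presheaf.stalk x) ⧸ J) ∧ Q.asIdeal ≠ IsLocalRing.maximalIdeal (X.presheaf.stalk x)}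
  haveI : Finite T := by
    haveI : Finite J.minimalPrimes := (J.finite_minimalPrimes_of_isNoetherianRing _).to_subtype
    refine Finite.of_injective (β := J.minimalPrimes) (fun Q : T => ⟨Q.1.asIdeal, ⟨⟨Q.1.2, (hsupp _).1 Q.2.1⟩,
      fun R hR hRQ => ?_⟩⟩) (fun (Q Q' : T) e => Subtype.ext (PrimeSpectrum.ext (congrArg Subtype.val e)))
    · haveI := hR.1
      let R' : PrimeSpectrum (X.presheaf.stalk x) := ⟨R, hR.1⟩
      rcases eq_or_over hs hδX hδY h hd hx R' hR.2 with e | ⟨-, e₀, -⟩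
      · exact (congrArg PrimeSpectrum.asIdeal e).ge.trans' (IsLocalRing.le_maximalIdeal Q.1.2.ne_top)
      rcases eq_or_over hs hδX hδY h hd hx Q.1 ((hsupp _).1 Q.2.1) with e | ⟨-, e₁, -⟩
      · exact absurd (congrArg PrimeSpectrum.asIdeal e) Q.2.2
      by_contra hne
      have hne' : X.fromSpecStalk x R' ≠ X.fromSpecStalk x Q.1 :=
        (X.fromSpecStalk x).isEmbedding.injective.ne fun e => hne (congrArg PrimeSpectrum.asIdeal e).ge
      have := (hδX _ _ ((fromSpecStalk_specializes_iff R' Q.1).2 hRQ) hne').1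
      omega
  haveI := Fintype.ofFinite T
  have hov : ∀ Q : T, p (X.fromSpecStalk x Q.1) = ξ ∧ δX (X.fromSpecStalk x Q.1) = δX x + 1 ∧
      MaxFib p (X.fromSpecStalk x Q.1) := fun Q =>
    (eq_or_over hs hδX hδY h hd hx Q.1 ((hsupp _).1 Q.2.1)).resolve_left fun e =>
      Q.2.2 (congrArg PrimeSpectrum.asIdeal e)
  let ι : T → Over p ξ := fun Q => ⟨X.fromSpecStalk x Q.1, (hov Q).1, (hov Q).2.2⟩
  have hι : Function.Injective ι := fun Q Q' e =>
    Subtype.ext ((X.fromSpecStalk x).isEmbedding.injective (congrArg (fun η : Over p ξ => η.1) e))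
  set F : Over p ξ → ℤ := fun η => mult p η.1 * Cyc.divFun δX η.1 (lift p (Cyc.specMap (p x) ξ h a) η.2.1) x
  have hrange : Function.support F ⊆ ↑(Finset.univ.map ⟨ι, hι⟩) := by
    intro η hη
    obtain ⟨hηx, hηd⟩ := specializes_of_divFun_ne_zero (right_ne_zero_of_mul hη)
    obtain ⟨Q, hQ⟩ := exists_fromSpecStalk hηx
    have hJ : J ≤ Q.asIdeal := (clIdeal_le_iff h Q).2 (by rw [hQ, η.2.1])
    refine Finset.mem_coe.2 (Finset.mem_map.2 ⟨⟨Q, (hsupp Q).2 hJ, fun e => ?_⟩, Finset.mem_univ _, Subtype.ext hQ⟩)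
    rw [show Q = IsLocalRing.closedPoint _ from PrimeSpectrum.ext e, Scheme.fromSpecStalk_closedPoint] at hQ
    rw [← hQ] at hηd
    omega
  have hterm : ∀ Q : T, F (ι Q) = ((Ring.ord ((X.presheaf.stalk x) ⧸ Q.1.asIdeal) (Ideal.Quotient.mk Q.1.asIdeal b) *
      Module.length (Localization.AtPrime Q.1.asIdeal) (LocalizedModule Q.1.asIdeal.primeCompl ((X.presheaf.stalk x) ⧸ J))).toNat : ℤ) := by
    intro Q
    have hη := fromSpecStalk_specializes Q.1
    obtain ⟨hpη, hdη, -⟩ := hov Q
    have hker := ker_specMap_eq Q.1 hη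
    have hne : Cyc.specMap x (X.fromSpecStalk x Q.1) hη b ≠ 0 := by
      rw [← lift_specMap hpη h hη a]
      exact lift_ne_zero ha hpη
    show mult p (X.fromSpecStalk x Q.1) * Cyc.divFun δX _ (lift p _ hpη) x = _
    rw [divFun_of hη (by omega), lift_specMap hpη h hη a, ordAt_specMap hδX hη (by omega) hne, ENat.toNat_mul,
      show Ring.ord (Cyc.LocQuot x _ hη) (Ideal.Quotient.mk _ b) = Ring.ord ((X.presheaf.stalk x) ⧸ Q.1.asIdeal) (Ideal.Quotient.mk _ b) from by
        rw [show Ideal.Quotient.mk Q.1.asIdeal b = Ideal.quotEquivOfEq hker (Ideal.Quotient.mk _ b) from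
          (Ideal.quotEquivOfEq_mk hker b).symm, TameLib.ord_ringEquiv]]
    push_cast
    rw [mul_comm]
    congr 1
    letI := (X.presheaf.stalkSpecializes hη).hom.toAlgebra
    haveI := S5090.isLocalization_stalkSpecializes hη
    haveI : IsLocalization.AtPrime (X.presheaf.stalk (X.fromSpecStalk x Q.1)) Q.1.asIdeal := by
      have e : Q.1.asIdeal = (IsLocalRing.maximalIdeal _).comap (X.presheaf.stalkSpecializes hη).hom := by
        rw [← hker]
        ext t
        exact IsLocalRing.residue_eq_zero_iff _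
      have h' : Q.1.asIdeal.primeCompl =
          ((IsLocalRing.maximalIdeal _).comap (X.presheaf.stalkSpecializes hη).hom).primeCompl := by
        ext t
        simp only [Ideal.primeCompl, Submonoid.mem_mk, Subsemigroup.mem_mk, Set.mem_compl_iff, SetLike.mem_coe, ← e]
      show IsLocalization Q.1.asIdeal.primeCompl _
      rw [h']
      infer_instance
    rw [length_localized_quot (S := X.presheaf.stalk (X.fromSpecStalk x Q.1)), mult, RingHom.algebraMap_toAlgebra]
    have hJmap : J.map (X.presheaf.stalkSpecializes hη).hom = fibIdeal p (X.fromSpecStalk x Q.1) := by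
      rw [← clIdeal_map hη]
      have : ∀ (ζ : Y) (hz : ζ ⤳ p x) (e : ζ = ξ), clIdeal p x ζ hz = clIdeal p x ξ h := by
        rintro ζ hz rfl; rfl
      rw [this _ _ hpη]
    rw [hJmap]
  refine ⟨?_, (Finset.finite_toSet _).subset hrange⟩
  rw [finsum_eq_sum_of_support_subset F hrange, Finset.sum_map]
  simp only [Function.Embedding.coeFn_mk, hterm]
  rw [finsum_eq_sum_of_fintype] at key
  rw [← Nat.cast_sum, ← ENat.toNat_sum (fun Q _ => fun htop => hne2 (key.trans (top_le_iff.1
    (htop.symm.le.trans (Finset.single_le_sum (fun _ _ => bot_le) (Finset.mem_univ Q)))))), ← key, ENat.toNat_mul,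
    ordAt_specMap hδY h hd ha, mult]
  push_cast
  congr 3
  rw [← (DoubleQuot.quotQuotEquivQuotSupₐ (Y.presheaf.stalk (p x)) P (Ideal.span {a})).toLinearEquiv.length_eq,
    Module.length_eq_of_surjective (R := (Y.presheaf.stalk (p x)) ⧸ P) (S := (Y.presheaf.stalk (p x))) Ideal.Quotient.mk_surjective, Ideal.map_span,
    Set.image_singleton]
  rfl

end Main

/-- The pullback of a principal divisor. -/
theorem pullFun_divFun [Flat p] (ξ : Y) {g : Y.residueField ξ} (hg : g ≠ 0) (x : X) :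
    Cyc.pullFun p δX δY c (Cyc.divFun δY ξ g) x =
      ∑ᶠ η : Over p ξ, mult p η.1 * Cyc.divFun δX η.1 (lift p g η.2.1) x := by
  have hz : ∀ η : Over p ξ, ¬ (ξ ⤳ p x ∧ δX x + 1 = δY ξ + c) → Cyc.divFun δX η.1 (lift p g η.2.1) x = 0 := by
    intro η hn
    by_contra hne
    obtain ⟨h1, h2⟩ := specializes_of_divFun_ne_zero hne
    refine hn ⟨η.2.1 ▸ h1.map p.continuous, ?_⟩
    rw [hs η.1 η.2.2, η.2.1] at h2
    omega
  rw [pullFun_apply, show ((Module.length (X.presheaf.stalk x) (X.presheaf.stalk x ⧸ fibIdeal p x)).toNat : ℤ) = mult p x from rfl]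
  by_cases hA : ξ ⤳ p x ∧ δX x + 1 = δY ξ + c
  swap
  · rw [finsum_eq_zero_of_forall_eq_zero fun η => by rw [hz η hA, mul_zero]]
    split_ifs with hx
    · rw [show Cyc.divFun δY ξ g (p x) = 0 from dif_neg fun h' => hA ⟨h'.1, by omega⟩, zero_mul]
    · rfl
  obtain ⟨h, hA⟩ := hA
  have hle := hs.le hδX x
  by_cases hpx : ξ = p x
  · subst hpx
    rw [if_neg (by omega)]
    symm
    refine finsum_eq_zero_of_forall_eq_zero fun η => ?_
    by_cases hη : η.1 ⤳ x ∧ δX x + 1 = δX η.1
    swap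
    · rw [show Cyc.divFun δX η.1 (lift p g η.2.1) x = 0 from dif_neg hη, mul_zero]
    obtain ⟨t, rfl⟩ := Y.residue_surjective (p x) g
    have ht : IsUnit t := by
      by_contra hu
      exact hg ((IsLocalRing.residue_eq_zero_iff _).2 hu)
    have e : Y.residue (p x) t = Cyc.specMap (p x) (p x) h t := by
      show _ = Y.residue (p x) (Y.presheaf.stalkSpecializes h t)
      rw [TopCat.Presheaf.stalkSpecializes_refl]
      rfl
    rw [divFun_of hη.1 hη.2, e, lift_specMap η.2.1 h hη.1,
      ordAt_specMap_unit hδX hη.1 hη.2 (ht.map (p.stalkMap x).hom), mul_zero]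
  have hlt := (hδY ξ (p x) h hpx).1
  have hd : δY (p x) + 1 = δY ξ := by omega
  have hx : δX x = δY (p x) + c := by omega
  rw [if_pos hx, divFun_of h hd]
  obtain ⟨a, b, hb, rfl⟩ := exists_fraction h g
  have ha : Cyc.specMap (p x) ξ h a ≠ 0 := fun e => hg (by rw [e, zero_div])
  obtain ⟨ea, fa⟩ := len_eq_sum hs hδX hδY h hd hx ha
  obtain ⟨eb, fb⟩ := len_eq_sum hs hδX hδY h hd hx hb
  rw [div_eq_mul_inv, ordAt_mul hδY h hd ha (inv_ne_zero hb), ordAt_inv hδY h hd hb, ← sub_eq_add_neg, sub_mul, ea, eb,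
    ← finsum_sub_distrib fa fb]
  refine finsum_congr fun η => ?_
  rw [← mul_sub]
  congr 1
  by_cases hη : η.1 ⤳ x ∧ δX x + 1 = δX η.1
  · rw [divFun_of hη.1 hη.2, divFun_of hη.1 hη.2, divFun_of hη.1 hη.2, lift_mul, lift_inv,
      ordAt_mul hδX hη.1 hη.2 (lift_ne_zero ha _) (inv_ne_zero (lift_ne_zero hb _)),
      ordAt_inv hδX hη.1 hη.2 (lift_ne_zero hb _), sub_eq_add_neg]
  · simp [Cyc.divFun, dif_neg hη]

end Groth.Agent.CycLib
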