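import Groth.Agent.CycLib.DivPull

/-! # Flat pullback preserves rational equivalence -/

set_option autoImplicit false
set_option backward.isDefEq.respectTransparency false
set_option linter.style.haveILetI false

universe u

open CategoryTheory AlgebraicGeometry TopologicalSpace

noncomputable section

namespace Groth.Agent.CycLib

variable {X Y : Scheme.{u}} {p : X ⟶ Y}

/-- A point lies under finitely many generic points of fibre components meeting an affine open. -/
theorem finite_over [IsLocallyNoetherian X] (ξ : Y) {V : X.Opens} (hV : IsAffineOpen V) :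
    {η : Over p ξ | η.1 ∈ V}.Finite := by
  haveI : IsNoetherianRing Γ(X, V) := IsLocallyNoetherian.component_noetherian ⟨V, hV⟩
  let S : Set (PrimeSpectrum Γ(X, V)) := hV.fromSpec ⁻¹' (p ⁻¹' closure {ξ})
  have hS : IsClosed S := (isClosed_closure.preimage p.continuous).preimage hV.fromSpec.continuous
  have hmem : ∀ Q : PrimeSpectrum Γ(X, V), PrimeSpectrum.vanishingIdeal S ≤ Q.asIdeal ↔ Q ∈ S := fun Q => by
    conv_rhs => rw [← hS.closure_eq, ← PrimeSpectrum.zeroLocus_vanishingIdeal_eq_closure]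
    rfl
  haveI : Finite (PrimeSpectrum.vanishingIdeal S).minimalPrimes :=
    ((PrimeSpectrum.vanishingIdeal S).finite_minimalPrimes_of_isNoetherianRing _).to_subtype
  refine Set.finite_coe_iff.1 (Finite.of_injective (β := (PrimeSpectrum.vanishingIdeal S).minimalPrimes)
    (fun η : {η : Over p ξ | η.1 ∈ V} => ⟨(hV.primeIdealOf ⟨η.1.1, η.2⟩).asIdeal, ?_⟩) fun η η' e => ?_)
  · have hη : hV.fromSpec (hV.primeIdealOf ⟨η.1.1, η.2⟩) = η.1.1 := hV.fromSpec_primeIdealOf ⟨η.1.1, η.2⟩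
    refine ⟨⟨(hV.primeIdealOf ⟨η.1.1, η.2⟩).2, (hmem _).2 ?_⟩, fun R hR hRQ => ?_⟩
    · show p (hV.fromSpec _) ∈ closure {ξ}
      rw [hη, η.1.2.1]
      exact subset_closure rfl
    · let R' : PrimeSpectrum Γ(X, V) := ⟨R, hR.1⟩
      have h1 : hV.fromSpec R' ⤳ η.1.1 := by
        have := ((PrimeSpectrum.le_iff_specializes R' (hV.primeIdealOf ⟨η.1.1, η.2⟩)).1 hRQ).map hV.fromSpec.continuous
        rwa [hη] at this
      have h2 : ξ ⤳ p (hV.fromSpec R') := specializes_iff_mem_closure.2 ((hmem R').1 hR.2)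
      have h3 : p (hV.fromSpec R') ⤳ ξ := η.1.2.1 ▸ h1.map p.continuous
      have h4 : hV.fromSpec R' = η.1.1 := η.1.2.2 _ (by rw [η.1.2.1]; exact (h3.antisymm h2).eq) h1
      exact (congrArg PrimeSpectrum.asIdeal (hV.fromSpec.isEmbedding.injective (h4.trans hη.symm))).ge
  · refine Subtype.ext (Subtype.ext ?_)
    have := congrArg (fun Q => hV.fromSpec Q) (PrimeSpectrum.ext (congrArg Subtype.val e))
    rwa [hV.fromSpec_primeIdealOf, hV.fromSpec_primeIdealOf] at this

variable [IsLocallyNoetherian X] [IsLocallyNoetherian Y] {δX : X → ℤ} {δY : Y → ℤ} {c k : ℤ}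

/-- The pullback of a family. -/
def Fam.pull (hs : IsShift p δX δY c) (F : Fam δY k) : Fam δX (k + c) where
  ι := Σ i, Over p (F.ξ i)
  ξ q := q.2.1
  f q := lift p (F.f q.1) q.2.2.1 ^ mult p q.2.1
  hξ q := by rw [hs q.2.1 q.2.2.2, q.2.2.1, F.hξ]; ring
  hf q := zpow_ne_zero _ (lift_ne_zero (F.hf q.1) _)
  fin x := by
    classical
    obtain ⟨W, hW, hxW⟩ := exists_affine (p x)
    obtain ⟨V, hV, hxV, hVW⟩ := exists_isAffineOpen_mem_and_subset (x := x) (U := p ⁻¹ᵁ W) hxW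
    refine ⟨V, V.2, hxV, ((F.finite_mem hW.isCompact).toFinset.sigma
      fun i => (finite_over (p := p) (F.ξ i) hV).toFinset).finite_toSet.subset fun q ⟨y, hy, hyV⟩ => ?_⟩
    have hqV : q.2.1 ∈ V := (specializes_iff_mem_closure.2 hy).mem_open V.2 hyV
    have hqW : F.ξ q.1 ∈ W := q.2.2.1 ▸ hVW hqV
    simp [hqV, hqW]

/-- Flat pullback preserves rational equivalence to zero. -/
theorem ratEquivZero_pull [Flat p] (hs : IsShift p δX δY c) (hδX : Cyc.IsDimFun X δX) (hδY : Cyc.IsDimFun Y δY)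
    {α : AlgebraicCycle Y ℤ} (h : Cyc.RatEquivZero δY k α) (α' : AlgebraicCycle X ℤ)
    (hα' : ⇑α' = Cyc.pullFun p δX δY c ⇑α) : Cyc.RatEquivZero δX (k + c) α' := by
  classical
  obtain ⟨F, hF⟩ := (ratEquivZero_iff _).1 h
  refine (ratEquivZero_iff _).2 ⟨F.pull hs, fun x => ?_⟩
  rw [hα']
  obtain ⟨W, hW, hxW⟩ := exists_affine (p x)
  obtain ⟨V, hV, hxV, hVW⟩ := exists_isAffineOpen_mem_and_subset (x := x) (U := p ⁻¹ᵁ W) hxW
  set s := (F.finite_mem hW.isCompact).toFinset with hs'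
  set t := fun i => (finite_over (p := p) (F.ξ i) hV).toFinset with ht'
  have e1 : ∀ q : (Σ i, Over p (F.ξ i)), Cyc.divFun δX ((F.pull hs).ξ q) ((F.pull hs).f q) x =
      mult p q.2.1 * Cyc.divFun δX q.2.1 (lift p (F.f q.1) q.2.2.1) x := fun q => by
    show Cyc.divFun δX q.2.1 (lift p (F.f q.1) q.2.2.1 ^ mult p q.2.1) x = _
    by_cases h : q.2.1 ⤳ x ∧ δX x + 1 = δX q.2.1
    · rw [divFun_of h.1 h.2, divFun_of h.1 h.2, ordAt_zpow hδX h.1 h.2 (lift_ne_zero (F.hf q.1) _)]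
    · rw [Cyc.divFun, Cyc.divFun, dif_neg h, dif_neg h, mul_zero]
  refine Eq.trans ?_ (finsum_congr (α := Σ i, Over p (F.ξ i)) e1).symm
  rw [finsum_eq_sum_of_support_subset (α := Σ i, Over p (F.ξ i)) _ (s := s.sigma t) ?_, Finset.sum_sigma]
  swap
  · intro q hq
    obtain ⟨h1, -⟩ := specializes_of_divFun_ne_zero (right_ne_zero_of_mul hq)
    have hqV : q.2.1 ∈ V := h1.mem_open V.2 hxV
    have hqW : F.ξ q.1 ∈ W := q.2.2.1 ▸ hVW hqV
    simp [s, t, hqV, hqW]
  have e2 : ∀ i, ∑ η ∈ t i, mult p η.1 * Cyc.divFun δX η.1 (lift p (F.f i) η.2.1) x =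
      Cyc.pullFun p δX δY c (Cyc.divFun δY (F.ξ i) (F.f i)) x := fun i => by
    rw [pullFun_divFun hs hδX hδY (F.ξ i) (F.hf i) x, finsum_eq_sum_of_support_subset _ (s := t i) ?_]
    intro η hη
    obtain ⟨h1, -⟩ := specializes_of_divFun_ne_zero (right_ne_zero_of_mul hη)
    simp only [t, Set.Finite.coe_toFinset]
    exact h1.mem_open V.2 hxV
  rw [Finset.sum_congr rfl fun i _ => e2 i]
  simp only [pullFun_apply]
  split_ifs
  · rw [hF, finsum_eq_sum_of_support_subset _ (s := s) ?_, Finset.sum_mul]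
    intro i hi
    simpa [s] using (specializes_of_divFun_ne_zero hi).1.mem_open W.2 hxW
  · simp

end Groth.Agent.CycLib
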