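import Groth.Agent.CycLib.NormOrd
import Groth.Agent.CycLib.RatPull
import Groth.Agent.S1867
import Groth.Agent.S1862
import Mathlib.AlgebraicGeometry.FunctionField

/-! # Pushforward of principal divisors along generically finite proper maps -/

set_option autoImplicit false
set_option backward.isDefEq.respectTransparency false
set_option linter.style.haveILetI false

universe u

open CategoryTheory AlgebraicGeometry TopologicalSpace

noncomputable section

namespace Groth.Agent.CycLib

theorem ker_specMap_generic {X : Scheme.{u}} [IsIntegral X] (x : X) (h : genericPoint X ⤳ x) :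
    RingHom.ker (Cyc.specMap x (genericPoint X) h) = ⊥ := by
  rw [← RingHom.injective_iff_ker_eq_bot]
  show Function.Injective (⇑(X.residue (genericPoint X)).hom ∘ ⇑(X.presheaf.stalkSpecializes h).hom)
  refine ((injective_iff_map_eq_zero _).2 fun a ha => ?_).comp
    (IsFractionRing.injective (X.presheaf.stalk x) X.functionField)
  by_contra h0
  exact (IsLocalRing.residue_eq_zero_iff _).1 ha (IsUnit.mk0 (G₀ := X.functionField) a h0)

theorem germ_residue_injective {X : Scheme.{u}} [IsIntegral X] {U : X.Opens} (h : genericPoint X ∈ U) :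
    Function.Injective fun a => X.residue (genericPoint X) (X.presheaf.germ U (genericPoint X) h a) := by
  refine Function.Injective.comp ((injective_iff_map_eq_zero (X.residue (genericPoint X)).hom).2 fun a ha => ?_)
    (germ_injective_of_isIntegral _ _ h)
  by_contra h0
  exact (IsLocalRing.residue_eq_zero_iff _).1 ha (IsUnit.mk0 (G₀ := X.functionField) a h0)

theorem ordFrac_ringEquiv {A A' K : Type u} [CommRing A] [IsDomain A] [IsNoetherianRing A] [Ring.KrullDimLE 1 A]
    [CommRing A'] [IsDomain A'] [IsNoetherianRing A'] [Ring.KrullDimLE 1 A'] [Field K] [Algebra A K] [IsFractionRing A K]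
    [Algebra A' K] [IsFractionRing A' K] (φ : A ≃+* A') (hφ : ∀ a, algebraMap A' K (φ a) = algebraMap A K a) (x : K) :
    CycAlg.ordFrac A' K x = CycAlg.ordFrac A K x := by
  obtain ⟨a, b, hb, rfl⟩ := IsFractionRing.div_surjective (A := A) x
  rcases eq_or_ne a 0 with rfl | ha
  · rw [map_zero, zero_div, ordFrac_zero, ordFrac_zero]
  have hb' := nonZeroDivisors.ne_zero hb
  conv_lhs => rw [← hφ, ← hφ]
  rw [OrdDet.ordFrac_div _ _ (φ.map_ne_zero_iff.2 ha) (φ.map_ne_zero_iff.2 hb'), OrdDet.ordFrac_div _ _ ha hb',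
    TameLib.ord_ringEquiv, TameLib.ord_ringEquiv]

variable {X Y : Scheme.{u}} [IsIntegral X] [IsIntegral Y] {δX : X → ℤ} {δY : Y → ℤ} (p : X ⟶ Y) [IsProper p]

/-- The norm formula at a point, for a function regular on an affine neighbourhood of the fibre. -/
theorem sum_fibre_eq [IsLocallyNoetherian X] [IsLocallyNoetherian Y] (hδX : Cyc.IsDimFun X δX) (hδY : Cyc.IsDimFun Y δY)
    (hgen : p (genericPoint X) = genericPoint Y) (hfin : (p.residueFieldMap (genericPoint X)).hom.Finite)
    {y : Y} (hy : p (genericPoint X) ⤳ y) (hd : δY y + 1 = δY (p (genericPoint X)))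
    (hfib : ∀ x, p x = y → δX x + 1 = δX (genericPoint X))
    {W : Y.Opens} (hW : IsAffineOpen W) (hU : IsAffineOpen (p ⁻¹ᵁ W)) (hWfin : (p.app W).hom.Finite) (hyW : y ∈ W)
    (b : Γ(X, p ⁻¹ᵁ W)) (hηU : genericPoint X ∈ p ⁻¹ᵁ W)
    (hb : X.residue (genericPoint X) (X.presheaf.germ (p ⁻¹ᵁ W) (genericPoint X) hηU b) ≠ 0) :
    (p ⁻¹' {y}).Finite ∧
    ∑ᶠ x ∈ p ⁻¹' {y}, (p.residueDegree x : ℤ) * Cyc.divFun δX (genericPoint X)
        (X.residue (genericPoint X) (X.presheaf.germ (p ⁻¹ᵁ W) (genericPoint X) hηU b)) x =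
      Cyc.ordAt y (p (genericPoint X)) hy (Cyc.normGen p (genericPoint X)
        (X.residue (genericPoint X) (X.presheaf.germ (p ⁻¹ᵁ W) (genericPoint X) hηU b))) := by
  classical
  haveI : Nonempty (p ⁻¹ᵁ W : X.Opens) := ⟨⟨_, hηU⟩⟩
  haveI : IsNoetherianRing Γ(Y, W) := IsLocallyNoetherian.component_noetherian ⟨W, hW⟩
  let R := Γ(Y, W)
  let B := Γ(X, p ⁻¹ᵁ W)
  haveI : IsDomain B := Function.Injective.isDomain
    ((X.residue (genericPoint X)).hom.comp (X.presheaf.germ (p ⁻¹ᵁ W) (genericPoint X) hηU).hom)
    (germ_residue_injective hηU)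
  letI : Algebra R B := (p.app W).hom.toAlgebra
  haveI : Module.Finite R B := hWfin
  let Py : PrimeSpectrum R := hW.primeIdealOf ⟨y, hyW⟩
  let P : Ideal R := Py.asIdeal
  let M' := Algebra.algebraMapSubmonoid B P.primeCompl
  let A := Localization.AtPrime P
  let C := Localization M'
  letI : Algebra A C := localizationAlgebra P.primeCompl B
  haveI : IsScalarTower R A C := IsScalarTower.of_algebraMap_eq' (IsLocalization.map_comp _).symm
  haveI : Module.Finite A C := Module.Finite.of_isLocalization R B P.primeCompl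
  -- the function fields
  let K := Y.residueField (p (genericPoint X))
  let L := X.residueField (genericPoint X)
  letI : Algebra K L := (p.residueFieldMap (genericPoint X)).hom.toAlgebra
  haveI : FiniteDimensional K L := hfin
  let ιB : B →+* L := (X.residue (genericPoint X)).hom.comp (X.presheaf.germ (p ⁻¹ᵁ W) (genericPoint X) hηU).hom
  let ιR : R →+* K := (Y.residue (p (genericPoint X))).hom.comp (Y.presheaf.germ W (p (genericPoint X)) hηU).hom
  have hιB : Function.Injective ιB := germ_residue_injective hηU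
  have hcomp : ∀ r : R, ιB (algebraMap R B r) = algebraMap K L (ιR r) := fun r => by
    show X.residue _ (X.presheaf.germ (p ⁻¹ᵁ W) _ hηU (p.app W r)) = p.residueFieldMap _ (Y.residue _ (Y.presheaf.germ W _ hηU r))
    rw [residueFieldMap_residue, Scheme.Hom.germ_stalkMap_apply]
  have hιR : Function.Injective ιR := by
    have : ∀ (a : Y) (e : a = genericPoint Y) (ha : a ∈ W),
        Function.Injective fun r : Γ(Y, W) => Y.residue a (Y.presheaf.germ W a ha r) := by
      intro a e ha
      subst e
      exact germ_residue_injective ha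
    exact this _ hgen hηU
  letI : Algebra R K := ιR.toAlgebra
  have hyloc := hW.isLocalization_stalk ⟨y, hyW⟩
  have hunitA : ∀ s : P.primeCompl, IsUnit (ιR s) := fun s => isUnit_iff_ne_zero.2 fun e =>
    s.2 (by rw [hιR (e.trans (map_zero _).symm)]; exact zero_mem P)
  letI : Algebra A K := (IsLocalization.lift (M := P.primeCompl) (S := A) hunitA).toAlgebra
  have hA : ∀ r : R, algebraMap A K (algebraMap R A r) = ιR r := fun r => IsLocalization.lift_eq _ r
  have hunitC : ∀ s : M', IsUnit (ιB s) := fun ⟨_, r, hr, e⟩ => by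
    subst e
    show IsUnit (ιB (algebraMap R B r))
    rw [hcomp]
    exact (hunitA ⟨r, hr⟩).map _
  letI : Algebra C L := (IsLocalization.lift (M := M') (S := C) hunitC).toAlgebra
  have hC : ∀ z : B, algebraMap C L (algebraMap B C z) = ιB z := fun z => IsLocalization.lift_eq _ z
  letI : Algebra A L := ((algebraMap K L).comp (algebraMap A K)).toAlgebra
  haveI : IsScalarTower A K L := IsScalarTower.of_algebraMap_eq fun _ => rfl
  haveI : IsScalarTower A C L := IsScalarTower.of_algebraMap_eq' (by
    refine IsLocalization.ringHom_ext P.primeCompl (RingHom.ext fun r => ?_)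
    show algebraMap K L (algebraMap A K (algebraMap R A r)) = algebraMap C L (algebraMap A C (algebraMap R A r))
    rw [hA, ← IsScalarTower.algebraMap_apply R A C, IsScalarTower.algebraMap_apply R B C, hC, hcomp])
  have hCinj : Function.Injective (algebraMap C L) := by
    rw [injective_iff_map_eq_zero]
    intro z hz
    obtain ⟨⟨a, s⟩, e⟩ := IsLocalization.surj M' z
    have : ιB a = 0 := by rw [← hC, ← e, map_mul, hz, zero_mul]
    rw [hιB (this.trans (map_zero _).symm), map_zero] at e
    exact (IsLocalization.map_units C s).mul_left_eq_zero.1 e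
  haveI : IsDomain C := hCinj.isDomain _
  haveI : FaithfulSMul C L := (faithfulSMul_iff_algebraMap_injective _ _).2 hCinj
  haveI : IsFractionRing C L := IsFractionRing.of_field _ _ fun z => by
    obtain ⟨a, c, -, rfl⟩ := exists_fraction_affine (specializes_rfl (x := genericPoint X)) hU hηU z
    refine ⟨algebraMap B C a, algebraMap B C c, ?_⟩
    rw [hC, hC, specMap_germ specializes_rfl hηU hηU, specMap_germ specializes_rfl hηU hηU]
    rfl
  -- the base
  haveI := krullDimLE_locQuot hδY hy hd
  haveI := isFractionRing_locQuot hy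
  have hkerY : RingHom.ker (Cyc.specMap y (p (genericPoint X)) hy) = ⊥ := by
    have : ∀ (a : Y) (e : a = genericPoint Y) (ha : a ⤳ y), RingHom.ker (Cyc.specMap y a ha) = ⊥ := by
      intro a e ha
      subst e
      exact ker_specMap_generic y ha
    exact this _ hgen hy
  letI algy : Algebra R (Y.presheaf.stalk y) := (Y.presheaf.germ W y hyW).hom.toAlgebra
  haveI : IsLocalization.AtPrime (Y.presheaf.stalk y) P := hyloc
  let eA : A ≃+* Cyc.LocQuot y (p (genericPoint X)) hy :=
    (IsLocalization.algEquiv P.primeCompl A (Y.presheaf.stalk y)).toRingEquiv.trans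
      (RingEquiv.ofBijective (Ideal.Quotient.mk _)
        ⟨(RingHom.injective_iff_ker_eq_bot _).2 (by rw [Ideal.mk_ker, hkerY]), Ideal.Quotient.mk_surjective⟩)
  have heA : ∀ a, algebraMap _ K (eA a) = algebraMap A K a := by
    refine RingHom.congr_fun (f := (algebraMap _ K).comp eA.toRingHom) (g := algebraMap A K)
      (IsLocalization.ringHom_ext P.primeCompl (RingHom.ext fun r => ?_))
    show algebraMap _ K (eA (algebraMap R A r)) = algebraMap A K (algebraMap R A r)
    rw [hA]
    show Cyc.specMap y _ hy (IsLocalization.algEquiv P.primeCompl A (Y.presheaf.stalk y) (algebraMap R A r)) = ιR r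
    rw [AlgEquiv.commutes]
    exact specMap_germ hy hyW hηU r
  haveI : IsDomain A := eA.injective.isDomain eA.toRingHom
  haveI : IsNoetherianRing A := IsLocalization.isNoetherianRing P.primeCompl A inferInstance
  haveI : Ring.KrullDimLE 1 A := by
    rw [Ring.krullDimLE_iff, ringKrullDim_eq_of_ringEquiv eA]
    exact Ring.krullDimLE_iff.1 inferInstance
  haveI : FaithfulSMul A K := (faithfulSMul_iff_algebraMap_injective _ _).2 fun a a' e => eA.injective
    (IsFractionRing.injective _ K ((heA a).trans (e.trans (heA a').symm)))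
  haveI : IsFractionRing A K := IsFractionRing.of_field _ _ fun z => by
    obtain ⟨a, c, -, e⟩ := IsFractionRing.div_surjective (A := Cyc.LocQuot y (p (genericPoint X)) hy) z
    refine ⟨eA.symm a, eA.symm c, ?_⟩
    rw [← heA, ← heA, eA.apply_symm_apply, eA.apply_symm_apply]
    exact e.symm
  let c : C := algebraMap B C b
  have hc : c ≠ 0 := fun e => hb (show ιB b = 0 by rw [← hC, show algebraMap B C b = 0 from e, map_zero])
  obtain ⟨hmf, hsum⟩ := ordFrac_norm_eq_sum (A := A) (K := K) (L := L) hc
  haveI := hmf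
  -- the points over `y`
  have hover : ∀ n : MaximalSpectrum C, (n.asIdeal.comap (algebraMap B C)).comap (algebraMap R B) = P := fun n => by
    haveI := n.isMaximal
    have h1 : n.asIdeal.comap (algebraMap A C) = IsLocalRing.maximalIdeal A :=
      IsLocalRing.eq_maximalIdeal (Ideal.isMaximal_comap_of_isIntegral_of_isMaximal n.asIdeal)
    rw [Ideal.comap_comap, ← IsScalarTower.algebraMap_eq, IsScalarTower.algebraMap_eq R A C, ← Ideal.comap_comap, h1]
    exact IsLocalization.AtPrime.under_maximalIdeal A P
  let pt : MaximalSpectrum C → X := fun n =>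
    hU.fromSpec ⟨n.asIdeal.comap (algebraMap B C), (n.isMaximal.isPrime).comap _⟩
  have hpt : ∀ n, p (pt n) = y := fun n => by
    have h1 : p (pt n) = hW.fromSpec (PrimeSpectrum.comap (p.app W).hom ⟨n.asIdeal.comap (algebraMap B C), (n.isMaximal.isPrime).comap _⟩) := by
      have h2 : Spec.map (p.app W) ≫ hW.fromSpec = hU.fromSpec ≫ p := by
        rw [← hW.SpecMap_appLE_fromSpec p hU le_rfl, Scheme.Hom.app_eq_appLE]
      rw [← Scheme.Hom.comp_apply, ← h2, Scheme.Hom.comp_apply]
      rfl
    rw [h1, show PrimeSpectrum.comap (p.app W).hom ⟨n.asIdeal.comap (algebraMap B C), (n.isMaximal.isPrime).comap _⟩ = Py from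
      PrimeSpectrum.ext (hover n)]
    exact hW.fromSpec_primeIdealOf ⟨y, hyW⟩
  have hptinj : Function.Injective pt := fun n n' e => by
    have := congrArg PrimeSpectrum.asIdeal (hU.fromSpec.isEmbedding.injective e)
    exact MaximalSpectrum.ext (by
      rw [← IsLocalization.map_comap M' C n.asIdeal, ← IsLocalization.map_comap M' C n'.asIdeal]
      exact congrArg _ this)
  have hptsurj : ∀ x, p x = y → ∃ n, pt n = x := fun x hx => by
    have hxU : x ∈ p ⁻¹ᵁ W := by show p x ∈ W; rw [hx]; exact hyW
    let Qx : PrimeSpectrum B := hU.primeIdealOf ⟨x, hxU⟩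
    have hQP : Qx.asIdeal.comap (algebraMap R B) = P := by
      have h2 : Spec.map (p.app W) ≫ hW.fromSpec = hU.fromSpec ≫ p := by
        rw [← hW.SpecMap_appLE_fromSpec p hU le_rfl, Scheme.Hom.app_eq_appLE]
      have h3 : hW.fromSpec (PrimeSpectrum.comap (p.app W).hom Qx) = y := by
        have := congrArg (fun φ : Spec Γ(X, p ⁻¹ᵁ W) ⟶ Y => φ Qx) h2
        simp only [Scheme.Hom.comp_apply] at this
        rw [hU.fromSpec_primeIdealOf ⟨x, hxU⟩] at this
        exact this.trans hx
      exact congrArg PrimeSpectrum.asIdeal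
        (hW.fromSpec.isEmbedding.injective (h3.trans (hW.fromSpec_primeIdealOf ⟨y, hyW⟩).symm))
    have hdisj : Disjoint (M' : Set B) Qx.asIdeal := by
      rw [Set.disjoint_left]
      rintro _ ⟨r, hr, rfl⟩ hmem
      exact hr (hQP ▸ hmem)
    have hprime : (Qx.asIdeal.map (algebraMap B C)).IsPrime := IsLocalization.isPrime_of_isPrime_disjoint M' C _ Qx.2 hdisj
    have hcm : (Qx.asIdeal.map (algebraMap B C)).comap (algebraMap B C) = Qx.asIdeal :=
      IsLocalization.under_map_of_isPrime_disjoint M' C Qx.2 hdisj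
    have hmax : (Qx.asIdeal.map (algebraMap B C)).IsMaximal := by
      haveI := hprime
      have h4 : (Qx.asIdeal.map (algebraMap B C)).comap (algebraMap A C) = IsLocalRing.maximalIdeal A := by
        have h5 : ((Qx.asIdeal.map (algebraMap B C)).comap (algebraMap A C)).comap (algebraMap R A) = P := by
          rw [Ideal.comap_comap, ← IsScalarTower.algebraMap_eq, IsScalarTower.algebraMap_eq R B C, ← Ideal.comap_comap, hcm, hQP]
        rw [← IsLocalization.map_comap P.primeCompl A ((Qx.asIdeal.map (algebraMap B C)).comap (algebraMap A C)), Ideal.under_def, h5,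
          IsLocalization.AtPrime.map_eq_maximalIdeal P A]
      haveI : ((Qx.asIdeal.map (algebraMap B C)).comap (algebraMap A C)).IsMaximal :=
        h4 ▸ IsLocalRing.maximalIdeal.isMaximal A
      exact Ideal.isMaximal_of_isIntegral_of_isMaximal_comap _ ‹_›
    exact ⟨⟨_, hmax⟩, (congrArg (fun Q => hU.fromSpec Q) (PrimeSpectrum.ext hcm :
      (⟨(Qx.asIdeal.map (algebraMap B C)).comap (algebraMap B C), hprime.comap _⟩ : PrimeSpectrum B) = Qx)).trans
        (hU.fromSpec_primeIdealOf ⟨x, hxU⟩)⟩
  have hset : p ⁻¹' {y} = Set.range pt := Set.ext fun x => ⟨fun h => hptsurj x h, fun ⟨n, hn⟩ => hn ▸ hpt n⟩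
  refine ⟨hset ▸ Set.finite_range pt, ?_⟩
  rw [hset, finsum_mem_range hptinj]
  rw [show Cyc.ordAt y (p (genericPoint X)) hy (Cyc.normGen p (genericPoint X)
      (X.residue (genericPoint X) (X.presheaf.germ (p ⁻¹ᵁ W) (genericPoint X) hηU b))) =
    CycAlg.ordFrac A K (Algebra.norm K (algebraMap C L c)) from by
      rw [hC]; exact ordFrac_ringEquiv eA heA _, hsum]
  refine finsum_congr fun n => ?_
  have hxy := hpt n
  have hxU : pt n ∈ p ⁻¹ᵁ W := by show p (pt n) ∈ W; rw [hxy]; exact hyW
  have hgx : genericPoint X ⤳ pt n := genericPoint_specializes _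
  have hdx := hfib _ hxy
  have hne : Cyc.specMap (pt n) (genericPoint X) hgx (X.presheaf.germ (p ⁻¹ᵁ W) (pt n) hxU b) ≠ 0 := by
    rw [specMap_germ hgx hxU hηU]; exact hb
  rw [divFun_of hgx hdx, ← specMap_germ hgx hxU hηU b, ordAt_specMap hδX hgx hdx hne]
  -- the local ring at the point
  let ψ : C →+* X.presheaf.stalk (pt n) := IsLocalization.lift (M := M')
    (g := (X.presheaf.germ (p ⁻¹ᵁ W) (pt n) hxU).hom) fun ⟨_, r, hr, e⟩ => by
      subst e
      show IsUnit (X.presheaf.germ (p ⁻¹ᵁ W) (pt n) hxU (p.app W r))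
      rw [← Scheme.Hom.germ_stalkMap_apply p W (pt n) hxU]
      refine IsUnit.map (p.stalkMap (pt n)).hom ?_
      have : ∀ (a : Y) (ha : a ∈ W), a = y → IsUnit (Y.presheaf.germ W a ha r) := by
        intro a ha e
        subst e
        exact IsLocalization.map_units (Y.presheaf.stalk a) (⟨r, hr⟩ : P.primeCompl)
      exact this _ hxU hxy
  letI : Algebra C (X.presheaf.stalk (pt n)) := ψ.toAlgebra
  letI : Algebra B (X.presheaf.stalk (pt n)) := (X.presheaf.germ (p ⁻¹ᵁ W) (pt n) hxU).hom.toAlgebra
  have hψ : ∀ z, ψ (algebraMap B C z) = algebraMap B (X.presheaf.stalk (pt n)) z := fun z => IsLocalization.lift_eq _ z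
  haveI : IsScalarTower B C (X.presheaf.stalk (pt n)) := IsScalarTower.of_algebraMap_eq fun z => (hψ z).symm
  haveI := n.isMaximal
  have hQ : (hU.primeIdealOf ⟨pt n, hxU⟩).asIdeal = n.asIdeal.comap (algebraMap B C) :=
    congrArg PrimeSpectrum.asIdeal (hU.fromSpec.isEmbedding.injective (hU.fromSpec_primeIdealOf ⟨pt n, hxU⟩) :
      hU.primeIdealOf ⟨pt n, hxU⟩ = ⟨n.asIdeal.comap (algebraMap B C), (n.isMaximal.isPrime).comap _⟩)
  haveI : IsLocalization.AtPrime (X.presheaf.stalk (pt n)) (n.asIdeal.comap (algebraMap B C)) := by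
    have h := hU.isLocalization_stalk ⟨pt n, hxU⟩
    have e : (hU.primeIdealOf ⟨pt n, hxU⟩).asIdeal.primeCompl = (n.asIdeal.comap (algebraMap B C)).primeCompl := by
      ext t
      simp only [Ideal.primeCompl, Submonoid.mem_mk, Subsemigroup.mem_mk, Set.mem_compl_iff, SetLike.mem_coe, hQ]
    show IsLocalization (n.asIdeal.comap (algebraMap B C)).primeCompl _
    rw [← e]
    exact h
  haveI : IsLocalization.AtPrime (X.presheaf.stalk (pt n)) n.asIdeal := by
    have hle : M' ≤ (n.asIdeal.comap (algebraMap B C)).primeCompl := fun m hm hmn =>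
      n.isMaximal.ne_top (n.asIdeal.eq_top_of_isUnit_mem hmn (IsLocalization.map_units C (⟨m, hm⟩ : M')))
    haveI := IsLocalization.isLocalization_of_submonoid_le C (X.presheaf.stalk (pt n)) M' _ hle
    refine IsLocalization.isLocalization_of_is_exists_mul_mem (X.presheaf.stalk (pt n))
      ((n.asIdeal.comap (algebraMap B C)).primeCompl.map (algebraMap B C)) _ ?_ fun z => ?_
    · rintro _ ⟨a, ha, rfl⟩
      exact ha
    · obtain ⟨⟨a, s⟩, hs⟩ := IsLocalization.surj M' z.1
      refine ⟨algebraMap B C s, a, fun ha => ?_, by rw [mul_comm]; exact hs.symm⟩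
      refine z.2 ((n.isMaximal.isPrime.mem_or_mem (show z.1 * algebraMap B C s ∈ n.asIdeal from hs ▸ ha)).resolve_right ?_)
      exact fun h => n.isMaximal.ne_top (n.asIdeal.eq_top_of_isUnit_mem h (IsLocalization.map_units C s))
  congr 1
  · congr 1
    letI := (p.residueFieldMap (pt n)).hom.toAlgebra
    show Module.finrank (Y.residueField (p (pt n))) (X.residueField (pt n)) = _
    let χ : C →+* X.residueField (pt n) := (X.residue (pt n)).hom.comp ψ
    have hker : RingHom.ker χ = n.asIdeal := by
      ext z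
      rw [RingHom.mem_ker]
      show X.residue (pt n) (ψ z) = 0 ↔ _
      rw [show X.residue (pt n) (ψ z) = 0 ↔ ψ z ∈ IsLocalRing.maximalIdeal _ from IsLocalRing.residue_eq_zero_iff _,
        show ψ z = algebraMap C (X.presheaf.stalk (pt n)) z from rfl,
        IsLocalization.AtPrime.to_map_mem_maximal_iff (X.presheaf.stalk (pt n)) n.asIdeal z]
    have hsurj : Function.Surjective χ := fun z => by
      obtain ⟨ζ, rfl⟩ := X.residue_surjective _ z
      obtain ⟨a, s, rfl⟩ := IsLocalization.exists_mk'_eq n.asIdeal.primeCompl ζ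
      obtain ⟨i, j, hj, e⟩ := n.isMaximal.exists_inv s.2
      refine ⟨a * i, ?_⟩
      show X.residue (pt n) (ψ (a * i)) = _
      have h1 : χ (s : C) * χ i = 1 := by
        rw [← map_mul, mul_comm]
        have := congrArg χ e
        rwa [map_add, map_one, show χ j = 0 from RingHom.mem_ker.1 (hker ▸ hj), add_zero] at this
      have h2 : X.residue (pt n) (IsLocalization.mk' (X.presheaf.stalk (pt n)) a s) * χ (s : C) = χ a := by
        show _ * X.residue (pt n) (algebraMap C _ (s : C)) = X.residue (pt n) (algebraMap C _ a)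
        rw [← map_mul, IsLocalization.mk'_spec]
      calc χ (a * i) = χ a * χ i := map_mul _ _ _
        _ = _ := by rw [← h2, mul_assoc, h1, mul_one]
    let eC : (C ⧸ n.asIdeal) ≃+* X.residueField (pt n) :=
      (Ideal.quotEquivOfEq hker.symm).trans (RingHom.quotientKerEquivOfSurjective hsurj)
    let χA : A →+* Y.residueField (p (pt n)) := IsLocalization.lift (M := P.primeCompl)
      (g := (Y.residue (p (pt n))).hom.comp (Y.presheaf.germ W (p (pt n)) hxU).hom) fun s => by
        have : ∀ (a : Y) (ha : a ∈ W), a = y → IsUnit (Y.residue a (Y.presheaf.germ W a ha (s : R))) := by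
          intro a ha e
          subst e
          exact (IsLocalization.map_units (Y.presheaf.stalk a) s).map (Y.residue a).hom
        exact this _ hxU hxy
    have hAsurj : Function.Surjective χA := fun z => by
      obtain ⟨ζ, rfl⟩ := Y.residue_surjective _ z
      have : ∀ (a : Y) (ha : a ∈ W), a = y → ∀ ζ : Y.presheaf.stalk a, ∃ (r : R) (s : P.primeCompl),
          ζ * Y.presheaf.germ W a ha (s : R) = Y.presheaf.germ W a ha r := by
        intro a ha e w
        subst e
        obtain ⟨⟨r, s⟩, hrs⟩ := IsLocalization.surj P.primeCompl w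
        exact ⟨r, s, hrs⟩
      obtain ⟨r, s, hrs⟩ := this _ hxU hxy ζ
      refine ⟨IsLocalization.mk' A r s, ?_⟩
      rw [IsLocalization.lift_mk'_spec]
      show (Y.residue _).hom (Y.presheaf.germ W _ hxU r) = _ * (Y.residue _).hom ζ
      rw [← hrs, map_mul, mul_comm]
      rfl
    have hAker : RingHom.ker χA = n.asIdeal.comap (algebraMap A C) := by
      have hmA : n.asIdeal.comap (algebraMap A C) = IsLocalRing.maximalIdeal A :=
        IsLocalRing.eq_maximalIdeal (Ideal.isMaximal_comap_of_isIntegral_of_isMaximal n.asIdeal)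
      rw [hmA]
      exact IsLocalRing.eq_maximalIdeal (RingHom.ker_isMaximal_of_surjective _ hAsurj)
    let eA' : (A ⧸ n.asIdeal.comap (algebraMap A C)) ≃+* Y.residueField (p (pt n)) :=
      (Ideal.quotEquivOfEq hAker.symm).trans (RingHom.quotientKerEquivOfSurjective hAsurj)
    refine (Algebra.finrank_eq_of_equiv_equiv eA' eC ?_).symm
    refine Ideal.Quotient.ringHom_ext (IsLocalization.ringHom_ext P.primeCompl (RingHom.ext fun r => ?_))
    show p.residueFieldMap (pt n) (χA (algebraMap R A r)) = χ (algebraMap A C (algebraMap R A r))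
    rw [IsLocalization.lift_eq, ← IsScalarTower.algebraMap_apply R A C, IsScalarTower.algebraMap_apply R B C]
    show p.residueFieldMap (pt n) (Y.residue _ (Y.presheaf.germ W _ hxU r)) = X.residue (pt n) (ψ (algebraMap B C (p.app W r)))
    rw [hψ, residueFieldMap_residue, Scheme.Hom.germ_stalkMap_apply]
    rfl
  · congr 2
    let φ : X.presheaf.stalk (pt n) ≃+* Cyc.LocQuot (pt n) (genericPoint X) hgx :=
      RingEquiv.ofBijective (Ideal.Quotient.mk _)
        ⟨(RingHom.injective_iff_ker_eq_bot _).2 (by rw [Ideal.mk_ker, ker_specMap_generic]), Ideal.Quotient.mk_surjective⟩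
    rw [show Ideal.Quotient.mk (RingHom.ker (Cyc.specMap (pt n) (genericPoint X) hgx))
        (X.presheaf.germ (p ⁻¹ᵁ W) (pt n) hxU b) = φ (algebraMap C (X.presheaf.stalk (pt n)) c) from
          congrArg _ (hψ b).symm, TameLib.ord_ringEquiv,
      ← TameLib.ord_ringEquiv (IsLocalization.algEquiv n.asIdeal.primeCompl (Localization.AtPrime n.asIdeal)
        (X.presheaf.stalk (pt n))).toRingEquiv (algebraMap C (Localization.AtPrime n.asIdeal) c)]
    exact congrArg (Ring.ord _) ((IsLocalization.algEquiv n.asIdeal.primeCompl (Localization.AtPrime n.asIdeal)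
        (X.presheaf.stalk (pt n))).commutes c).symm

end Groth.Agent.CycLib
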