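import Groth.Agent.CycLib.EulerPts
import Groth.Agent.CurveLib.Frac
import Groth.Agent.RefOne.Stalk
import Groth.Agent.ASp.LiftDim

/-! # The degree of an invertible module through the orders of a rational section -/

set_option autoImplicit false
set_option backward.isDefEq.respectTransparency false
set_option linter.style.haveILetI false

universe u

open CategoryTheory CategoryTheory.Limits AlgebraicGeometry TopologicalSpace Opposite
open Groth.Agent.PullbackMod Groth.Agent.DCohLib
open scoped Pointwise

noncomputable section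

namespace Groth.Agent.CycLib

/-- The difference of colengths of two proportional ideals. -/
theorem length_range_sub {O : Type u} [CommRing O] [IsDomain O] [IsNoetherianRing O] [Ring.KrullDimLE 1 O]
    {K : Type u} [Field K] [Algebra O K] [IsFractionRing O K] {M : Type u} [AddCommGroup M] [Module O M]
    (f g : M →ₗ[O] O) (h : ∀ i j, g i * f j = f i * g j) {i : M} (hf : f i ≠ 0) (hg : g i ≠ 0) :
    ((Module.length O (O ⧸ LinearMap.range g)).toNat : ℤ) - ((Module.length O (O ⧸ LinearMap.range f)).toNat : ℤ) =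
      CycAlg.ordFrac O K (algebraMap O K (g i) / algebraMap O K (f i)) := by
  have hf' := mem_nonZeroDivisors_of_ne_zero hf
  have hg' := mem_nonZeroDivisors_of_ne_zero hg
  have e : g i • LinearMap.range f = f i • LinearMap.range g := by
    ext z
    simp only [Submodule.mem_smul_pointwise_iff_exists, LinearMap.mem_range]
    constructor <;> rintro ⟨_, ⟨j, rfl⟩, rfl⟩
    · exact ⟨_, ⟨j, rfl⟩, (h i j).symm⟩
    · exact ⟨_, ⟨j, rfl⟩, h i j⟩
  have key : ∀ (a : O), a ∈ nonZeroDivisors O → ∀ I : Ideal O,
      Module.length O (O ⧸ a • I) = Module.length O (O ⧸ I) + Ring.ord O a := fun a ha I =>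
    Module.length_eq_add_of_exact (Ideal.mulQuot a I) (Ideal.quotOfMul a I) (Ideal.mulQuot_injective I ha)
      (Ideal.quotOfMul_surjective I) (Ideal.exact_mulQuot_quotOfMul I)
  have hA : Module.length O (O ⧸ LinearMap.range f) ≠ ⊤ := ne_top_of_le_ne_top (Ring.ord_ne_top hf')
    (Module.length_le_of_surjective (Submodule.factor ((Ideal.span_singleton_le_iff_mem _).2 ⟨i, rfl⟩))
      (Submodule.factor_surjective _))
  have hB : Module.length O (O ⧸ LinearMap.range g) ≠ ⊤ := ne_top_of_le_ne_top (Ring.ord_ne_top hg')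
    (Module.length_le_of_surjective (Submodule.factor ((Ideal.span_singleton_le_iff_mem _).2 ⟨i, rfl⟩))
      (Submodule.factor_surjective _))
  have h1 := congrArg ENat.toNat (((key _ hg' (LinearMap.range f)).symm.trans (by rw [e])).trans (key _ hf' (LinearMap.range g)))
  rw [ENat.toNat_add hA (Ring.ord_ne_top hg'), ENat.toNat_add hB (Ring.ord_ne_top hf')] at h1
  rw [OrdDet.ordFrac_div _ _ hg hf]
  omega

variable {X : Scheme.{u}}

theorem dim_le (x : X) : ringKrullDim (X.presheaf.stalk x) ≤ topologicalKrullDim ↥X := by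
  letI : Preorder ↥X := inferInstance
  rw [ringKrullDim_stalk_eq_coheight]
  refine (Order.coheight_le_krullDim x).trans (le_of_eq ?_)
  exact (Groth.Agent.ASp.topologicalKrullDim_eq_krullDim (A := ↥X)).symm

theorem stalkSpecializes_oneG {η x : X} (h : η ⤳ x) :
    (Coh.structureModule X).presheaf.stalkSpecializes h (ParaFLib.oneG x) = ParaFLib.oneG η := by
  rw [ParaFLib.oneG, TopCat.Presheaf.germ_stalkSpecializes_apply]
  rfl

theorem stalkSpecializes_stalkLin {M N : X.Modules} (φ : M ⟶ N) {η x : X} (h : η ⤳ x) (m : M.presheaf.stalk x) :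
    N.presheaf.stalkSpecializes h (stalkLin φ x m) = stalkLin φ η (M.presheaf.stalkSpecializes h m) := by
  obtain ⟨U, hx, σ, rfl⟩ := TopCat.Presheaf.exists_germ_eq M.presheaf m
  rw [stalkLin_germ, TopCat.Presheaf.germ_stalkSpecializes_apply, TopCat.Presheaf.germ_stalkSpecializes_apply,
    stalkLin_germ]

variable [IsIntegral X] {L : X.Modules}

/-- An invertible module and the structure sheaf contain a common coherent module; generically the comparison is `1 ↦ e`. -/
theorem exists_frac_of [IsLocallyNoetherian X] (hL : PicF.IsInvertible L) (e : L.presheaf.stalk (genericPoint X))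
    (he : Function.Bijective fun r : X.presheaf.stalk (genericPoint X) => r • e) :
    ∃ (I : X.Modules) (p : I ⟶ Coh.structureModule X) (q : I ⟶ L), Coh.IsCoh I ∧ Mono p ∧ Mono q ∧
      Function.Surjective (stalkLin p (genericPoint X)) ∧ Function.Surjective (stalkLin q (genericPoint X)) ∧
      ∀ (r : X.presheaf.stalk (genericPoint X)) (z : I.presheaf.stalk (genericPoint X)),
        stalkLin p (genericPoint X) z = r • ParaFLib.oneG (genericPoint X) →
          stalkLin q (genericPoint X) z = r • e := by
  let η := genericPoint X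
  let O₁ := Coh.structureModule X
  have hO : PicF.IsInvertible O₁ := ParaFLib.isInvertible_structureModule
  let γ : O₁.presheaf.stalk η ≃ₗ[X.presheaf.stalk η] L.presheaf.stalk η :=
    (LinearEquiv.ofBijective (LinearMap.toSpanSingleton _ _ (ParaFLib.oneG η)) (ParaFLib.bijective_oneG η)).symm ≪≫ₗ
      LinearEquiv.ofBijective (LinearMap.toSpanSingleton _ _ e) he
  let P : X.Modules := O₁ ⊞ L
  let s₁ := stalkLin (biprod.fst : P ⟶ O₁) η
  let s₂ := stalkLin (biprod.snd : P ⟶ L) η
  let S : Submodule (X.presheaf.stalk η) (P.presheaf.stalk η) := LinearMap.ker (γ.toLinearMap.comp s₁ - s₂)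
  have hS : DevLib.Absorbs S := fun a ha z => ⟨1, by
    rw [CurveLib.maximalIdeal_eq_bot (Field.toIsField X.functionField) ha]
    simp⟩
  have hP : Coh.IsCoh P := DevLib.isCoh_biprod (CurveLib.isCoh_of_isInvertible hO) (CurveLib.isCoh_of_isInvertible hL)
  have hI : Coh.IsCoh (DevLib.subAt S) := DevLib.isCoh_subAt hP hS
  let p : DevLib.subAt S ⟶ O₁ := DevLib.subAtι S ≫ biprod.fst
  let q : DevLib.subAt S ⟶ L := DevLib.subAtι S ≫ biprod.snd
  have total : ∀ z : P.presheaf.stalk η,
      stalkLin (biprod.inl : O₁ ⟶ P) η (s₁ z) + stalkLin (biprod.inr : L ⟶ P) η (s₂ z) = z := fun z => by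
    have h := congrArg (fun φ => stalkLin φ η z) (biprod.total : _ = 𝟙 P)
    rw [DevLib.stalkLin_add, stalkLin_comp, stalkLin_comp, stalkLin_id] at h
    exact h
  have hsep : CurveLib.SepGen (DevLib.subAt S) := fun U t ht => by
    refine DevLib.subAtι_app_injective S U ?_
    rw [map_zero]
    have hz : ∀ hη : η ∈ U, P.presheaf.germ U η hη ((DevLib.subAtι S).app U t) = 0 := fun hη => by
      rw [← stalkLin_germ, ht hη, map_zero]
    have h1 : (biprod.fst : P ⟶ O₁).app U ((DevLib.subAtι S).app U t) = 0 :=
      ParaFLib.eq_zero_of_germ_generic hO _ fun hη => by rw [← stalkLin_germ, hz hη, map_zero]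
    have h2 : (biprod.snd : P ⟶ L).app U ((DevLib.subAtι S).app U t) = 0 :=
      ParaFLib.eq_zero_of_germ_generic hL _ fun hη => by rw [← stalkLin_germ, hz hη, map_zero]
    have h := congrArg (fun φ : P ⟶ P => φ.app U ((DevLib.subAtι S).app U t)) (biprod.total : _ = 𝟙 P)
    simp only [Scheme.Modules.Hom.add_app, Scheme.Modules.Hom.comp_app, Scheme.Modules.Hom.id_app] at h
    change (biprod.inl : O₁ ⟶ P).app U ((biprod.fst : P ⟶ O₁).app U _) +
      (biprod.inr : L ⟶ P).app U ((biprod.snd : P ⟶ L).app U _) = _ at h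
    rw [h1, h2, map_zero, map_zero, add_zero] at h
    exact h.symm
  have hmem : ∀ z, z ∈ S ↔ γ (s₁ z) = s₂ z := fun z => by
    simp only [S, LinearMap.mem_ker, LinearMap.sub_apply, sub_eq_zero]
    exact Iff.rfl
  have hι := DevLib.range_stalk_subAtι S
  have hp : Function.Bijective (stalkLin p η) := by
    rw [stalkLin_comp]
    refine ⟨(injective_iff_map_eq_zero _).2 fun w hw => DevLib.injective_stalk_subAtι S η ?_, fun a => ?_⟩
    · have hz := (hmem _).1 (hι.le ⟨w, rfl⟩)
      change s₁ (stalkLin (DevLib.subAtι S) η w) = 0 at hw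
      rw [hw, map_zero] at hz
      rw [← total (stalkLin (DevLib.subAtι S) η w), hw, ← hz, map_zero, map_zero, add_zero, map_zero]
    · have h11 : ∀ b, s₁ (stalkLin (biprod.inl : O₁ ⟶ P) η b) = b := fun b => by
        have h := congrArg (fun φ => stalkLin φ η b) (biprod.inl_fst : (biprod.inl : O₁ ⟶ P) ≫ _ = _)
        rw [stalkLin_comp, stalkLin_id] at h
        exact h
      have h12 : ∀ b, s₂ (stalkLin (biprod.inl : O₁ ⟶ P) η b) = 0 := fun b => by
        have h := congrArg (fun φ => stalkLin φ η b) (biprod.inl_snd : (biprod.inl : O₁ ⟶ P) ≫ (biprod.snd : P ⟶ L) = _)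
        rw [stalkLin_comp, DevLib.stalkLin_zero] at h
        exact h
      have h21 : ∀ b, s₁ (stalkLin (biprod.inr : L ⟶ P) η b) = 0 := fun b => by
        have h := congrArg (fun φ => stalkLin φ η b) (biprod.inr_fst : (biprod.inr : L ⟶ P) ≫ (biprod.fst : P ⟶ O₁) = _)
        rw [stalkLin_comp, DevLib.stalkLin_zero] at h
        exact h
      have h22 : ∀ b, s₂ (stalkLin (biprod.inr : L ⟶ P) η b) = b := fun b => by
        have h := congrArg (fun φ => stalkLin φ η b) (biprod.inr_snd : (biprod.inr : L ⟶ P) ≫ _ = _)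
        rw [stalkLin_comp, stalkLin_id] at h
        exact h
      obtain ⟨w, hw⟩ := hι.ge ((hmem (stalkLin (biprod.inl : O₁ ⟶ P) η a + stalkLin (biprod.inr : L ⟶ P) η (γ a))).2 (by
        simp only [map_add, h11, h12, h21, h22, add_zero, zero_add]))
      refine ⟨w, ?_⟩
      show s₁ (stalkLin (DevLib.subAtι S) η w) = a
      rw [hw, map_add, h11, h21, add_zero]
  have hq : Function.Bijective (stalkLin q η) := by
    have : (fun w => stalkLin q η w) = fun w => γ (stalkLin p η w) := funext fun w => by
      rw [stalkLin_comp, stalkLin_comp]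
      exact ((hmem _).1 (hι.le ⟨w, rfl⟩)).symm
    show Function.Bijective fun w => stalkLin q η w
    rw [this]
    exact γ.bijective.comp hp
  refine ⟨_, p, q, hI, CurveLib.mono_of_generic_injective hsep p hp.1, CurveLib.mono_of_generic_injective hsep q hq.1,
    hp.2, hq.2, fun r z hz => ?_⟩
  have hγ : stalkLin q η z = γ (stalkLin p η z) := by
    rw [stalkLin_comp, stalkLin_comp]
    exact ((hmem _).1 (hι.le ⟨z, rfl⟩)).symm
  rw [hγ, hz, map_smul]
  refine congrArg (r • ·) ?_
  show LinearMap.toSpanSingleton (X.presheaf.stalk η) _ e ((LinearEquiv.ofBijective _ _).symm (ParaFLib.oneG η)) = e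
  rw [(LinearEquiv.symm_apply_eq _).2 (show ParaFLib.oneG η = LinearMap.toSpanSingleton (X.presheaf.stalk η) _
    (ParaFLib.oneG η) (1 : X.presheaf.stalk η) from (one_smul _ (ParaFLib.oneG η)).symm)]
  exact one_smul _ e

variable {k : Type u} [Field k] [X.Over (Spec (CommRingCat.of k))] [IsProper (X ↘ Spec (CommRingCat.of k))]
  (hdim : topologicalKrullDim X ≤ 1)

include hdim in
/-- `deg L = Σ [κ(x) : k] ord_x(e)` for a rational section `e` of `L`. -/
theorem deg_eq_finsum_ord (hL : PicF.IsInvertible L) (e : L.presheaf.stalk (genericPoint X))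
    (he : Function.Bijective fun r : X.presheaf.stalk (genericPoint X) => r • e) (F : X → ℤ)
    (h0 : ∀ x : X, ¬ IsClosed ({x} : Set X) → F x = 0)
    (hF : ∀ x : X, IsClosed ({x} : Set X) → ∃ (h : genericPoint X ⤳ x) (t : L.presheaf.stalk x) (φ : X.functionField),
      (Function.Bijective fun r : X.presheaf.stalk x => r • t) ∧
      (Function.Bijective fun r : X.presheaf.stalk (genericPoint X) => r • L.presheaf.stalkSpecializes h t) ∧
      e = φ • L.presheaf.stalkSpecializes h t ∧ F x = CycAlg.ordFrac (X.presheaf.stalk x) X.functionField φ) :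
    Curv2.deg k X L 1 = ∑ᶠ x : X, ((X ↘ Spec (CommRingCat.of k)).residueDegree x : ℤ) * F x := by
  haveI := EulerIneqLib.isNoetherian_proper (X := X) k
  obtain ⟨I, p, q, hI, hp, hq, hps, hqs, hγ⟩ := exists_frac_of hL e he
  haveI := hp
  haveI := hq
  have hO := CurveLib.isCoh_of_isInvertible (ParaFLib.isInvertible_structureModule (X := X))
  have hLc := CurveLib.isCoh_of_isInvertible hL
  have hQp := (QCohLib.isCoh_kernel_cokernel p hI hO).2
  have hQq := (QCohLib.isCoh_kernel_cokernel q hI hLc).2
  have hdp := CurveLib.dim_le_zero_of_notMem hdim (DevLib.isClosed_support hQp) (genericPoint_spec X)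
    (fun h => h (DevLib.subsingleton_coker p hps))
  have hdq := CurveLib.dim_le_zero_of_notMem hdim (DevLib.isClosed_support hQq) (genericPoint_spec X)
    (fun h => h (DevLib.subsingleton_coker q hqs))
  have h1 := CurveLib.euler_shortExact (K := k) (DevLib.cokerSeq_shortExact p) hI hO hQp
  have h2 := CurveLib.euler_shortExact (K := k) (DevLib.cokerSeq_shortExact q) hI hLc hQq
  change Curv2.euler k X (Coh.structureModule X) = Curv2.euler k X I + Curv2.euler k X (cokernel p) at h1
  change Curv2.euler k X L = Curv2.euler k X I + Curv2.euler k X (cokernel q) at h2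
  rw [euler_eq_finsum (k := k) hQp (DevLib.isClosed_support hQp) subset_rfl hdp] at h1
  rw [euler_eq_finsum (k := k) hQq (DevLib.isClosed_support hQq) subset_rfl hdq] at h2
  have fin : ∀ {Q : X.Modules}, Coh.IsCoh Q → topologicalKrullDim (CohB1.support Q) ≤ 0 →
      (Function.support fun x : X => ((X ↘ Spec (CommRingCat.of k)).residueDegree x : ℤ) *
        ((Module.length (X.presheaf.stalk x) (Q.presheaf.stalk x)).toNat : ℤ)).Finite := fun {Q} hQ hd =>
    (CurveLib.finite_of_dim_le_zero (DevLib.isClosed_support hQ) hd).subset fun x hx hsub => by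
      refine right_ne_zero_of_mul hx ?_
      haveI : Subsingleton (Q.presheaf.stalk x) := hsub
      rw [Module.length_eq_zero]
      rfl
  unfold Curv2.deg
  rw [h1, h2, Nat.cast_one, one_mul, add_sub_add_left_eq_sub, ← finsum_sub_distrib (fin hQq hdq) (fin hQp hdp)]
  refine finsum_congr fun x => ?_
  rw [← mul_sub]
  congr 1
  by_cases hx : IsClosed ({x} : Set X)
  swap
  · have z : ∀ {Q : X.Modules}, Coh.IsCoh Q → topologicalKrullDim (CohB1.support Q) ≤ 0 →
        Module.length (X.presheaf.stalk x) (Q.presheaf.stalk x) = 0 := fun {Q} hQ hd => by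
      haveI : Subsingleton (Q.presheaf.stalk x) := not_not.1 fun hmem =>
        hx (CurveLib.closure_singleton_eq (DevLib.isClosed_support hQ) hd hmem ▸ isClosed_closure)
      exact Module.length_eq_zero
    rw [h0 x hx, z hQq hdq, z hQp hdp]
    simp
  obtain ⟨h, t, φ, ht, htη, het, hFx⟩ := hF x hx
  rw [hFx]
  haveI : Ring.KrullDimLE 1 (X.presheaf.stalk x) :=
    Ring.krullDimLE_iff.2 ((dim_le x).trans hdim)
  let εO := LinearEquiv.ofBijective (LinearMap.toSpanSingleton (X.presheaf.stalk x) _ (ParaFLib.oneG x))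
    (ParaFLib.bijective_oneG x)
  let εL := LinearEquiv.ofBijective (LinearMap.toSpanSingleton (X.presheaf.stalk x) _ t) ht
  let f : I.presheaf.stalk x →ₗ[X.presheaf.stalk x] X.presheaf.stalk x := εO.symm.toLinearMap.comp (stalkLin p x)
  let g : I.presheaf.stalk x →ₗ[X.presheaf.stalk x] X.presheaf.stalk x := εL.symm.toLinearMap.comp (stalkLin q x)
  have hlen : ∀ {N : X.Modules} (r : I ⟶ N) [Mono r] (ε : X.presheaf.stalk x ≃ₗ[X.presheaf.stalk x] N.presheaf.stalk x),
      Module.length (X.presheaf.stalk x) ((cokernel r).presheaf.stalk x) = Module.length (X.presheaf.stalk x)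
        (X.presheaf.stalk x ⧸ LinearMap.range (ε.symm.toLinearMap.comp (stalkLin r x))) := fun {N} r _ ε => by
    let π := (stalkLin (cokernel.π r) x).comp ε.toLinearMap
    have hker : LinearMap.ker π = LinearMap.range (ε.symm.toLinearMap.comp (stalkLin r x)) := by
      ext z
      refine (DevLib.coker_exact r x (ε z)).trans ?_
      simp only [Set.mem_range, LinearMap.mem_range, LinearMap.comp_apply, LinearEquiv.coe_coe,
        LinearEquiv.symm_apply_eq]
    exact ((π.quotKerEquivOfSurjective ((DevLib.coker_surjective r x).comp ε.surjective)).symm ≪≫ₗ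
      Submodule.quotEquivOfEq _ _ hker).length_eq
  rw [hlen q εL, hlen p εO]
  let sp := X.presheaf.stalkSpecializes h
  have hsp : ∀ i, sp (g i) = sp (f i) * φ := fun i => by
    have hfi : stalkLin p x i = f i • ParaFLib.oneG x := (εO.apply_symm_apply _).symm
    have hgi : stalkLin q x i = g i • t := (εL.apply_symm_apply _).symm
    have h3 := hγ (sp (f i)) (I.presheaf.stalkSpecializes h i) (by
      rw [← stalkSpecializes_stalkLin p h, hfi, RefOne.stalkSpecializes_smul, stalkSpecializes_oneG])
    rw [← stalkSpecializes_stalkLin q h, hgi, RefOne.stalkSpecializes_smul, het, ← mul_smul] at h3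
    exact htη.1 h3
  have hinj : Function.Injective sp := IsFractionRing.injective (X.presheaf.stalk x) X.functionField
  have hfg : ∀ i j, g i * f j = f i * g j := fun i j => hinj (by
    rw [map_mul, map_mul, hsp, hsp]
    ring)
  have hφ : φ ≠ 0 := fun h0 => by
    rw [h0, zero_smul] at het
    refine (one_ne_zero (α := X.functionField)) (he.1 ?_)
    show (1 : X.functionField) • e = (0 : X.functionField) • e
    rw [het, smul_zero, smul_zero]
  obtain ⟨i, hi⟩ : ∃ i, f i ≠ 0 := by
    by_contra! hzero
    haveI hsub : Subsingleton (I.presheaf.stalk x) := subsingleton_of_forall_eq 0 fun i =>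
      (PullbackMod.mono_iff_stalk p).1 hp x (εO.symm.injective ((hzero i).trans (map_zero f).symm))
    have hη : genericPoint X ∉ CohB1.support I := fun hmem =>
      (h.mem_closed (DevLib.isClosed_support hI) hmem) hsub
    haveI : Subsingleton (I.presheaf.stalk (genericPoint X)) := not_not.1 hη
    obtain ⟨z, hz⟩ := hps (ParaFLib.oneG (genericPoint X))
    rw [Subsingleton.elim z 0, map_zero] at hz
    refine (one_ne_zero (α := X.functionField)) ((ParaFLib.bijective_oneG (genericPoint X)).1 ?_)
    show (1 : X.functionField) • ParaFLib.oneG _ = (0 : X.functionField) • ParaFLib.oneG _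
    rw [← hz, smul_zero, smul_zero]
  have hgi : g i ≠ 0 := fun h0 => by
    have := hsp i
    rw [h0, map_zero] at this
    exact mul_ne_zero ((map_ne_zero_iff sp.hom hinj).2 hi) hφ this.symm
  rw [length_range_sub (K := X.functionField) f g hfg hi hgi]
  refine congrArg _ ?_
  rw [div_eq_iff ((map_ne_zero_iff _ (IsFractionRing.injective _ X.functionField)).2 hi)]
  exact (hsp i).trans (mul_comm _ _)

end Groth.Agent.CycLib
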