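import Groth.Agent.CycLib.DegSec
import Groth.Agent.CycLib.NormDiv
import Groth.Agent.CycLib.Immersion
import Groth.Agent.DimFormulaLib.Irreducible
import Groth.Agent.IntImage.Spread
import Groth.Agent.S1860

/-! # The pushforward of a principal divisor along a morphism lowering the dimension -/

set_option autoImplicit false
set_option backward.isDefEq.respectTransparency false
set_option linter.style.haveILetI false

universe u

open CategoryTheory CategoryTheory.Limits AlgebraicGeometry TopologicalSpace

noncomputable section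

namespace Groth.Agent.CycLib

theorem residueDegree_congr {X Y : Scheme.{u}} {f g : X ⟶ Y} (e : f = g) (x : X) :
    f.residueDegree x = g.residueDegree x := by subst e; rfl

theorem residueDegree_comp_left {X Y Z : Scheme.{u}} (i : X ⟶ Y) (g : Y ⟶ Z) (x : X)
    (h : Function.Bijective (i.residueFieldMap x)) : (i ≫ g).residueDegree x = g.residueDegree (i x) := by
  letI : Algebra (Z.residueField (g (i x))) (X.residueField x) := ((i ≫ g).residueFieldMap x).hom.toAlgebra
  letI := (g.residueFieldMap (i x)).hom.toAlgebra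
  show Module.finrank (Z.residueField (g (i x))) (X.residueField x) =
    Module.finrank (Z.residueField (g (i x))) (Y.residueField (i x))
  refine (Algebra.finrank_eq_of_equiv_equiv (RingEquiv.refl (Z.residueField (g (i x)))) (RingEquiv.ofBijective (i.residueFieldMap x).hom h) ?_).symm
  refine RingHom.ext fun r => ?_
  exact (ConcreteCategory.congr_hom (Scheme.residueFieldMap_comp i g x) r)

theorem residueDegree_comp_right {X Y Z : Scheme.{u}} (f : X ⟶ Y) (g : Y ⟶ Z) (x : X)
    (h : Function.Bijective (g.residueFieldMap (f x))) : (f ≫ g).residueDegree x = f.residueDegree x := by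
  letI := ((f ≫ g).residueFieldMap x).hom.toAlgebra
  letI := (f.residueFieldMap x).hom.toAlgebra
  refine Algebra.finrank_eq_of_equiv_equiv (RingEquiv.ofBijective (g.residueFieldMap (f x)).hom h) (RingEquiv.refl _) ?_
  refine RingHom.ext fun r => ?_
  exact (ConcreteCategory.congr_hom (Scheme.residueFieldMap_comp f g x) r).symm

theorem residue_injective_generic {X : Scheme.{u}} [IsIntegral X] {η : X} (e : η = genericPoint X) :
    Function.Injective (X.residue η) := by
  subst e
  refine (injective_iff_map_eq_zero _).2 fun a ha => by_contra fun h0 => ?_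
  exact (IsLocalRing.residue_eq_zero_iff _).1 ha (IsUnit.mk0 (G₀ := X.functionField) a h0)

theorem ker_specMap_eq_bot {X : Scheme.{u}} [IsIntegral X] {η : X} (e : η = genericPoint X) (x : X) (h : η ⤳ x) :
    RingHom.ker (Cyc.specMap x η h) = ⊥ := by
  subst e
  exact ker_specMap_generic x h

variable {X Y : Scheme.{u}} [IsIntegral X] [IsIntegral Y] {δX : X → ℤ} {δY : Y → ℤ} (p : X ⟶ Y)

instance flat_fromSpecResidueField_generic : Flat (Y.fromSpecResidueField (genericPoint Y)) := by
  haveI : IsIso (Y.residue (genericPoint Y)) :=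
    (ConcreteCategory.isIso_iff_bijective _).2 ⟨residue_injective_generic rfl, Y.residue_surjective _⟩
  haveI : Flat (Y.fromSpecStalk (genericPoint Y)) := IntImage.flat_fromSpecStalk _
  show Flat (Spec.map (Y.residue (genericPoint Y)) ≫ Y.fromSpecStalk (genericPoint Y))
  infer_instance

theorem bijective_stalkMap_fiberι (z : ↥(p.fiber (genericPoint Y))) :
    Function.Bijective ((p.fiberι (genericPoint Y)).stalkMap z) := by
  haveI : Flat (p.fiberι (genericPoint Y)) := MorphismProperty.pullback_fst _ _ inferInstance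
  refine ⟨?_, (p.fiberι (genericPoint Y)).stalkMap_surjective z⟩
  algebraize [((p.fiberι (genericPoint Y)).stalkMap z).hom]
  have : Module.FaithfullyFlat (X.presheaf.stalk (p.fiberι (genericPoint Y) z))
      ((p.fiber (genericPoint Y)).presheaf.stalk z) :=
    @Module.FaithfullyFlat.of_flat_of_isLocalHom _ _ _ _ _ _ _
      (Flat.stalkMap (p.fiberι (genericPoint Y)) z) ((p.fiberι (genericPoint Y)).toLRSHom.prop z)
  exact ‹RingHom.FaithfullyFlat _›.injective

variable [IsProper p]

/-- The push forward of a principal divisor to a lower dimensional scheme vanishes. -/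
theorem map_divFun_eq_zero (hX : Cyc.IsSetup X δX) (hY : Cyc.IsSetup Y δY) (hδ : Cyc.DeltaCompat p δX δY)
    (hdom : p (genericPoint X) = genericPoint Y) (hn : δX (genericPoint X) ≠ δY (genericPoint Y))
    (f : X.residueField (genericPoint X)) (hf : f ≠ 0) (y : Y) :
    ∑ᶠ x ∈ p ⁻¹' {y}, Cyc.divFun δX (genericPoint X) f x * (AlgebraicCycle.mapCoeff p δX δY x : ℤ) = 0 := by
  classical
  haveI := hX.1
  haveI := hY.1
  obtain ⟨n, hn1, hn2⟩ := hδ (genericPoint X)
  rw [hdom] at hn2
  have hterm : ∀ x, Cyc.divFun δX (genericPoint X) f x * (AlgebraicCycle.mapCoeff p δX δY x : ℤ) ≠ 0 →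
      p x = genericPoint Y ∧ n = 1 := fun x hx => by
    have h1 := (specializes_of_divFun_ne_zero (left_ne_zero_of_mul hx)).2
    have h2 := right_ne_zero_of_mul hx
    rw [AlgebraicCycle.mapCoeff] at h2
    split_ifs at h2 with h3
    · change δX x = δY (p x) at h3
      have h4 := delta_le hY.2.2 (genericPoint_specializes (p x))
      refine ⟨by_contra fun hne => ?_, by omega⟩
      have := (hY.2.2 _ _ (genericPoint_specializes (p x)) (Ne.symm hne)).1
      omega
    · simp at h2
  by_cases hcase : y = genericPoint Y ∧ n = 1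
  swap
  · refine finsum_eq_zero_of_forall_eq_zero fun x => ?_
    rw [finsum_eq_if]
    split_ifs with hx
    · by_contra hne
      obtain ⟨h1, h2⟩ := hterm x hne
      exact hcase ⟨hx.symm.trans h1, h2⟩
    · rfl
  obtain ⟨rfl, rfl⟩ := hcase
  -- the generic fibre
  let Z := p.fiber (genericPoint Y)
  let ι := p.fiberι (genericPoint Y)
  let c := p.fiberToSpecResidueField (genericPoint Y)
  haveI : IsProper c := MorphismProperty.pullback_snd _ _ inferInstance
  have hι : Function.Injective ι := ι.isEmbedding.injective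
  have hrange : Set.range ι = p ⁻¹' {genericPoint Y} := p.range_fiberι _
  obtain ⟨ξ, hξ⟩ : ∃ ξ : Z, ι ξ = genericPoint X := hrange.ge hdom
  have hspec : ∀ z : Z, ξ ⤳ z := fun z => ι.isEmbedding.isInducing.specializes_iff.1 (by
    rw [hξ]
    exact genericPoint_specializes _)
  haveI : IrreducibleSpace Z :=
    { isPreirreducible_univ := by
        rw [show (Set.univ : Set Z) = closure {ξ} from
          (Set.eq_univ_of_forall fun z => specializes_iff_mem_closure.1 (hspec z)).symm]
        exact isIrreducible_singleton.closure.2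
      toNonempty := ⟨ξ⟩ }
  have hsm := bijective_stalkMap_fiberι p
  haveI : ∀ z : Z, _root_.IsReduced (Z.presheaf.stalk z) := fun z =>
    isReduced_of_injective (RingEquiv.ofBijective (ι.stalkMap z).hom (hsm z)).symm
      (RingEquiv.injective _)
  haveI : IsReduced Z := isReduced_of_isReduced_stalk Z
  haveI : IsIntegral Z := isIntegral_of_irreducibleSpace_of_isReduced Z
  have hgen : genericPoint Z = ξ := (genericPoint_spec Z).eq
    (Set.eq_univ_of_forall fun z => specializes_iff_mem_closure.1 (hspec z))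
  have hdimZ : topologicalKrullDim Z = 1 := by
    obtain ⟨m, hm1, hm2, -⟩ := DimFormulaLib.genericFibre_dim p
      (by
        rw [DenseRange, dense_iff_closure_eq]
        exact Set.eq_univ_of_univ_subset ((genericPoint_spec Y).def.symm.le.trans
          (closure_mono (Set.singleton_subset_iff.2 ⟨_, hdom⟩))))
    have : m = 1 := by
      have h := hm1.symm.trans hn1
      exact_mod_cast h
    subst this
    rw [hm2]
    exact Nat.cast_one
  have hδ0 : ∀ z : Z, δY (genericPoint Y) ≤ δX (ι z) := fun z => by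
    obtain ⟨m, -, hm⟩ := hδ (ι z)
    rw [show p (ι z) = genericPoint Y from hrange.le ⟨z, rfl⟩] at hm
    omega
  have hlow : ∀ z : Z, z ≠ ξ → δX (ι z) = δY (genericPoint Y) := fun z hz => by
    have h1 := (hX.2.2 _ _ (genericPoint_specializes (ι z)) (fun e => hz (hι (e.symm.trans hξ.symm)))).1
    have := hδ0 z
    omega
  have hclosed : ∀ z : Z, ¬ IsClosed ({z} : Set Z) → z = ξ := fun z hz => by
    by_contra hne
    refine hz (isClosed_of_closure_subset fun w hw => ?_)
    have hzw : z ⤳ w := specializes_iff_mem_closure.2 hw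
    by_contra hwz
    have hwξ : w ≠ ξ := fun e => hne ((inseparable_iff_specializes_and.2 ⟨e ▸ hzw, hspec z⟩).eq)
    have h1 := (hX.2.2 _ _ (hzw.map ι.continuous) (fun e => hwz (hι e).symm)).1
    rw [hlow z hne, hlow w hwξ] at h1
    exact lt_irrefl _ h1
  have hξclosed : ¬ IsClosed ({ξ} : Set Z) := fun hc => by
    have : Subsingleton Z := ⟨fun a b => ((hspec a).mem_closed hc rfl).trans ((hspec b).mem_closed hc rfl).symm⟩
    have h0 : topologicalKrullDim Z ≤ 0 := by
      refine Order.krullDim_nonpos_iff_forall_isMax.2 fun A B _ => le_of_eq (IrreducibleCloseds.ext ?_)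
      obtain ⟨a, ha⟩ := A.isIrreducible.1
      obtain ⟨b, hb⟩ := B.isIrreducible.1
      exact Set.ext fun w => ⟨fun _ => Subsingleton.elim a w ▸ ha, fun _ => Subsingleton.elim b w ▸ hb⟩
    rw [hdimZ] at h0
    exact absurd h0 (by decide)
  -- the rational function on the fibre
  obtain ⟨g, hg⟩ : ∃ g : X.residueField (ι ξ), ∀ x, Cyc.divFun δX (genericPoint X) f x = Cyc.divFun δX (ι ξ) g x ∧
      g ≠ 0 := by
    have key : ∀ η (e : η = genericPoint X), ∃ g : X.residueField η, ∀ x,
        Cyc.divFun δX (genericPoint X) f x = Cyc.divFun δX η g x ∧ g ≠ 0 := by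
      rintro _ rfl
      exact ⟨f, fun x => ⟨rfl, hf⟩⟩
    exact key _ hξ
  let fZ : Z.functionField :=
    (Z.presheaf.stalkSpecializes (specializes_of_eq hgen))
      (Classical.choose (Z.residue_surjective ξ (ι.residueFieldMap ξ g)))
  have hξres : Function.Injective (Z.residue ξ) := residue_injective_generic hgen.symm
  have hfZ : ∀ (z : Z) (a b : X.presheaf.stalk (ι z)) (h : ι ξ ⤳ ι z), Cyc.specMap (ι z) (ι ξ) h b ≠ 0 →
      g = Cyc.specMap (ι z) (ι ξ) h a / Cyc.specMap (ι z) (ι ξ) h b →
      fZ * algebraMap (Z.presheaf.stalk z) Z.functionField (ι.stalkMap z b) =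
        algebraMap (Z.presheaf.stalk z) Z.functionField (ι.stalkMap z a) := fun z a b h hb e => by
    have hspz : ∀ w : Z.presheaf.stalk z, algebraMap (Z.presheaf.stalk z) Z.functionField w =
        Z.presheaf.stalkSpecializes (specializes_of_eq hgen) (Z.presheaf.stalkSpecializes (hspec z) w) := fun w => by
      rw [← ConcreteCategory.comp_apply, TopCat.Presheaf.stalkSpecializes_comp]
      rfl
    rw [hspz, hspz, ← map_mul]
    refine congrArg _ (hξres ?_)
    rw [map_mul, Classical.choose_spec (Z.residue_surjective ξ (ι.residueFieldMap ξ g))]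
    show ι.residueFieldMap ξ g * Cyc.specMap z ξ (hspec z) (ι.stalkMap z b) = Cyc.specMap z ξ (hspec z) (ι.stalkMap z a)
    rw [← residueFieldMap_specMap ι (hspec z) h, ← residueFieldMap_specMap ι (hspec z) h, ← map_mul, e,
      div_mul_cancel₀ _ hb]
  have hfZ0 : fZ ≠ 0 := fun e0 => by
    obtain ⟨a, b, hb, e⟩ := exists_fraction (specializes_rfl (x := ι ξ)) g
    have h := hfZ ξ a b specializes_rfl hb e
    rw [e0, zero_mul, eq_comm, map_eq_zero_iff _ (IsFractionRing.injective _ _),
      map_eq_zero_iff _ (hsm ξ).1] at h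
    exact (hg (ι ξ)).2 (by rw [e, h, map_zero, zero_div])
  have main := Groth.Agent.S1860.result _ Z c hdimZ fZ hfZ0
  rw [← hrange, finsum_mem_range hι]
  refine Eq.trans (finsum_congr fun z => ?_) main
  rw [finsum_eq_if, (hg (ι z)).1]
  by_cases hz : IsClosed ({z} : Set Z)
  swap
  · rw [if_neg hz, show Cyc.divFun δX (ι ξ) g (ι z) = 0 from dif_neg fun hh => ?_, zero_mul]
    rw [hclosed z hz] at hh
    omega
  rw [if_pos hz]
  have hzξ : z ≠ ξ := fun e => hξclosed (e ▸ hz)
  have hd0 := hlow z hzξ
  have hsp : ι ξ ⤳ ι z := (hspec z).map ι.continuous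
  have hd : δX (ι z) + 1 = δX (ι ξ) := by
    rw [hd0, hξ, hn2]
    rfl
  have hcoef : (AlgebraicCycle.mapCoeff p δX δY (ι z) : ℤ) = (c.residueDegree z : ℤ) := by
    have hpz : p (ι z) = genericPoint Y := hrange.le ⟨z, rfl⟩
    rw [AlgebraicCycle.mapCoeff, if_pos (by rw [hd0, hpz]), ← residueDegree_comp_left ι p z
      (bijective_residueFieldMap ι z), show (ι ≫ p).residueDegree z = (c ≫ Y.fromSpecResidueField (genericPoint Y)).residueDegree z from
        residueDegree_congr (pullback.condition (f := p) (g := Y.fromSpecResidueField (genericPoint Y))) z,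
      residueDegree_comp_right _ _ z (bijective_residueFieldMap _ _)]
  obtain ⟨a, b, hb, hab⟩ := exists_fraction hsp g
  have ha : Cyc.specMap (ι z) (ι ξ) hsp a ≠ 0 := fun e => (hg (ι ξ)).2 (by rw [hab, e, zero_div])
  have hker := ker_specMap_eq_bot hξ (ι z) hsp
  have key : ∀ w : X.presheaf.stalk (ι z), Cyc.specMap (ι z) (ι ξ) hsp w ≠ 0 →
      Cyc.ordAt (ι z) (ι ξ) hsp (Cyc.specMap (ι z) (ι ξ) hsp w) = ((Ring.ord (Z.presheaf.stalk z) (ι.stalkMap z w)).toNat : ℤ) :=
    fun w hw => by
      let φ : Z.presheaf.stalk z ≃+* Cyc.LocQuot (ι z) (ι ξ) hsp :=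
        (RingEquiv.ofBijective (ι.stalkMap z).hom (hsm z)).symm.trans
          ((RingEquiv.quotientBot _).symm.trans (Ideal.quotEquivOfEq hker.symm))
      have hφ : φ (ι.stalkMap z w) = Ideal.Quotient.mk (RingHom.ker (Cyc.specMap (ι z) (ι ξ) hsp)) w := by
        show (Ideal.quotEquivOfEq hker.symm) ((RingEquiv.quotientBot _).symm
          ((RingEquiv.ofBijective (ι.stalkMap z).hom (hsm z)).symm (ι.stalkMap z w))) = _
        rw [show ι.stalkMap z w = RingEquiv.ofBijective (ι.stalkMap z).hom (hsm z) w from rfl, RingEquiv.symm_apply_apply]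
        rfl
      rw [ordAt_specMap hX.2.2 hsp hd hw, ← hφ, TameLib.ord_ringEquiv]
  haveI : IsLocallyNoetherian Z := LocallyOfFiniteType.isLocallyNoetherian c
  haveI : Ring.KrullDimLE 1 (Z.presheaf.stalk z) := Ring.krullDimLE_iff.2 ((dim_le z).trans hdimZ.le)
  have hne : ∀ w, Cyc.specMap (ι z) (ι ξ) hsp w ≠ 0 → ι.stalkMap z w ≠ 0 := fun w hw e => hw (by
    rw [(hsm z).1 (e.trans (map_zero _).symm), map_zero])
  rw [hcoef, divFun_of hsp hd, hab, div_eq_mul_inv, ordAt_mul hX.2.2 hsp hd ha (inv_ne_zero hb),
    ordAt_inv hX.2.2 hsp hd hb, key a ha, key b hb, show fZ = algebraMap (Z.presheaf.stalk z) Z.functionField (ι.stalkMap z a) /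
      algebraMap (Z.presheaf.stalk z) Z.functionField (ι.stalkMap z b) from
        (eq_div_iff ((map_ne_zero_iff _ (IsFractionRing.injective _ _)).2 (hne b hb))).2 (hfZ z a b hsp hb hab),
    OrdDet.ordFrac_div _ _ (hne a ha) (hne b hb), sub_eq_add_neg, mul_comm]

end Groth.Agent.CycLib
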