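import Mathlib

/-! # Fibres of locally Noetherian schemes -/

set_option autoImplicit false
set_option linter.style.haveILetI false

universe u

open CategoryTheory CategoryTheory.Limits AlgebraicGeometry TensorProduct

namespace Groth.Agent.CycLib

theorem isLocallyNoetherian_pullback_essFiniteType {R S : CommRingCat.{u}} (φ : R ⟶ S) (hφ : φ.hom.EssFiniteType)
    {Z : Scheme.{u}} (t : Z ⟶ Spec R) [IsLocallyNoetherian Z] : IsLocallyNoetherian (pullback t (Spec.map φ)) := by
  refine (isLocallyNoetherian_iff_openCover (Scheme.Pullback.openCoverOfLeft Z.affineCover t (Spec.map φ))).2 fun i => ?_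
  show IsLocallyNoetherian (pullback (Z.affineCover.f i ≫ t) (Spec.map φ))
  obtain ⟨B, j, -⟩ : ∃ (B : CommRingCat.{u}) (j : Spec B ≅ Z.affineCover.X i), True := ⟨_, Iso.refl _, trivial⟩
  haveI : IsLocallyNoetherian (Z.affineCover.X i) := isLocallyNoetherian_of_isOpenImmersion (Z.affineCover.f i)
  haveI : IsLocallyNoetherian (Spec B) := isLocallyNoetherian_of_isOpenImmersion j.hom
  haveI : IsNoetherianRing B := by
    haveI : IsNoetherianRing Γ(Spec B, ⊤) := IsLocallyNoetherian.component_noetherian ⟨⊤, isAffineOpen_top _⟩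
    exact isNoetherianRing_of_ringEquiv _ (Scheme.ΓSpecIso B).commRingCatIsoToRingEquiv
  obtain ⟨ψ, hψ⟩ := Spec.homEquiv.symm.surjective (j.hom ≫ Z.affineCover.f i ≫ t)
  have hψ' : Spec.map ψ = j.hom ≫ Z.affineCover.f i ≫ t := hψ
  algebraize [ψ.hom, φ.hom]
  haveI : IsNoetherianRing (B ⊗[R] S) := Algebra.EssFiniteType.isNoetherianRing B _
  haveI : IsIso (pullback.map (Spec.map ψ) (Spec.map φ) (Z.affineCover.f i ≫ t) (Spec.map φ) j.hom (𝟙 _) (𝟙 _)
      ((Category.comp_id _).trans hψ') rfl) := pullback.map_isIso _ _ _ _ _ _ _ _ _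
  let e1 := asIso (pullback.map (Spec.map ψ) (Spec.map φ) (Z.affineCover.f i ≫ t) (Spec.map φ) j.hom (𝟙 _) (𝟙 _)
      ((Category.comp_id _).trans hψ') rfl)
  haveI : IsLocallyNoetherian (Spec (CommRingCat.of (B ⊗[R] S))) := inferInstance
  exact isLocallyNoetherian_of_isOpenImmersion (e1.inv ≫ (pullbackSpecIso R B S).hom)

/-- All fibres of a morphism from a locally Noetherian scheme are locally Noetherian. -/
theorem isLocallyNoetherian_fiber {X Y : Scheme.{u}} (g : X ⟶ Y) [IsLocallyNoetherian X] (y : Y) :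
    IsLocallyNoetherian (g.fiber y) := by
  obtain ⟨V, hV, hy, -⟩ := exists_isAffineOpen_mem_and_subset (x := y) (U := (⊤ : Y.Opens)) trivial
  letI : Algebra Γ(Y, V) (Y.presheaf.stalk y) := (Y.presheaf.germ V y hy).hom.toAlgebra
  let φ : Γ(Y, V) ⟶ Y.residueField y := Y.presheaf.germ V y hy ≫ Y.residue y
  have hφ : φ.hom.EssFiniteType := by
    haveI : IsLocalization.AtPrime (Y.presheaf.stalk y) (hV.primeIdealOf ⟨y, hy⟩).asIdeal := hV.isLocalization_stalk ⟨y, hy⟩
    letI : Algebra (Y.presheaf.stalk y) (Y.residueField y) := (Y.residue y).hom.toAlgebra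
    letI : Algebra Γ(Y, V) (Y.residueField y) := φ.hom.toAlgebra
    haveI : IsScalarTower Γ(Y, V) (Y.presheaf.stalk y) (Y.residueField y) := .of_algebraMap_eq fun _ => rfl
    haveI := Algebra.EssFiniteType.of_isLocalization (S := Y.presheaf.stalk y) (hV.primeIdealOf ⟨y, hy⟩).asIdeal.primeCompl
    haveI : Algebra.EssFiniteType (Y.presheaf.stalk y) (Y.residueField y) :=
      (RingHom.FiniteType.of_surjective (Y.residue y).hom (Y.residue_surjective y)).essFiniteType
    exact Algebra.EssFiniteType.comp Γ(Y, V) (Y.presheaf.stalk y) (Y.residueField y)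
  have hfac : Y.fromSpecResidueField y = Spec.map φ ≫ hV.fromSpec := by
    rw [Scheme.fromSpecResidueField, Spec.map_comp, Category.assoc]
    congr 1
    exact (hV.fromSpecStalk_eq_fromSpecStalk hy).symm
  haveI : IsLocallyNoetherian (pullback g hV.fromSpec) := isLocallyNoetherian_of_isOpenImmersion (pullback.fst g hV.fromSpec)
  haveI := isLocallyNoetherian_pullback_essFiniteType φ hφ (pullback.snd g hV.fromSpec)
  let e : g.fiber y ≅ pullback (pullback.snd g hV.fromSpec) (Spec.map φ) :=
    pullback.congrHom rfl hfac ≪≫ (pullbackLeftPullbackSndIso g hV.fromSpec (Spec.map φ)).symm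
  exact isLocallyNoetherian_of_isOpenImmersion e.hom

end Groth.Agent.CycLib
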