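import Groth.Agent.CycLib.FinPush
import Groth.Agent.CycLib.FibreNoeth
import Groth.Agent.CycLib.Shift
import Groth.Agent.CycLib.DegZero
import Groth.Agent.FlatLocus.FibreStalk
import Groth.Agent.EtaleSplit.GeomPoint

/-! # Multiplicities above a residually finite point after base change -/

set_option autoImplicit false
set_option backward.isDefEq.respectTransparency false
set_option linter.style.haveILetI false

universe u

open CategoryTheory CategoryTheory.Limits AlgebraicGeometry TopologicalSpace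

noncomputable section

namespace Groth.Agent.CycLib

variable {X Y : Scheme.{u}}

/-- The points of the fibres of a locally quasi-finite morphism are maximal in them. -/
theorem maxFib_of_locallyQuasiFinite (p : X ⟶ Y) [LocallyQuasiFinite p] (x : X) : MaxFib p x := fun w hw hwx => by
  haveI := p.isDiscrete_preimage_singleton (p x) |>.to_subtype
  have h : (⟨w, hw⟩ : ↥(p ⁻¹' {p x})) ⤳ ⟨x, rfl⟩ := (subtype_specializes_iff _ _).2 hwx
  exact congrArg Subtype.val h.eq

/-- The degree of a finite flat morphism is the sum of the degrees of the points with their multiplicities. -/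
theorem sum_mult_finrank [IsLocallyNoetherian X] [IsLocallyNoetherian Y] (p : X ⟶ Y) [IsFinite p] [Flat p] (y : Y) :
    (p ⁻¹' {y}).Finite ∧ (p.finrank y : ℤ) = ∑ᶠ x ∈ p ⁻¹' {y}, (p.residueDegree x : ℤ) *
      ((Module.length (X.presheaf.stalk x) (X.presheaf.stalk x ⧸ fibIdeal p x)).toNat : ℤ) := by
  classical
  obtain ⟨W, hW, hyW, -⟩ := exists_isAffineOpen_mem_and_subset (x := y) (U := (⊤ : Y.Opens)) trivial
  have hU : IsAffineOpen (p ⁻¹ᵁ W) := hW.preimage p
  haveI : IsNoetherianRing Γ(Y, W) := IsLocallyNoetherian.component_noetherian ⟨W, hW⟩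
  letI : Algebra Γ(Y, W) Γ(X, p ⁻¹ᵁ W) := (p.app W).hom.toAlgebra
  haveI : Module.Finite Γ(Y, W) Γ(X, p ⁻¹ᵁ W) := p.finite_app W hW
  haveI : Module.Flat Γ(Y, W) Γ(X, p ⁻¹ᵁ W) := by
    have h := p.flat_appLE hW hU le_rfl
    rw [← Scheme.Hom.app_eq_appLE] at h
    exact h
  let P := hW.primeIdealOf ⟨y, hyW⟩
  let J := P.asIdeal.map (algebraMap Γ(Y, W) Γ(X, p ⁻¹ᵁ W))
  let M := Γ(X, p ⁻¹ᵁ W) ⧸ J
  let g : X → ℕ∞ := fun x => Module.length (X.presheaf.stalk x) (X.presheaf.stalk x ⧸ fibIdeal p x)
  have hg : ∀ (x : X) (hx : x ∈ p ⁻¹ᵁ W), p x = y →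
      Module.length (Localization.AtPrime (hU.primeIdealOf ⟨x, hx⟩).asIdeal)
        (LocalizedModule (hU.primeIdealOf ⟨x, hx⟩).asIdeal.primeCompl M) = g x := fun x hx hxy => by
    subst hxy
    letI : Algebra Γ(X, p ⁻¹ᵁ W) (X.presheaf.stalk x) := (X.presheaf.germ _ x hx).hom.toAlgebra
    haveI : IsLocalization.AtPrime (X.presheaf.stalk x) (hU.primeIdealOf ⟨x, hx⟩).asIdeal := hU.isLocalization_stalk ⟨x, hx⟩
    rw [length_localized_quot (S := X.presheaf.stalk x)]
    congr 2
    all_goals
      letI : Algebra Γ(Y, W) (Y.presheaf.stalk (p x)) := (Y.presheaf.germ W (p x) hx).hom.toAlgebra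
      haveI : IsLocalization.AtPrime (Y.presheaf.stalk (p x)) P.asIdeal := hW.isLocalization_stalk ⟨p x, hx⟩
      rw [fibIdeal, ← IsLocalization.AtPrime.map_eq_maximalIdeal P.asIdeal (Y.presheaf.stalk (p x)),
        Ideal.map_map, Ideal.map_map]
      congr 1
      ext r
      exact (Scheme.Hom.germ_stalkMap_apply p W x hx r).symm
  have hfl : ∀ x, p x = y → g x ≠ ⊤ := fun x _ =>
    Module.length_ne_top_iff.2 (isFiniteLength_fib p (maxFib_of_locallyQuasiFinite p x))
  obtain ⟨hfin, key⟩ := length_eq_sum_fibre p hW hU (p.finite_app W hW) hyW M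
    (fun r m => (algebraMap_smul Γ(X, p ⁻¹ᵁ W) r m).symm) g hg hfl
  rw [length_localized_fibre P] at key
  have hrank : Module.rankAtStalk Γ(X, p ⁻¹ᵁ W) P = p.finrank y := by
    rw [← Scheme.Hom.finrank_SpecMap_algebraMap]
    exact (Scheme.Hom.finrank_of_isPullback _ _ _ _ (isPullback_fromSpec p hW hU) P).trans
      (congrArg p.finrank (hW.fromSpec_primeIdealOf ⟨y, hyW⟩))
  rw [hrank, finsum_mem_eq_finite_toFinset_sum _ hfin] at key
  refine ⟨hfin, ?_⟩
  rw [finsum_mem_eq_finite_toFinset_sum _ hfin]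
  have h2 := congrArg ENat.toNat key
  rw [ENat.toNat_coe, ENat.toNat_sum fun x hx => ?_] at h2
  · rw [h2, Nat.cast_sum]
    exact Finset.sum_congr rfl fun x _ => by rw [ENat.toNat_mul, ENat.toNat_coe, Nat.cast_mul]
  · exact (WithTop.mul_lt_top (ENat.coe_lt_top _) (lt_top_iff_ne_top.2 (hfl x (hfin.mem_toFinset.1 hx)))).ne

/-- The local ring of the fibre has the length of the fibre ring. -/
theorem length_stalk_fiber (p : X ⟶ Y) (y : Y) (z : p.fiber y) :
    Module.length ((p.fiber y).presheaf.stalk z) ((p.fiber y).presheaf.stalk z) =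
      Module.length (X.presheaf.stalk (p.fiberι y z)) (X.presheaf.stalk (p.fiberι y z) ⧸ fibIdeal p (p.fiberι y z)) := by
  letI := ((p.fiberι y).stalkMap z).hom.toAlgebra
  have hsurj : Function.Surjective (Algebra.ofId (X.presheaf.stalk (p.fiberι y z)) ((p.fiber y).presheaf.stalk z)) :=
    FlatLocus.fiberι_stalkMap_surjective p y z
  rw [← Module.length_eq_of_surjective (R := (p.fiber y).presheaf.stalk z) (M := (p.fiber y).presheaf.stalk z)
    (FlatLocus.fiberι_stalkMap_surjective p y z)]
  have e := (Ideal.quotientKerAlgEquivOfSurjective hsurj).toLinearEquiv.length_eq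
  exact (((Submodule.quotEquivOfEq _ _
    (show fibIdeal p (p.fiberι y z) = RingHom.ker (Algebra.ofId (X.presheaf.stalk (p.fiberι y z))
      ((p.fiber y).presheaf.stalk z)) from (FlatLocus.ker_fiberι_stalkMap p y z).symm)).length_eq).trans e).symm

variable {X' Y' : Scheme.{u}} {f : X ⟶ Y} {g : Y' ⟶ Y} {g' : X' ⟶ X} {f' : X' ⟶ Y'}

/-- The fibre of a base change over a residually finite point is finite flat over the fibre. -/
theorem exists_fibre_map (hc : IsPullback g' f' f g) (x : X) (hfin : (f.residueFieldMap x).hom.Finite) :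
    ∃ π : g'.fiber x ⟶ g.fiber (f x), π ≫ g.fiberι (f x) = g'.fiberι x ≫ f' ∧ IsFinite π ∧ Flat π ∧
      IsPullback π (g'.fiberToSpecResidueField x) (g.fiberToSpecResidueField (f x)) (Spec.map (f.residueFieldMap x)) := by
  let r := Spec.map (f.residueFieldMap x)
  have hr : X.fromSpecResidueField x ≫ f = r ≫ Y.fromSpecResidueField (f x) :=
    (f.SpecMap_residueFieldMap_fromSpecResidueField x).symm
  let π : g'.fiber x ⟶ g.fiber (f x) := pullback.lift (g'.fiberι x ≫ f') (g'.fiberToSpecResidueField x ≫ r)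
    (by rw [Category.assoc, hc.flip.w, g'.fiber_fac_assoc, hr, Category.assoc])
  have hπι : π ≫ g.fiberι (f x) = g'.fiberι x ≫ f' := pullback.lift_fst _ _ _
  have hπ : IsPullback π (g'.fiberToSpecResidueField x) (g.fiberToSpecResidueField (f x)) r := by
    refine IsPullback.of_right (h₁₂ := g.fiberι (f x)) (h₂₂ := Y.fromSpecResidueField (f x)) ?_ (pullback.lift_snd _ _ _) (IsPullback.of_hasPullback g _)
    rw [hπι, ← hr]
    exact (IsPullback.of_hasPullback g' _).paste_horiz hc.flip
  letI := (f.residueFieldMap x).hom.toAlgebra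
  haveI : Module.Finite (Y.residueField (f x)) (X.residueField x) := hfin
  haveI : IsFinite r := (IsFinite.SpecMap_iff (f.residueFieldMap x)).2 hfin
  haveI : Flat r := HasRingHomProperty.Spec_iff.2 (RingHom.flat_algebraMap_iff.2
    (inferInstance : Module.Flat (Y.residueField (f x)) (X.residueField x)))
  haveI : IsFinite π := MorphismProperty.of_isPullback hπ.flip (inferInstance : IsFinite r)
  haveI : Flat π := MorphismProperty.of_isPullback hπ.flip (inferInstance : Flat r)
  exact ⟨π, hπι, inferInstance, inferInstance, hπ⟩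

/-- Above a maximal point of a fibre, the points over a residually finite point are maximal. -/
theorem maxFib_baseChange (hc : IsPullback g' f' f g) (x : X) (hfin : (f.residueFieldMap x).hom.Finite) (x' : X')
    (h : g' x' = x) (hmax : MaxFib g (f' x')) : MaxFib g' x' := by
  obtain ⟨π, hπι, hπf, -, -⟩ := exists_fibre_map hc x hfin
  intro w hw hwx
  have hsq : ∀ v, g (f' v) = f (g' v) := fun v => by
    rw [← Scheme.Hom.comp_apply, ← Scheme.Hom.comp_apply, hc.w]
  have h1 : f' w = f' x' := hmax _ (by rw [hsq, hsq, hw]) (hwx.map f'.continuous)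
  rw [h] at hw
  obtain ⟨a, rfl⟩ : ∃ a : g'.fiber x, g'.fiberι x a = w :=
    ⟨(g'.fiberHomeo x).symm ⟨w, hw⟩, congrArg Subtype.val ((g'.fiberHomeo x).apply_symm_apply ⟨w, hw⟩)⟩
  obtain ⟨b, rfl⟩ : ∃ b : g'.fiber x, g'.fiberι x b = x' :=
    ⟨(g'.fiberHomeo x).symm ⟨x', h⟩, congrArg Subtype.val ((g'.fiberHomeo x).apply_symm_apply ⟨x', h⟩)⟩
  have h2 : π a = π b := (g.fiberι (f x)).isEmbedding.injective (by
    rw [← Scheme.Hom.comp_apply, ← Scheme.Hom.comp_apply, hπι, Scheme.Hom.comp_apply, Scheme.Hom.comp_apply, h1])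
  rw [maxFib_of_locallyQuasiFinite π b a h2 ((g'.fiberι x).isEmbedding.isInducing.specializes_iff.1 hwx)]

/-- The points over a residually finite point and a point of the base change, with multiplicities. -/
theorem sum_mult_baseChange (hc : IsPullback g' f' f g) [IsLocallyNoetherian X'] [IsLocallyNoetherian Y'] (x : X)
    (hfin : (f.residueFieldMap x).hom.Finite) (y' : Y') (e : g y' = f x) (hmax : MaxFib g y') :
    {x' : X' | g' x' = x ∧ f' x' = y'}.Finite ∧
      ∑ᶠ x' ∈ {x' : X' | g' x' = x ∧ f' x' = y'}, (f'.residueDegree x' : ℤ) *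
        ((Module.length (X'.presheaf.stalk x') (X'.presheaf.stalk x' ⧸ fibIdeal g' x')).toNat : ℤ) =
      (f.residueDegree x : ℤ) * ((Module.length (Y'.presheaf.stalk y') (Y'.presheaf.stalk y' ⧸ fibIdeal g y')).toNat : ℤ) := by
  classical
  obtain ⟨π, hπι, hπf, hπflat, hπ⟩ := exists_fibre_map hc x hfin
  letI := (f.residueFieldMap x).hom.toAlgebra
  haveI : Module.Finite (Y.residueField (f x)) (X.residueField x) := hfin
  let r := Spec.map (f.residueFieldMap x)
  haveI : IsFinite r := (IsFinite.SpecMap_iff (f.residueFieldMap x)).2 hfin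
  haveI : Flat r := HasRingHomProperty.Spec_iff.2 (RingHom.flat_algebraMap_iff.2
    (inferInstance : Module.Flat (Y.residueField (f x)) (X.residueField x)))
  haveI := isLocallyNoetherian_fiber g' x
  haveI := isLocallyNoetherian_fiber g (f x)
  obtain ⟨z, rfl⟩ : ∃ z : g.fiber (f x), g.fiberι _ z = y' :=
    ⟨(g.fiberHomeo _).symm ⟨y', e⟩, congrArg Subtype.val ((g.fiberHomeo _).apply_symm_apply ⟨y', e⟩)⟩
  obtain ⟨hfib, hsum⟩ := sum_mult_finrank π z
  have hd : π.finrank z = f.residueDegree x := by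
    rw [Scheme.Hom.finrank_of_isPullback _ _ r _ hπ.flip z]
    show Scheme.Hom.finrank (Spec.map (CommRingCat.ofHom (algebraMap (Y.residueField (f x)) (X.residueField x)))) _ =
      Module.finrank (Y.residueField (f x)) (X.residueField x)
    exact (Scheme.Hom.finrank_SpecMap_algebraMap _ _ _).trans (by rw [Module.rankAtStalk_eq_finrank_of_free]; rfl)
  have hinj := (g'.fiberι x).isEmbedding.injective
  have himg : {x' : X' | g' x' = x ∧ f' x' = g.fiberι (f x) z} = g'.fiberι x '' (π ⁻¹' {z}) := by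
    ext x'
    constructor
    · rintro ⟨h1, h2⟩
      refine ⟨(g'.fiberHomeo x).symm ⟨x', h1⟩, ?_, congrArg Subtype.val ((g'.fiberHomeo x).apply_symm_apply ⟨x', h1⟩)⟩
      refine (g.fiberι _).isEmbedding.injective ?_
      rw [← Scheme.Hom.comp_apply, hπι, Scheme.Hom.comp_apply]
      exact (congrArg f' (congrArg Subtype.val ((g'.fiberHomeo x).apply_symm_apply ⟨x', h1⟩))).trans h2
    · rintro ⟨w, rfl, rfl⟩
      exact ⟨(g'.fiberHomeo x w).2, by rw [← Scheme.Hom.comp_apply, ← hπι, Scheme.Hom.comp_apply]⟩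
  rw [himg]
  refine ⟨hfib.image _, ?_⟩
  rw [finsum_mem_image hinj.injOn, ← hd, hsum, finsum_mem_eq_finite_toFinset_sum _ hfib,
    finsum_mem_eq_finite_toFinset_sum _ hfib, Finset.sum_mul]
  refine Finset.sum_congr rfl fun w hw => ?_
  obtain rfl : π w = z := hfib.mem_toFinset.1 hw
  have hres : f'.residueDegree (g'.fiberι x w) = π.residueDegree w := by
    rw [← residueDegree_comp_left (g'.fiberι x) f' w
      (bijective_residueFieldMap (g'.fiberι x) w), ← residueDegree_congr hπι w]
    exact residueDegree_comp_right π (g.fiberι (f x)) w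
      (bijective_residueFieldMap (g.fiberι (f x)) (π w))
  have hlen : Module.length (X'.presheaf.stalk (g'.fiberι x w)) (X'.presheaf.stalk (g'.fiberι x w) ⧸ fibIdeal g' (g'.fiberι x w)) =
      Module.length ((g.fiber (f x)).presheaf.stalk (π w)) ((g.fiber (f x)).presheaf.stalk (π w)) *
        Module.length ((g'.fiber x).presheaf.stalk w) ((g'.fiber x).presheaf.stalk w ⧸ fibIdeal π w) := by
    rw [← length_stalk_fiber g' x w]
    have htop : IsFiniteLength ((g.fiber (f x)).presheaf.stalk (π w)) ((g.fiber (f x)).presheaf.stalk (π w)) :=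
      Module.length_ne_top_iff.1 (by rw [length_stalk_fiber]; exact Module.length_ne_top_iff.2 (isFiniteLength_fib g hmax))
    letI := (π.stalkMap w).hom.toAlgebra
    haveI : Module.Flat ((g.fiber (f x)).presheaf.stalk (π w)) ((g'.fiber x).presheaf.stalk w) := Flat.stalkMap π w
    rw [← (TensorProduct.AlgebraTensorModule.rid ((g.fiber (f x)).presheaf.stalk (π w)) ((g'.fiber x).presheaf.stalk w) ((g'.fiber x).presheaf.stalk w)).length_eq]
    exact InjHullLib.length_baseChange _ htop
  rw [hres, hlen, length_stalk_fiber g (f x) (π w), ENat.toNat_mul]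
  push_cast
  ring

end Groth.Agent.CycLib
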