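import Groth.Agent.OrdDet.Lattice
import Groth.Prelude.Def_Cyc

/-! # Fractions of the local ring of an integral closed subscheme -/

set_option autoImplicit false
set_option backward.isDefEq.respectTransparency false
set_option linter.style.haveILetI false

universe u

open CategoryTheory AlgebraicGeometry TopologicalSpace

noncomputable section

namespace Groth.Agent.CycLib

section OrdFrac

variable {R : Type u} [CommRing R] [IsDomain R] [IsNoetherianRing R] [Ring.KrullDimLE 1 R]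
  {K : Type u} [Field K] [Algebra R K] [IsFractionRing R K]

theorem ordFrac_zero : CycAlg.ordFrac R K (0 : K) = 0 := by
  rw [CycAlg.ordFrac, dif_pos ⟨inferInstance, inferInstance, inferInstance, inferInstance⟩, map_zero]
  rfl

theorem ordFrac_mul {f g : K} (hf : f ≠ 0) (hg : g ≠ 0) :
    CycAlg.ordFrac R K (f * g) = CycAlg.ordFrac R K f + CycAlg.ordFrac R K g := by
  obtain ⟨a₁, b₁, hb₁, rfl⟩ := IsFractionRing.div_surjective (A := R) f
  obtain ⟨a₂, b₂, hb₂, rfl⟩ := IsFractionRing.div_surjective (A := R) g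
  have ha₁ : a₁ ≠ 0 := fun h => hf (by rw [h, map_zero, zero_div])
  have ha₂ : a₂ ≠ 0 := fun h => hg (by rw [h, map_zero, zero_div])
  have hb₁' := nonZeroDivisors.ne_zero hb₁
  have hb₂' := nonZeroDivisors.ne_zero hb₂
  rw [div_mul_div_comm, ← map_mul, ← map_mul, OrdDet.ordFrac_div _ _ (mul_ne_zero ha₁ ha₂) (mul_ne_zero hb₁' hb₂'),
    OrdDet.ordFrac_div _ _ ha₁ hb₁', OrdDet.ordFrac_div _ _ ha₂ hb₂',
    Ring.ord_mul R (mem_nonZeroDivisors_of_ne_zero ha₂), Ring.ord_mul R (mem_nonZeroDivisors_of_ne_zero hb₂'),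
    ENat.toNat_add (Ring.ord_ne_top (mem_nonZeroDivisors_of_ne_zero ha₁)) (Ring.ord_ne_top (mem_nonZeroDivisors_of_ne_zero ha₂)),
    ENat.toNat_add (Ring.ord_ne_top (mem_nonZeroDivisors_of_ne_zero hb₁')) (Ring.ord_ne_top (mem_nonZeroDivisors_of_ne_zero hb₂'))]
  push_cast
  ring

theorem ordFrac_algebraMap {a : R} (ha : a ≠ 0) :
    CycAlg.ordFrac R K (algebraMap R K a) = ((Ring.ord R a).toNat : ℤ) := by
  have h := OrdDet.ordFrac_div (K := K) a 1 ha one_ne_zero
  rw [map_one, div_one, Ring.ord_one, show (0 : ℕ∞).toNat = 0 from rfl, Nat.cast_zero, sub_zero] at h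
  exact h

end OrdFrac

variable {X : Scheme.{u}}

theorem specMap_germ {x ξ : X} (h : ξ ⤳ x) {U : X.Opens} (hx : x ∈ U) (hξ : ξ ∈ U) (a : Γ(X, U)) :
    Cyc.specMap x ξ h (X.presheaf.germ U x hx a) = X.residue ξ (X.presheaf.germ U ξ hξ a) := by
  show X.residue ξ (X.presheaf.stalkSpecializes h (X.presheaf.germ U x hx a)) = _
  rw [TopCat.Presheaf.germ_stalkSpecializes_apply]

/-- Every element of `κ(ξ)` is a quotient of two elements of the local ring at a specialization. -/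
theorem exists_fraction_affine {x ξ : X} (h : ξ ⤳ x) {U : X.Opens} (hU : IsAffineOpen U) (hx : x ∈ U)
    (z : X.residueField ξ) : ∃ a b : Γ(X, U), X.residue ξ (X.presheaf.germ U ξ (h.mem_open U.2 hx) b) ≠ 0 ∧
      z = Cyc.specMap x ξ h (X.presheaf.germ U x hx a) / Cyc.specMap x ξ h (X.presheaf.germ U x hx b) := by
  have hξ : ξ ∈ U := h.mem_open U.2 hx
  letI : Algebra Γ(X, U) (X.presheaf.stalk ξ) := (X.presheaf.germ U ξ hξ).hom.toAlgebra
  haveI := hU.isLocalization_stalk ⟨ξ, hξ⟩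
  obtain ⟨ζ, rfl⟩ := X.residue_surjective ξ z
  obtain ⟨⟨a, b⟩, hab⟩ := IsLocalization.surj (hU.primeIdealOf ⟨ξ, hξ⟩).asIdeal.primeCompl ζ
  change ζ * X.presheaf.germ U ξ hξ b = X.presheaf.germ U ξ hξ a at hab
  have hu : IsUnit (X.residue ξ (X.presheaf.germ U ξ hξ b)) :=
    (IsLocalization.map_units (X.presheaf.stalk ξ) b).map (X.residue ξ).hom
  refine ⟨a, b, hu.ne_zero, ?_⟩
  rw [specMap_germ h hx hξ, specMap_germ h hx hξ, eq_div_iff hu.ne_zero, ← map_mul, hab]

theorem exists_fraction {x ξ : X} (h : ξ ⤳ x) (z : X.residueField ξ) : ∃ a b : X.presheaf.stalk x,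
    Cyc.specMap x ξ h b ≠ 0 ∧ z = Cyc.specMap x ξ h a / Cyc.specMap x ξ h b := by
  obtain ⟨U, hU, hx, -⟩ := exists_isAffineOpen_mem_and_subset (x := x) (U := ⊤) trivial
  obtain ⟨a, b, hb, rfl⟩ := exists_fraction_affine h hU hx z
  exact ⟨_, _, by rwa [specMap_germ h hx (h.mem_open U.2 hx)], rfl⟩

theorem algebraMap_locQuot {x ξ : X} (h : ξ ⤳ x) (a : X.presheaf.stalk x) :
    algebraMap (Cyc.LocQuot x ξ h) (X.residueField ξ) (Ideal.Quotient.mk _ a) = Cyc.specMap x ξ h a := rfl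

instance isPrime_ker {x ξ : X} (h : ξ ⤳ x) : (RingHom.ker (Cyc.specMap x ξ h)).IsPrime := RingHom.ker_isPrime _

theorem isFractionRing_locQuot {x ξ : X} (h : ξ ⤳ x) :
    IsFractionRing (Cyc.LocQuot x ξ h) (X.residueField ξ) := by
  haveI : FaithfulSMul (Cyc.LocQuot x ξ h) (X.residueField ξ) :=
    (faithfulSMul_iff_algebraMap_injective _ _).2 (RingHom.kerLift_injective (Cyc.specMap x ξ h))
  refine IsFractionRing.of_field _ _ fun z => ?_
  obtain ⟨a, b, -, rfl⟩ := exists_fraction h z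
  exact ⟨Ideal.Quotient.mk _ a, Ideal.Quotient.mk _ b, rfl⟩

/-- The point of the spectrum of the local ring at `x` given by the kernel is `ξ`. -/
theorem fromSpecStalk_ker {x ξ : X} (h : ξ ⤳ x) :
    X.fromSpecStalk x ⟨RingHom.ker (Cyc.specMap x ξ h), inferInstance⟩ = ξ := by
  have h1 : (Spec.map (X.presheaf.stalkSpecializes h ≫ X.residue ξ) ≫ X.fromSpecStalk x) =
      X.fromSpecResidueField ξ := by
    rw [Spec.map_comp, Category.assoc, Scheme.SpecMap_stalkSpecializes_fromSpecStalk]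
    rfl
  have h2 := Scheme.fromSpecResidueField_apply ξ (⟨⊥, Ideal.isPrime_bot⟩ : PrimeSpectrum (X.residueField ξ))
  rw [← h1, Scheme.Hom.comp_apply] at h2
  exact h2

/-- The local ring of the closure at an immediate specialization has dimension at most one. -/
theorem krullDimLE_locQuot {δ : X → ℤ} (hδ : Cyc.IsDimFun X δ) {x ξ : X} (h : ξ ⤳ x) (hd : δ x + 1 = δ ξ) :
    Ring.KrullDimLE 1 (Cyc.LocQuot x ξ h) := by
  rw [Ring.krullDimLE_one_iff_of_isPrime_bot]
  intro P hP0 hP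
  let q := Ideal.Quotient.mk (RingHom.ker (Cyc.specMap x ξ h))
  haveI hQ : (P.comap q).IsPrime := Ideal.IsPrime.comap q
  have hkerle : RingHom.ker (Cyc.specMap x ξ h) ≤ P.comap q := fun a ha => by
    show q a ∈ P
    rw [show q a = 0 from Ideal.Quotient.eq_zero_iff_mem.2 ha]
    exact zero_mem _
  suffices hm : P.comap q = IsLocalRing.maximalIdeal (X.presheaf.stalk x) by
    rcases Ideal.map_eq_top_or_isMaximal_of_surjective q Ideal.Quotient.mk_surjective
        (hm.symm ▸ IsLocalRing.maximalIdeal.isMaximal _ : (P.comap q).IsMaximal) with h' | h'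
    · rw [Ideal.map_comap_of_surjective q Ideal.Quotient.mk_surjective] at h'
      exact (hP.ne_top h').elim
    · rwa [Ideal.map_comap_of_surjective q Ideal.Quotient.mk_surjective] at h'
  by_contra hm
  let g := X.fromSpecStalk x
  let p₀ : PrimeSpectrum (X.presheaf.stalk x) := ⟨RingHom.ker (Cyc.specMap x ξ h), inferInstance⟩
  let p₁ : PrimeSpectrum (X.presheaf.stalk x) := ⟨P.comap q, hQ⟩
  let p₂ : PrimeSpectrum (X.presheaf.stalk x) := IsLocalRing.closedPoint _
  have hinj : Function.Injective g := g.isEmbedding.injective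
  have h01 : g p₀ ⤳ g p₁ := ((PrimeSpectrum.le_iff_specializes p₀ p₁).1 hkerle).map g.continuous
  have h12 : g p₁ ⤳ g p₂ :=
    ((PrimeSpectrum.le_iff_specializes p₁ p₂).1 (IsLocalRing.le_maximalIdeal hQ.ne_top)).map g.continuous
  have hne₀ : g p₀ ≠ g p₁ := fun e => by
    have h' : RingHom.ker (Cyc.specMap x ξ h) = P.comap q := congrArg PrimeSpectrum.asIdeal (hinj e)
    refine hP0 ?_
    rw [← Ideal.map_comap_of_surjective q Ideal.Quotient.mk_surjective P, ← h', Ideal.map_quotient_self]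
  have hne₁ : g p₁ ≠ g p₂ := fun e => hm (congrArg PrimeSpectrum.asIdeal (hinj e))
  have e₀ : g p₀ = ξ := fromSpecStalk_ker h
  have e₂ : g p₂ = x := Scheme.fromSpecStalk_closedPoint
  have l₁ := (hδ _ _ h01 hne₀).1
  have l₂ := (hδ _ _ h12 hne₁).1
  rw [e₀] at l₁
  rw [e₂] at l₂
  omega

variable [IsLocallyNoetherian X] {δ : X → ℤ} (hδ : Cyc.IsDimFun X δ) {x ξ : X} (h : ξ ⤳ x) (hd : δ x + 1 = δ ξ)

include hδ hd

theorem ordAt_mul {f g : X.residueField ξ} (hf : f ≠ 0) (hg : g ≠ 0) :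
    Cyc.ordAt x ξ h (f * g) = Cyc.ordAt x ξ h f + Cyc.ordAt x ξ h g := by
  haveI := krullDimLE_locQuot hδ h hd
  haveI := isFractionRing_locQuot h
  exact ordFrac_mul hf hg

theorem ordAt_zero : Cyc.ordAt x ξ h 0 = 0 := by
  haveI := krullDimLE_locQuot hδ h hd
  haveI := isFractionRing_locQuot h
  exact ordFrac_zero

theorem ordAt_one : Cyc.ordAt x ξ h 1 = 0 := by
  have := ordAt_mul hδ h hd (one_ne_zero (α := X.residueField ξ)) one_ne_zero
  rw [mul_one] at this
  omega

theorem ordAt_inv {f : X.residueField ξ} (hf : f ≠ 0) : Cyc.ordAt x ξ h f⁻¹ = - Cyc.ordAt x ξ h f := by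
  have := ordAt_mul hδ h hd hf (inv_ne_zero hf)
  rw [mul_inv_cancel₀ hf, ordAt_one hδ h hd] at this
  omega

theorem ordAt_zpow {f : X.residueField ξ} (hf : f ≠ 0) (n : ℤ) :
    Cyc.ordAt x ξ h (f ^ n) = n * Cyc.ordAt x ξ h f := by
  induction n using Int.induction_on with
  | zero => rw [zpow_zero, ordAt_one hδ h hd, zero_mul]
  | succ n ih => rw [zpow_add_one₀ hf, ordAt_mul hδ h hd (zpow_ne_zero _ hf) hf, ih]; ring
  | pred n ih =>
    rw [zpow_sub_one₀ hf, ordAt_mul hδ h hd (zpow_ne_zero _ hf) (inv_ne_zero hf), ih, ordAt_inv hδ h hd hf]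
    ring

/-- The order of a regular function is a colength. -/
theorem ordAt_specMap {a : X.presheaf.stalk x} (ha : Cyc.specMap x ξ h a ≠ 0) :
    Cyc.ordAt x ξ h (Cyc.specMap x ξ h a) =
      ((Ring.ord (Cyc.LocQuot x ξ h) (Ideal.Quotient.mk _ a)).toNat : ℤ) := by
  haveI := krullDimLE_locQuot hδ h hd
  haveI := isFractionRing_locQuot h
  rw [Cyc.ordAt, ← algebraMap_locQuot h a]
  exact ordFrac_algebraMap fun e => ha (by rw [← algebraMap_locQuot h a, e, map_zero])

theorem ordAt_specMap_unit {a : X.presheaf.stalk x} (ha : IsUnit a) : Cyc.ordAt x ξ h (Cyc.specMap x ξ h a) = 0 := by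
  rw [ordAt_specMap hδ h hd (ha.map (Cyc.specMap x ξ h)).ne_zero, Ring.ord_of_isUnit (ha.map _)]
  rfl

end Groth.Agent.CycLib
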