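import Groth.Agent.CycLib.StalkMod
import Groth.Agent.S6320
import Groth.Agent.S16234

/-! # Lengths along finite morphisms -/

set_option autoImplicit false
set_option backward.isDefEq.respectTransparency false
set_option linter.style.haveILetI false

universe u

open CategoryTheory AlgebraicGeometry TopologicalSpace

noncomputable section

namespace Groth.Agent.CycLib

/-- A finitely generated module whose localizations at maximal ideals have finite length. -/
theorem isFiniteLength_of_localized {C M : Type u} [CommRing C] [IsNoetherianRing C] [AddCommGroup M] [Module C M]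
    [Module.Finite C M] (h : ∀ n : MaximalSpectrum C, Module.length (Localization.AtPrime n.asIdeal)
      (LocalizedModule n.asIdeal.primeCompl M) ≠ ⊤) : IsFiniteLength C M := by
  refine (S16234.result _ _).1 fun Q hQ => ?_
  obtain ⟨m, hm, hQm⟩ := Ideal.exists_le_maximal Q.asIdeal Q.2.ne_top
  by_contra hne
  haveI := hm
  let n : MaximalSpectrum C := ⟨m, hm⟩
  let L := Localization.AtPrime n.asIdeal
  haveI : Module.Finite L (LocalizedModule n.asIdeal.primeCompl M) :=
    Module.Finite.of_isLocalizedModule n.asIdeal.primeCompl (LocalizedModule.mkLinearMap n.asIdeal.primeCompl M)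
  have hfl := Module.length_ne_top_iff.1 (h n)
  have hd : Disjoint (n.asIdeal.primeCompl : Set C) Q.asIdeal := Set.disjoint_left.2 fun a ha haQ => ha (hQm haQ)
  haveI := IsLocalization.isPrime_of_isPrime_disjoint n.asIdeal.primeCompl L _ Q.2 hd
  let Q' : PrimeSpectrum L := ⟨Q.asIdeal.map (algebraMap C L), ‹_›⟩
  have hQ' : Q' ∈ Module.support L (LocalizedModule n.asIdeal.primeCompl M) := by
    rw [Module.mem_support_iff_of_finite]
    intro t ht
    obtain ⟨⟨a, s⟩, e⟩ := IsLocalization.surj n.asIdeal.primeCompl t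
    rw [Module.mem_support_iff_of_finite] at hQ
    have h0 : ∀ z : M, ∃ w : n.asIdeal.primeCompl, w • a • z = 0 := fun z => by
      have h1 : a • LocalizedModule.mkLinearMap n.asIdeal.primeCompl M z = 0 := by
        rw [← algebraMap_smul L a, ← e, mul_comm, mul_smul, Module.mem_annihilator.1 ht, smul_zero]
      rw [← map_smul] at h1
      exact (IsLocalizedModule.eq_zero_iff n.asIdeal.primeCompl _).1 h1
    obtain ⟨S, hS⟩ := Module.Finite.fg_top (R := C) (M := M)
    classical
    choose w hw using h0
    let W : C := ∏ z ∈ S, (w z : C)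
    have hW : W ∉ Q.asIdeal := fun hmem => by
      obtain ⟨z, -, hz⟩ := Q.2.prod_mem_iff.1 hmem
      exact (w z).2 (hQm hz)
    have hann : W * a ∈ Module.annihilator C M := by
      refine Module.mem_annihilator.2 fun z => ?_
      have hz : z ∈ Submodule.span C (S : Set M) := by rw [hS]; trivial
      induction hz using Submodule.span_induction with
      | mem x hx =>
        obtain ⟨r, hr⟩ : (w x : C) ∣ W := Finset.dvd_prod_of_mem _ hx
        rw [hr, mul_comm (w x : C), mul_assoc, mul_smul, mul_smul, ← Submonoid.smul_def, hw, smul_zero]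
      | zero => exact smul_zero _
      | add x y _ _ hx hy => rw [smul_add, hx, hy, add_zero]
      | smul c x _ hx => rw [smul_comm, hx, smul_zero]
    have ha : algebraMap C L a ∈ Q'.asIdeal := Ideal.mem_map_of_mem _ ((Q.2.mem_or_mem (hQ hann)).resolve_left hW)
    rw [← e] at ha
    exact (Q'.2.mem_or_mem ha).resolve_right fun hs => Q'.2.ne_top
      (Q'.asIdeal.eq_top_of_isUnit_mem hs (IsLocalization.map_units L s))
  have hmax := (S16234.result L (LocalizedModule n.asIdeal.primeCompl M)).2 hfl Q' hQ'
  refine hne ?_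
  have hc : (Q.asIdeal.map (algebraMap C L)).comap (algebraMap C L) = Q.asIdeal :=
    IsLocalization.under_map_of_isPrime_disjoint _ L Q.2 hd
  rw [← hc, show Q.asIdeal.map (algebraMap C L) = IsLocalRing.maximalIdeal L from IsLocalRing.eq_maximalIdeal hmax,
    show (IsLocalRing.maximalIdeal L).comap (algebraMap C L) = n.asIdeal from
      IsLocalization.AtPrime.comap_maximalIdeal L n.asIdeal]
  exact hm

variable {X Y : Scheme.{u}}

/-- The length over the base of a module along a finite morphism. -/
theorem length_eq_sum_fibre (p : X ⟶ Y) {W : Y.Opens} (hW : IsAffineOpen W) (hU : IsAffineOpen (p ⁻¹ᵁ W))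
    (hWfin : (p.app W).hom.Finite) [IsNoetherianRing Γ(Y, W)] {y : Y} (hyW : y ∈ W)
    (M : Type u) [AddCommGroup M] [Module Γ(X, p ⁻¹ᵁ W) M] [Module.Finite Γ(X, p ⁻¹ᵁ W) M] [Module Γ(Y, W) M]
    (hM : ∀ (r : Γ(Y, W)) (m : M), r • m = p.app W r • m) (g : X → ℕ∞)
    (hg : ∀ (x : X) (hx : x ∈ p ⁻¹ᵁ W), p x = y →
      Module.length (Localization.AtPrime (hU.primeIdealOf ⟨x, hx⟩).asIdeal)
        (LocalizedModule (hU.primeIdealOf ⟨x, hx⟩).asIdeal.primeCompl M) = g x)
    (hfl : ∀ x, p x = y → g x ≠ ⊤) :
    (p ⁻¹' {y}).Finite ∧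
      Module.length (Localization.AtPrime (hW.primeIdealOf ⟨y, hyW⟩).asIdeal)
        (LocalizedModule (hW.primeIdealOf ⟨y, hyW⟩).asIdeal.primeCompl M) =
      ∑ᶠ x ∈ p ⁻¹' {y}, (p.residueDegree x : ℕ∞) * g x := by
  classical
  let R := Γ(Y, W)
  let B := Γ(X, p ⁻¹ᵁ W)
  letI : Algebra R B := (p.app W).hom.toAlgebra
  haveI : Module.Finite R B := hWfin
  haveI : IsScalarTower R B M := IsScalarTower.of_algebraMap_smul fun r m => (hM r m).symm
  let Py : PrimeSpectrum R := hW.primeIdealOf ⟨y, hyW⟩
  let P : Ideal R := Py.asIdeal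
  let M' := Algebra.algebraMapSubmonoid B P.primeCompl
  let A := Localization.AtPrime P
  let C := Localization M'
  letI : Algebra A C := localizationAlgebra P.primeCompl B
  haveI : IsScalarTower R A C := IsScalarTower.of_algebraMap_eq' (IsLocalization.map_comp _).symm
  haveI : Module.Finite A C := Module.Finite.of_isLocalization R B P.primeCompl
  haveI : IsNoetherianRing A := IsLocalization.isNoetherianRing P.primeCompl A inferInstance
  haveI : IsNoetherianRing C := IsNoetherianRing.of_finite A C
  let MC := LocalizedModule M' M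
  haveI : Module.Finite C MC := Module.Finite.of_isLocalizedModule M' (LocalizedModule.mkLinearMap M' M)
  letI : Module A MC := Module.compHom MC (algebraMap A C)
  haveI : IsScalarTower A C MC := IsScalarTower.of_algebraMap_smul fun _ _ => rfl
  haveI : IsScalarTower R A MC := IsScalarTower.of_algebraMap_smul fun r z => by
    show algebraMap A C (algebraMap R A r) • z = r • z
    rw [← IsScalarTower.algebraMap_apply, IsScalarTower.algebraMap_apply R B C, algebraMap_smul, algebraMap_smul]
  have hyloc := hW.isLocalization_stalk ⟨y, hyW⟩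
  letI algy : Algebra R (Y.presheaf.stalk y) := (Y.presheaf.germ W y hyW).hom.toAlgebra
  haveI : IsLocalization.AtPrime (Y.presheaf.stalk y) P := hyloc
  -- the points over `y`
  have hover : ∀ n : MaximalSpectrum C, (n.asIdeal.comap (algebraMap B C)).comap (algebraMap R B) = P := fun n => by
    haveI := n.isMaximal
    have h1 : n.asIdeal.comap (algebraMap A C) = IsLocalRing.maximalIdeal A :=
      IsLocalRing.eq_maximalIdeal (Ideal.isMaximal_comap_of_isIntegral_of_isMaximal n.asIdeal)
    rw [Ideal.comap_comap, ← IsScalarTower.algebraMap_eq, IsScalarTower.algebraMap_eq R A C, ← Ideal.comap_comap, h1]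
    exact IsLocalization.AtPrime.under_maximalIdeal A P
  let pt : MaximalSpectrum C → X := fun n =>
    hU.fromSpec ⟨n.asIdeal.comap (algebraMap B C), (n.isMaximal.isPrime).comap _⟩
  have hpt : ∀ n, p (pt n) = y := fun n => by
    have h1 : p (pt n) = hW.fromSpec (PrimeSpectrum.comap (p.app W).hom ⟨n.asIdeal.comap (algebraMap B C), (n.isMaximal.isPrime).comap _⟩) := by
      have h2 : Spec.map (p.app W) ≫ hW.fromSpec = hU.fromSpec ≫ p := by
        rw [← hW.SpecMap_appLE_fromSpec p hU le_rfl, Scheme.Hom.app_eq_appLE]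
      rw [← Scheme.Hom.comp_apply, ← h2, Scheme.Hom.comp_apply]
      rfl
    rw [h1, show PrimeSpectrum.comap (p.app W).hom ⟨n.asIdeal.comap (algebraMap B C), (n.isMaximal.isPrime).comap _⟩ = Py from
      PrimeSpectrum.ext (hover n)]
    exact hW.fromSpec_primeIdealOf ⟨y, hyW⟩
  have hptinj : Function.Injective pt := fun n n' e => by
    have := congrArg PrimeSpectrum.asIdeal (hU.fromSpec.isEmbedding.injective e)
    exact MaximalSpectrum.ext (by
      rw [← IsLocalization.map_comap M' C n.asIdeal, ← IsLocalization.map_comap M' C n'.asIdeal]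
      exact congrArg _ this)
  have hptsurj : ∀ x, p x = y → ∃ n, pt n = x := fun x hx => by
    have hxU : x ∈ p ⁻¹ᵁ W := by show p x ∈ W; rw [hx]; exact hyW
    let Qx : PrimeSpectrum B := hU.primeIdealOf ⟨x, hxU⟩
    have hQP : Qx.asIdeal.comap (algebraMap R B) = P := by
      have h2 : Spec.map (p.app W) ≫ hW.fromSpec = hU.fromSpec ≫ p := by
        rw [← hW.SpecMap_appLE_fromSpec p hU le_rfl, Scheme.Hom.app_eq_appLE]
      have h3 : hW.fromSpec (PrimeSpectrum.comap (p.app W).hom Qx) = y := by
        have := congrArg (fun φ : Spec Γ(X, p ⁻¹ᵁ W) ⟶ Y => φ Qx) h2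
        simp only [Scheme.Hom.comp_apply] at this
        rw [hU.fromSpec_primeIdealOf ⟨x, hxU⟩] at this
        exact this.trans hx
      exact congrArg PrimeSpectrum.asIdeal
        (hW.fromSpec.isEmbedding.injective (h3.trans (hW.fromSpec_primeIdealOf ⟨y, hyW⟩).symm))
    have hdisj : Disjoint (M' : Set B) Qx.asIdeal := by
      rw [Set.disjoint_left]
      rintro _ ⟨r, hr, rfl⟩ hmem
      exact hr (hQP ▸ hmem)
    have hprime : (Qx.asIdeal.map (algebraMap B C)).IsPrime := IsLocalization.isPrime_of_isPrime_disjoint M' C _ Qx.2 hdisj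
    have hcm : (Qx.asIdeal.map (algebraMap B C)).comap (algebraMap B C) = Qx.asIdeal :=
      IsLocalization.under_map_of_isPrime_disjoint M' C Qx.2 hdisj
    have hmax : (Qx.asIdeal.map (algebraMap B C)).IsMaximal := by
      haveI := hprime
      have h4 : (Qx.asIdeal.map (algebraMap B C)).comap (algebraMap A C) = IsLocalRing.maximalIdeal A := by
        have h5 : ((Qx.asIdeal.map (algebraMap B C)).comap (algebraMap A C)).comap (algebraMap R A) = P := by
          rw [Ideal.comap_comap, ← IsScalarTower.algebraMap_eq, IsScalarTower.algebraMap_eq R B C, ← Ideal.comap_comap, hcm, hQP]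
        rw [← IsLocalization.map_comap P.primeCompl A ((Qx.asIdeal.map (algebraMap B C)).comap (algebraMap A C)), Ideal.under_def, h5,
          IsLocalization.AtPrime.map_eq_maximalIdeal P A]
      haveI : ((Qx.asIdeal.map (algebraMap B C)).comap (algebraMap A C)).IsMaximal :=
        h4 ▸ IsLocalRing.maximalIdeal.isMaximal A
      exact Ideal.isMaximal_of_isIntegral_of_isMaximal_comap _ ‹_›
    exact ⟨⟨_, hmax⟩, (congrArg (fun Q => hU.fromSpec Q) (PrimeSpectrum.ext hcm :
      (⟨(Qx.asIdeal.map (algebraMap B C)).comap (algebraMap B C), hprime.comap _⟩ : PrimeSpectrum B) = Qx)).trans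
        (hU.fromSpec_primeIdealOf ⟨x, hxU⟩)⟩
  haveI hfinMax : Finite (MaximalSpectrum C) := by
    haveI : Finite ((IsLocalRing.maximalIdeal A).map (algebraMap A C)).minimalPrimes :=
      (Ideal.finite_minimalPrimes_of_isNoetherianRing C _).to_subtype
    have hover' : ∀ n : MaximalSpectrum C, n.asIdeal.comap (algebraMap A C) = IsLocalRing.maximalIdeal A := fun n => by
      haveI := n.isMaximal
      exact IsLocalRing.eq_maximalIdeal (Ideal.isMaximal_comap_of_isIntegral_of_isMaximal n.asIdeal)
    refine Finite.of_injective (β := ((IsLocalRing.maximalIdeal A).map (algebraMap A C)).minimalPrimes)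
      (fun n => ⟨n.asIdeal, ⟨⟨n.isMaximal.isPrime, Ideal.map_le_iff_le_comap.2 (hover' n).ge⟩, fun R₁ hR hRn => ?_⟩⟩)
      fun n n' e => MaximalSpectrum.ext (congrArg (fun R₁ : ((IsLocalRing.maximalIdeal A).map (algebraMap A C)).minimalPrimes => R₁.1) e)
    haveI := hR.1
    have hR' : R₁.comap (algebraMap A C) = IsLocalRing.maximalIdeal A :=
      ((IsLocalRing.maximalIdeal.isMaximal A).eq_of_le (Ideal.IsPrime.ne_top inferInstance) (Ideal.map_le_iff_le_comap.1 hR.2)).symm
    haveI : (R₁.comap (algebraMap A C)).IsMaximal := hR' ▸ IsLocalRing.maximalIdeal.isMaximal A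
    exact ((Ideal.isMaximal_of_isIntegral_of_isMaximal_comap R₁ ‹_›).eq_of_le n.isMaximal.ne_top hRn).ge
  have hset : p ⁻¹' {y} = Set.range pt := Set.ext fun x => ⟨fun h => hptsurj x h, fun ⟨n, hn⟩ => hn ▸ hpt n⟩
  refine ⟨hset ▸ Set.finite_range pt, ?_⟩
  have hxU : ∀ n, pt n ∈ p ⁻¹ᵁ W := fun n => by show p (pt n) ∈ W; rw [hpt n]; exact hyW
  have key : ∀ n : MaximalSpectrum C,
      Module.length (Localization.AtPrime n.asIdeal) (LocalizedModule n.asIdeal.primeCompl MC) = g (pt n) ∧
      Module.finrank (A ⧸ n.asIdeal.comap (algebraMap A C)) (C ⧸ n.asIdeal) = p.residueDegree (pt n) ∧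
      Module.Finite (A ⧸ n.asIdeal.comap (algebraMap A C)) (C ⧸ n.asIdeal) := fun n => by
    have hxy := hpt n
    have hxU := hxU n
    -- the local ring at the point
    let ψ : C →+* X.presheaf.stalk (pt n) := IsLocalization.lift (M := M')
      (g := (X.presheaf.germ (p ⁻¹ᵁ W) (pt n) hxU).hom) fun ⟨_, r, hr, e⟩ => by
        subst e
        show IsUnit (X.presheaf.germ (p ⁻¹ᵁ W) (pt n) hxU (p.app W r))
        rw [← Scheme.Hom.germ_stalkMap_apply p W (pt n) hxU]
        refine IsUnit.map (p.stalkMap (pt n)).hom ?_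
        have : ∀ (a : Y) (ha : a ∈ W), a = y → IsUnit (Y.presheaf.germ W a ha r) := by
          intro a ha e
          subst e
          exact IsLocalization.map_units (Y.presheaf.stalk a) (⟨r, hr⟩ : P.primeCompl)
        exact this _ hxU hxy
    letI : Algebra C (X.presheaf.stalk (pt n)) := ψ.toAlgebra
    letI : Algebra B (X.presheaf.stalk (pt n)) := (X.presheaf.germ (p ⁻¹ᵁ W) (pt n) hxU).hom.toAlgebra
    have hψ : ∀ z, ψ (algebraMap B C z) = algebraMap B (X.presheaf.stalk (pt n)) z := fun z => IsLocalization.lift_eq _ z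
    haveI : IsScalarTower B C (X.presheaf.stalk (pt n)) := IsScalarTower.of_algebraMap_eq fun z => (hψ z).symm
    haveI := n.isMaximal
    have hQ : (hU.primeIdealOf ⟨pt n, hxU⟩).asIdeal = n.asIdeal.comap (algebraMap B C) :=
      congrArg PrimeSpectrum.asIdeal (hU.fromSpec.isEmbedding.injective (hU.fromSpec_primeIdealOf ⟨pt n, hxU⟩) :
        hU.primeIdealOf ⟨pt n, hxU⟩ = ⟨n.asIdeal.comap (algebraMap B C), (n.isMaximal.isPrime).comap _⟩)
    haveI : IsLocalization.AtPrime (X.presheaf.stalk (pt n)) (n.asIdeal.comap (algebraMap B C)) := by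
      have h := hU.isLocalization_stalk ⟨pt n, hxU⟩
      have e : (hU.primeIdealOf ⟨pt n, hxU⟩).asIdeal.primeCompl = (n.asIdeal.comap (algebraMap B C)).primeCompl := by
        ext t
        simp only [Ideal.primeCompl, Submonoid.mem_mk, Subsemigroup.mem_mk, Set.mem_compl_iff, SetLike.mem_coe, hQ]
      show IsLocalization (n.asIdeal.comap (algebraMap B C)).primeCompl _
      rw [← e]
      exact h
    haveI : IsLocalization.AtPrime (X.presheaf.stalk (pt n)) n.asIdeal := by
      have hle : M' ≤ (n.asIdeal.comap (algebraMap B C)).primeCompl := fun m hm hmn =>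
        n.isMaximal.ne_top (n.asIdeal.eq_top_of_isUnit_mem hmn (IsLocalization.map_units C (⟨m, hm⟩ : M')))
      haveI := IsLocalization.isLocalization_of_submonoid_le C (X.presheaf.stalk (pt n)) M' _ hle
      refine IsLocalization.isLocalization_of_is_exists_mul_mem (X.presheaf.stalk (pt n))
        ((n.asIdeal.comap (algebraMap B C)).primeCompl.map (algebraMap B C)) _ ?_ fun z => ?_
      · rintro _ ⟨a, ha, rfl⟩
        exact ha
      · obtain ⟨⟨a, s⟩, hs⟩ := IsLocalization.surj M' z.1
        refine ⟨algebraMap B C s, a, fun ha => ?_, by rw [mul_comm]; exact hs.symm⟩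
        refine z.2 ((n.isMaximal.isPrime.mem_or_mem (show z.1 * algebraMap B C s ∈ n.asIdeal from hs ▸ ha)).resolve_right ?_)
        exact fun h => n.isMaximal.ne_top (n.asIdeal.eq_top_of_isUnit_mem h (IsLocalization.map_units C s))
    refine ⟨?_, ?_, Module.Finite.of_restrictScalars_finite A _ _⟩
    · rw [← hg _ hxU hxy]
      haveI := hU.isLocalization_stalk ⟨pt n, hxU⟩
      let N := TensorProduct B (X.presheaf.stalk (pt n)) M
      let ψ₁ : M →ₗ[B] N := TensorProduct.mk B (X.presheaf.stalk (pt n)) M 1
      have h₁ : IsBaseChange (X.presheaf.stalk (pt n)) ψ₁ := TensorProduct.isBaseChange B M _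
      have h₂ : IsBaseChange C (LocalizedModule.mkLinearMap M' M) := IsLocalizedModule.isBaseChange M' C _
      let ψ₂ : MC →ₗ[C] N := h₂.lift ψ₁
      have h₃ : IsBaseChange (X.presheaf.stalk (pt n)) ψ₂ := IsBaseChange.of_comp h₂ (by rw [h₂.lift_comp]; exact h₁)
      exact (length_localized_of_isBaseChange n.asIdeal h₃).trans
        (length_localized_of_isBaseChange (hU.primeIdealOf ⟨pt n, hxU⟩).asIdeal h₁).symm
    · letI := (p.residueFieldMap (pt n)).hom.toAlgebra
      show _ = Module.finrank (Y.residueField (p (pt n))) (X.residueField (pt n))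
      let χ : C →+* X.residueField (pt n) := (X.residue (pt n)).hom.comp ψ
      have hker : RingHom.ker χ = n.asIdeal := by
        ext z
        rw [RingHom.mem_ker]
        show X.residue (pt n) (ψ z) = 0 ↔ _
        rw [show X.residue (pt n) (ψ z) = 0 ↔ ψ z ∈ IsLocalRing.maximalIdeal _ from IsLocalRing.residue_eq_zero_iff _,
          show ψ z = algebraMap C (X.presheaf.stalk (pt n)) z from rfl,
          IsLocalization.AtPrime.to_map_mem_maximal_iff (X.presheaf.stalk (pt n)) n.asIdeal z]
      have hsurj : Function.Surjective χ := fun z => by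
        obtain ⟨ζ, rfl⟩ := X.residue_surjective _ z
        obtain ⟨a, s, rfl⟩ := IsLocalization.exists_mk'_eq n.asIdeal.primeCompl ζ
        obtain ⟨i, j, hj, e⟩ := n.isMaximal.exists_inv s.2
        refine ⟨a * i, ?_⟩
        show X.residue (pt n) (ψ (a * i)) = _
        have h1 : χ (s : C) * χ i = 1 := by
          rw [← map_mul, mul_comm]
          have := congrArg χ e
          rwa [map_add, map_one, show χ j = 0 from RingHom.mem_ker.1 (hker ▸ hj), add_zero] at this
        have h2 : X.residue (pt n) (IsLocalization.mk' (X.presheaf.stalk (pt n)) a s) * χ (s : C) = χ a := by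
          show _ * X.residue (pt n) (algebraMap C _ (s : C)) = X.residue (pt n) (algebraMap C _ a)
          rw [← map_mul, IsLocalization.mk'_spec]
        calc χ (a * i) = χ a * χ i := map_mul _ _ _
          _ = _ := by rw [← h2, mul_assoc, h1, mul_one]
      let eC : (C ⧸ n.asIdeal) ≃+* X.residueField (pt n) :=
        (Ideal.quotEquivOfEq hker.symm).trans (RingHom.quotientKerEquivOfSurjective hsurj)
      let χA : A →+* Y.residueField (p (pt n)) := IsLocalization.lift (M := P.primeCompl)
        (g := (Y.residue (p (pt n))).hom.comp (Y.presheaf.germ W (p (pt n)) hxU).hom) fun s => by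
          have : ∀ (a : Y) (ha : a ∈ W), a = y → IsUnit (Y.residue a (Y.presheaf.germ W a ha (s : R))) := by
            intro a ha e
            subst e
            exact (IsLocalization.map_units (Y.presheaf.stalk a) s).map (Y.residue a).hom
          exact this _ hxU hxy
      have hAsurj : Function.Surjective χA := fun z => by
        obtain ⟨ζ, rfl⟩ := Y.residue_surjective _ z
        have : ∀ (a : Y) (ha : a ∈ W), a = y → ∀ ζ : Y.presheaf.stalk a, ∃ (r : R) (s : P.primeCompl),
            ζ * Y.presheaf.germ W a ha (s : R) = Y.presheaf.germ W a ha r := by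
          intro a ha e w
          subst e
          obtain ⟨⟨r, s⟩, hrs⟩ := IsLocalization.surj P.primeCompl w
          exact ⟨r, s, hrs⟩
        obtain ⟨r, s, hrs⟩ := this _ hxU hxy ζ
        refine ⟨IsLocalization.mk' A r s, ?_⟩
        rw [IsLocalization.lift_mk'_spec]
        show (Y.residue _).hom (Y.presheaf.germ W _ hxU r) = _ * (Y.residue _).hom ζ
        rw [← hrs, map_mul, mul_comm]
        rfl
      have hAker : RingHom.ker χA = n.asIdeal.comap (algebraMap A C) := by
        have hmA : n.asIdeal.comap (algebraMap A C) = IsLocalRing.maximalIdeal A :=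
          IsLocalRing.eq_maximalIdeal (Ideal.isMaximal_comap_of_isIntegral_of_isMaximal n.asIdeal)
        rw [hmA]
        exact IsLocalRing.eq_maximalIdeal (RingHom.ker_isMaximal_of_surjective _ hAsurj)
      let eA' : (A ⧸ n.asIdeal.comap (algebraMap A C)) ≃+* Y.residueField (p (pt n)) :=
        (Ideal.quotEquivOfEq hAker.symm).trans (RingHom.quotientKerEquivOfSurjective hAsurj)
      refine Algebra.finrank_eq_of_equiv_equiv eA' eC ?_
      refine Ideal.Quotient.ringHom_ext (IsLocalization.ringHom_ext P.primeCompl (RingHom.ext fun r => ?_))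
      show p.residueFieldMap (pt n) (χA (algebraMap R A r)) = χ (algebraMap A C (algebraMap R A r))
      rw [IsLocalization.lift_eq, ← IsScalarTower.algebraMap_apply R A C, IsScalarTower.algebraMap_apply R B C]
      show p.residueFieldMap (pt n) (Y.residue _ (Y.presheaf.germ W _ hxU r)) = X.residue (pt n) (ψ (algebraMap B C (p.app W r)))
      rw [hψ, residueFieldMap_residue, Scheme.Hom.germ_stalkMap_apply]
      rfl
  have hMC : IsFiniteLength C MC := isFiniteLength_of_localized fun n => by rw [(key n).1]; exact hfl _ (hpt n)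
  have hsum := S6320.result (A := A) (fun n => by
    haveI := n.isMaximal
    exact IsLocalRing.eq_maximalIdeal (Ideal.isMaximal_comap_of_isIntegral_of_isMaximal n.asIdeal))
    (fun n => (key n).2.2) MC hMC
  rw [finsum_congr fun n => by rw [(key n).1, (key n).2.1]] at hsum
  rw [hset, finsum_mem_range hptinj, ← hsum]
  haveI := IsLocalizedModule.restrictScalars P.primeCompl (LocalizedModule.mkLinearMap M' M) (R := R)
  exact length_localized_of_isBaseChange P
    (IsLocalizedModule.isBaseChange P.primeCompl A ((LocalizedModule.mkLinearMap M' M).restrictScalars R))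

open scoped TensorProduct

/-- The square of affine charts of a morphism. -/
theorem isPullback_fromSpec (p : X ⟶ Y) {W : Y.Opens} (hW : IsAffineOpen W) (hU : IsAffineOpen (p ⁻¹ᵁ W)) :
    IsPullback hU.fromSpec (Spec.map (p.app W)) p hW.fromSpec := by
  have h : hU.fromSpec ≫ p = Spec.map (p.app W) ≫ hW.fromSpec := by
    rw [← hW.SpecMap_appLE_fromSpec p hU le_rfl, Scheme.Hom.app_eq_appLE]
  refine IsPullback.of_iso (isPullback_morphismRestrict p W).flip hU.isoSpec (Iso.refl _) hW.isoSpec (Iso.refl _)
    ?_ ?_ (by simp) ?_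
  · rw [Iso.refl_hom, Category.comp_id, IsAffineOpen.isoSpec_hom_fromSpec]
  · rw [← cancel_mono hW.fromSpec, Category.assoc, Category.assoc, ← h, IsAffineOpen.isoSpec_hom_fromSpec]
    rw [IsAffineOpen.fromSpec, ← Category.assoc hU.isoSpec.hom]
    simp
  · rw [Iso.refl_hom, Category.comp_id, IsAffineOpen.isoSpec_hom_fromSpec]

/-- The length of a fibre ring over the base is the rank. -/
theorem length_localized_fibre {R B : Type u} [CommRing R] [CommRing B] [Algebra R B] [Module.Flat R B]
    [Module.Finite R B] (P : PrimeSpectrum R) :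
    Module.length (Localization.AtPrime P.asIdeal)
      (LocalizedModule P.asIdeal.primeCompl (B ⧸ P.asIdeal.map (algebraMap R B))) =
      Module.rankAtStalk B P := by
  let L := Localization.AtPrime P.asIdeal
  let e1 : (B ⧸ P.asIdeal.map (algebraMap R B)) ≃ₗ[R] (R ⧸ P.asIdeal) ⊗[R] B :=
    ((Algebra.TensorProduct.quotIdealMapEquivTensorQuot B P.asIdeal).toLinearEquiv.restrictScalars R) ≪≫ₗ
      TensorProduct.comm R _ _
  have hb : IsBaseChange L (LocalizedModule.mkLinearMap P.asIdeal.primeCompl (B ⧸ P.asIdeal.map (algebraMap R B))) :=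
    IsLocalizedModule.isBaseChange P.asIdeal.primeCompl L _
  let e2 : L ⊗[R] (R ⧸ P.asIdeal) ≃ₗ[L] P.asIdeal.ResidueField :=
    (Algebra.TensorProduct.quotIdealMapEquivTensorQuot L P.asIdeal).toLinearEquiv.symm ≪≫ₗ
      (Ideal.quotientEquivAlgOfEq L (IsLocalization.AtPrime.map_eq_maximalIdeal P.asIdeal L)).toLinearEquiv
  let e : L ⊗[R] (B ⧸ P.asIdeal.map (algebraMap R B)) ≃ₗ[L] P.asIdeal.ResidueField ⊗[R] B :=
    TensorProduct.AlgebraTensorModule.congr (LinearEquiv.refl L L) e1 ≪≫ₗ
      (TensorProduct.AlgebraTensorModule.assoc R R L L (R ⧸ P.asIdeal) B).symm ≪≫ₗ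
      TensorProduct.AlgebraTensorModule.congr e2 (LinearEquiv.refl R B)
  rw [← hb.equiv.length_eq, e.length_eq, Module.length_eq_of_surjective (R := P.asIdeal.ResidueField)
    (IsLocalRing.residue_surjective (R := L)), Module.length_eq_finrank, Module.rankAtStalk_eq P]

end Groth.Agent.CycLib
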