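import Groth.Agent.CycLib.FinPush
import Groth.Agent.CycLib.Shift
import Groth.Agent.CycLib.DegZero
import Groth.Agent.QCohLib.Push
import Groth.Agent.ClSubLib.Annihilator
import Mathlib.AlgebraicGeometry.ZariskisMainTheorem

/-! # Lengths of stalks of finite direct images -/

set_option autoImplicit false
set_option backward.isDefEq.respectTransparency false
set_option linter.style.haveILetI false

universe u

open CategoryTheory AlgebraicGeometry TopologicalSpace

noncomputable section

namespace Groth.Agent.CycLib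

variable {X Y : Scheme.{u}}

/-- A fibre of a quasi-compact morphism of finite type all of whose points are maximal is finite. -/
theorem finite_fibre_of_maximal (p : X ⟶ Y) [LocallyOfFiniteType p] [QuasiCompact p] (y : Y)
    (h : ∀ x w : X, p x = y → p w = y → w ⤳ x → w = x) : (p ⁻¹' {y}).Finite := by
  haveI : LocallyOfFiniteType (Y := Spec (CommRingCat.of (Y.residueField y))) (p.fiberToSpecResidueField y) :=
    MorphismProperty.pullback_snd (P := @LocallyOfFiniteType) _ _ inferInstance
  haveI : IsLocallyNoetherian (p.fiber y) := LocallyOfFiniteType.isLocallyNoetherian (p.fiberToSpecResidueField y)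
  haveI : QuasiCompact (p.fiberToSpecResidueField y) := MorphismProperty.pullback_snd (P := @QuasiCompact) _ _ inferInstance
  haveI : CompactSpace (p.fiber y) :=
    QuasiCompact.compactSpace_of_compactSpace (p.fiberToSpecResidueField y)
  haveI : IsNoetherian (p.fiber y) := {}
  have hfin : (irreducibleComponents ↥(p.fiber y)).Finite := NoetherianSpace.finite_irreducibleComponents
  have hmax : ∀ z w : p.fiber y, w ⤳ z → w = z := fun z w hw => (p.fiberι y).isEmbedding.injective
    (h _ _ (p.fiberHomeo y z).2 (p.fiberHomeo y w).2 (hw.map (p.fiberι y).continuous))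
  haveI : Finite (irreducibleComponents ↥(p.fiber y)) := hfin.to_subtype
  haveI : Finite ↥(p.fiber y) := Finite.of_injective
    (fun z => (⟨closure {z}, DimFormulaLib.closure_mem_irreducibleComponents (hmax z)⟩ : irreducibleComponents ↥(p.fiber y)))
    fun z w e => by
      have e' : closure {z} = closure ({w} : Set ↥(p.fiber y)) := congrArg Subtype.val e
      exact hmax w z (specializes_iff_mem_closure.2 (e' ▸ subset_closure rfl))
  rw [← p.range_fiberι y]
  exact Set.finite_range _

/-- The length of the stalk of a finite direct image. -/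
theorem length_stalk_push (p : X ⟶ Y) [IsLocallyNoetherian X] [IsLocallyNoetherian Y] [QuasiCompact p] [QuasiSeparated p]
    {W : Y.Opens} (hW : IsAffineOpen W) (hU : IsAffineOpen (p ⁻¹ᵁ W)) (hWfin : (p.app W).hom.Finite)
    {y : Y} (hyW : y ∈ W) {G : X.Modules} (hG : Coh.IsCoh G)
    (hfl : ∀ x, p x = y → Module.length (X.presheaf.stalk x) (G.presheaf.stalk x) ≠ ⊤) :
    Module.length (Y.presheaf.stalk y) (((Scheme.Modules.pushforward p).obj G).presheaf.stalk y) =
      ∑ᶠ x ∈ p ⁻¹' {y}, (p.residueDegree x : ℕ∞) * Module.length (X.presheaf.stalk x) (G.presheaf.stalk x) := by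
  haveI := hG.1
  haveI : Coh.IsQCoh ((Scheme.Modules.pushforward p).obj G) := QCohLib.isQCoh_pushforward G p
  haveI : IsNoetherianRing Γ(Y, W) := IsLocallyNoetherian.component_noetherian ⟨W, hW⟩
  haveI := QCohLib.finite_sections_of_isCoh hG hU
  letI : Module Γ(Y, W) Γ(G, p ⁻¹ᵁ W) := Module.compHom _ (p.app W).hom
  have hg : ∀ (x : X) (hx : x ∈ p ⁻¹ᵁ W), p x = y →
      Module.length (Localization.AtPrime (hU.primeIdealOf ⟨x, hx⟩).asIdeal)
        (LocalizedModule (hU.primeIdealOf ⟨x, hx⟩).asIdeal.primeCompl Γ(G, p ⁻¹ᵁ W)) =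
      Module.length (X.presheaf.stalk x) (G.presheaf.stalk x) := fun x hx _ => by
    letI : Algebra Γ(X, p ⁻¹ᵁ W) (X.presheaf.stalk x) := TopCat.Presheaf.algebra_section_stalk X.presheaf ⟨x, hx⟩
    letI := Module.compHom (G.presheaf.stalk x) (X.presheaf.germ (p ⁻¹ᵁ W) x hx).hom
    haveI : IsScalarTower Γ(X, p ⁻¹ᵁ W) (X.presheaf.stalk x) (G.presheaf.stalk x) := .of_algebraMap_smul fun _ _ => rfl
    haveI := hU.isLocalization_stalk ⟨x, hx⟩
    haveI := FlatLocus.isLocalizedModule_germL G hU x hx
    exact length_localized_of_isBaseChange _ (IsLocalizedModule.isBaseChange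
      (hU.primeIdealOf ⟨x, hx⟩).asIdeal.primeCompl (X.presheaf.stalk x) (FlatLocus.germL G (p ⁻¹ᵁ W) x hx))
  obtain ⟨-, key⟩ := length_eq_sum_fibre p hW hU hWfin hyW Γ(G, p ⁻¹ᵁ W) (fun _ _ => rfl)
    (fun x => Module.length (X.presheaf.stalk x) (G.presheaf.stalk x)) hg hfl
  rw [← key]
  let N := (Scheme.Modules.pushforward p).obj G
  letI : Algebra Γ(Y, W) (Y.presheaf.stalk y) := TopCat.Presheaf.algebra_section_stalk Y.presheaf ⟨y, hyW⟩
  letI := Module.compHom (N.presheaf.stalk y) (Y.presheaf.germ W y hyW).hom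
  haveI : IsScalarTower Γ(Y, W) (Y.presheaf.stalk y) (N.presheaf.stalk y) := .of_algebraMap_smul fun _ _ => rfl
  haveI := hW.isLocalization_stalk ⟨y, hyW⟩
  haveI := FlatLocus.isLocalizedModule_germL N hW y hyW
  exact (length_localized_of_isBaseChange _ (IsLocalizedModule.isBaseChange
      (hW.primeIdealOf ⟨y, hyW⟩).asIdeal.primeCompl (Y.presheaf.stalk y) (FlatLocus.germL N W y hyW))).symm

/-- The length of the stalk of a direct image along a closed immersion. -/
theorem length_stalk_pushforward_closed (i : X ⟶ Y) [IsClosedImmersion i] (G : X.Modules) (x : X) :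
    Module.length (Y.presheaf.stalk (i x)) (((Scheme.Modules.pushforward i).obj G).presheaf.stalk (i x)) =
      Module.length (X.presheaf.stalk x) (G.presheaf.stalk x) := by
  letI := (i.stalkMap x).hom.toAlgebra
  letI := Module.compHom (G.presheaf.stalk x) (i.stalkMap x).hom
  haveI : IsScalarTower (Y.presheaf.stalk (i x)) (X.presheaf.stalk x) (G.presheaf.stalk x) := .of_algebraMap_smul fun _ _ => rfl
  let e : ((Scheme.Modules.pushforward i).obj G).presheaf.stalk (i x) ≃ₗ[Y.presheaf.stalk (i x)] G.presheaf.stalk x :=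
    LinearEquiv.ofBijective
      { toFun := DCohLib.pushStalk i G x
        map_add' := map_add _
        map_smul' := fun a z => DCohLib.pushStalk_smul i G x a z : ((Scheme.Modules.pushforward i).obj G).presheaf.stalk (i x) →ₗ[Y.presheaf.stalk (i x)] G.presheaf.stalk x } (DCohLib.bijective_pushStalk i G x)
  rw [e.length_eq]
  exact Module.length_eq_of_surjective (i.stalkMap_surjective x)

/-- A finite restriction has finite affine pieces. -/
theorem finite_app_of_restrict (p : X ⟶ Y) {V : Y.Opens} (hV : IsFinite (p ∣_ V)) {W : Y.Opens} (hW : IsAffineOpen W)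
    (hWV : W ≤ V) : IsAffineOpen (p ⁻¹ᵁ W) ∧ (p.app W).hom.Finite := by
  haveI : IsFinite (p ∣_ W) := by
    haveI := hV
    have h : IsFinite ((p ∣_ V) ∣_ (V.ι ⁻¹ᵁ W)) := inferInstance
    have hi : V.ι ''ᵁ V.ι ⁻¹ᵁ W = W := by
      rw [Scheme.Hom.image_preimage_eq_opensRange_inf, Scheme.Opens.opensRange_ι, inf_eq_right.2 hWV]
    exact (MorphismProperty.arrow_mk_iso_iff @IsFinite
      (morphismRestrictRestrict p V (V.ι ⁻¹ᵁ W) ≪≫ morphismRestrictEq p hi)).1 h
  haveI : IsAffine (W : Scheme.{u}) := hW
  have hU : IsAffineOpen (p ⁻¹ᵁ W) := isAffine_of_isAffineHom (p ∣_ W)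
  refine ⟨hU, (IsFinite.SpecMap_iff (p.app W)).1 ?_⟩
  refine (MorphismProperty.arrow_mk_iso_iff @IsFinite ?_).1 (inferInstance : IsFinite (p ∣_ W))
  exact Arrow.isoMk hU.isoSpec hW.isoSpec (by
    show hU.isoSpec.hom ≫ Spec.map (p.app W) = (p ∣_ W) ≫ hW.isoSpec.hom
    rw [← cancel_mono hW.fromSpec, Category.assoc, Category.assoc, ← (isPullback_fromSpec p hW hU).w,
      IsAffineOpen.isoSpec_hom_fromSpec_assoc, IsAffineOpen.isoSpec_hom_fromSpec]
    exact (morphismRestrict_ι p W).symm)

/-- Isomorphic modules have stalks of equal length. -/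
theorem length_stalk_iso {F F' : X.Modules} (e : F ≅ F') (x : X) :
    Module.length (X.presheaf.stalk x) (F.presheaf.stalk x) = Module.length (X.presheaf.stalk x) (F'.presheaf.stalk x) := by
  refine (LinearEquiv.ofLinearMap (PullbackMod.stalkLin e.hom x) (PullbackMod.stalkLin e.inv x) ?_ ?_).length_eq
  · rw [← PullbackMod.stalkLin_comp, e.inv_hom_id, PullbackMod.stalkLin_id]
  · rw [← PullbackMod.stalkLin_comp, e.hom_inv_id, PullbackMod.stalkLin_id]

end Groth.Agent.CycLib
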