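import Groth.Agent.CycLib.P1Rat
import Groth.Agent.CycLib.ClosedPull
import Groth.Agent.S1899
import Groth.Agent.DevLib.Closed
import Groth.Agent.AssLib.Push
import Groth.Agent.AssLib.Structure

/-! # The fibres over `0` and `∞` of a closed subscheme of the projective line -/

set_option autoImplicit false
set_option backward.isDefEq.respectTransparency false
set_option linter.style.haveILetI false

universe u

open CategoryTheory CategoryTheory.Limits AlgebraicGeometry
open scoped TensorProduct

noncomputable section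

namespace Groth.Agent.CycLib.P1Closed

variable {X P Z : Scheme.{u}} (ι : Z ⟶ P) [IsClosedImmersion ι]

/-- The stalk of the structure sheaf of a closed subscheme. -/
theorem exists_stalk_equiv {p : P} (z : Z) (hp : p ⤳ ι z) (hp' : ι z = p) :
    Nonempty (((Coh.push ι).obj (Coh.structureModule Z)).presheaf.stalk p ≃ₗ[P.presheaf.stalk p]
      P.presheaf.stalk p ⧸ (RingHom.ker (ι.stalkMap z).hom).map (P.presheaf.stalkSpecializes hp).hom) := by
  subst hp'
  rw [TopCat.Presheaf.stalkSpecializes_refl, CommRingCat.hom_id, Ideal.map_id]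
  letI : Algebra (P.presheaf.stalk (ι z)) (Z.presheaf.stalk z) := (ι.stalkMap z).hom.toAlgebra
  let u : Z.presheaf.stalk z ≃ₗ[Z.presheaf.stalk z] (Coh.structureModule Z).presheaf.stalk z :=
    LinearEquiv.ofBijective (LinearMap.toSpanSingleton _ _ (ParaFLib.oneG z)) (ParaFLib.bijective_oneG z)
  let e : (((Coh.push ι).obj (Coh.structureModule Z)).presheaf.stalk (ι z)) ≃ₗ[P.presheaf.stalk (ι z)] Z.presheaf.stalk z :=
    LinearEquiv.ofBijective
      { toFun := fun w => u.symm (DCohLib.pushStalk ι (Coh.structureModule Z) z w)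
        map_add' := fun a b => by rw [map_add, map_add]
        map_smul' := fun r w => by
          rw [DCohLib.pushStalk_smul, map_smul]
          rfl }
      (u.symm.bijective.comp (DCohLib.bijective_pushStalk ι _ z))
  exact ⟨e ≪≫ₗ ((Algebra.linearMap (P.presheaf.stalk (ι z)) (Z.presheaf.stalk z)).quotKerEquivOfSurjective
    (ι.stalkMap_surjective z)).symm ≪≫ₗ Submodule.quotEquivOfEq _ _ rfl⟩

variable (s : X ⟶ P) [IsClosedImmersion s]

/-- The lengths of the stalks of the two models of the base change agree. -/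
theorem length_stalk_pull [IsLocallyNoetherian P] (x : X) :
    Module.length (X.presheaf.stalk x)
        (((Scheme.Modules.pullback s).obj ((Coh.push ι).obj (Coh.structureModule Z))).presheaf.stalk x) =
      Module.length (X.presheaf.stalk x)
        (((Coh.push (pullback.snd ι s)).obj (Coh.structureModule (pullback ι s))).presheaf.stalk x) := by
  haveI := (DevLib.isCoh_pushforward_closed ι (DevLib.isCoh_structureModule Z)).1
  letI := (s.stalkMap x).hom.toAlgebra
  obtain ⟨φ, -⟩ := PullbackMod.exists_pullback_stalk_equiv s ((Coh.push ι).obj (Coh.structureModule Z)) x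
  rw [← φ.length_eq]
  by_cases hr : x ∈ Set.range (pullback.snd ι s)
  swap
  · haveI : Subsingleton (((Coh.push (pullback.snd ι s)).obj (Coh.structureModule (pullback ι s))).presheaf.stalk x) :=
      DCohLib.subsingleton_stalk_pushforward _ _ x hr
    haveI : Subsingleton (((Coh.push ι).obj (Coh.structureModule Z)).presheaf.stalk (s x)) :=
      DCohLib.subsingleton_stalk_pushforward ι _ _ fun ⟨z, hz⟩ => hr (by
        rw [Scheme.Pullback.range_snd]; exact ⟨z, hz⟩)
    rw [Module.length_eq_zero, Module.length_eq_zero]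
  obtain ⟨z, rfl⟩ := hr
  have hc : ι (pullback.fst ι s z) = s (pullback.snd ι s z) := congr($(pullback.condition (f := ι) (g := s)) z)
  have he : s (pullback.snd ι s z) ⤳ ι (pullback.fst ι s z) := specializes_of_eq hc.symm
  obtain ⟨e₁⟩ := exists_stalk_equiv ι (pullback.fst ι s z) he hc
  obtain ⟨e₂⟩ := exists_stalk_equiv (pullback.snd ι s) z specializes_rfl rfl
  rw [e₂.length_eq]
  let t := TensorProduct.AlgebraTensorModule.congr (LinearEquiv.refl (X.presheaf.stalk (pullback.snd ι s z))
    (X.presheaf.stalk (pullback.snd ι s z))) e₁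
  rw [t.length_eq, ← (Algebra.TensorProduct.quotIdealMapEquivTensorQuot (X.presheaf.stalk (pullback.snd ι s z))
    ((RingHom.ker (ι.stalkMap (pullback.fst ι s z)).hom).map (P.presheaf.stalkSpecializes he).hom)).toLinearEquiv.length_eq]
  refine (Submodule.quotEquivOfEq _ _ ?_).length_eq
  rw [TopCat.Presheaf.stalkSpecializes_refl, CommRingCat.hom_id, Ideal.map_id, ker_stalkMap_snd s ι z he, Ideal.map_map]
  rfl

variable {δ : X → ℤ} {δP : P → ℤ}

theorem subschemeFun_snd [IsLocallyNoetherian P] (hX : Cyc.IsSetup X δ) {k : ℤ}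
    (h : ∀ z : ↥(pullback ι s), δ (pullback.snd ι s z) ≤ k) :
    Cyc.subschemeFun δ k (pullback.snd ι s) =
      Cyc.sheafFun δ k ((Scheme.Modules.pullback s).obj ((Coh.push ι).obj (Coh.structureModule Z))) := by
  rw [S1899.result X _ δ hX (pullback.snd ι s) k h]
  funext x
  rw [Cyc.sheafFun, Cyc.sheafFun, length_stalk_pull ι s x]

/-- The associated points of the structure sheaf of a closed subscheme. -/
theorem isAssPoint_push [IsLocallyNoetherian P] {p : P} (h : Curv2.IsAssPoint ((Coh.push ι).obj (Coh.structureModule Z)) p) :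
    ∃ z, ι z = p ∧ IsAssociatedPrime (IsLocalRing.maximalIdeal (Z.presheaf.stalk z)) (Z.presheaf.stalk z) := by
  haveI := LocallyOfFiniteType.isLocallyNoetherian ι
  haveI := (DevLib.isCoh_structureModule Z).1
  haveI := (DevLib.isCoh_pushforward_closed ι (DevLib.isCoh_structureModule Z)).1
  obtain ⟨z, hz, hz'⟩ := AssLib.exists_isWeakAssPoint_of_push ι (Coh.structureModule Z)
    ((AssLib.isWeakAssPoint_iff_isAssPoint _ p).2 h)
  exact ⟨z, hz, (AssLib.isAssPoint_structureModule_iff z).1 ((AssLib.isWeakAssPoint_iff_isAssPoint _ z).1 hz')⟩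

/-- The fibres over `0` and `∞` of a closed subscheme of the projective line are rationally equivalent. -/
theorem ratEquiv_closed {X : Scheme.{u}} {δ : X → ℤ} {δP : ↥(CohB1.ProjSpaceOver 1 X) → ℤ} (hX : Cyc.IsSetup X δ)
    (hP : Cyc.DeltaCompat (CohB1.ProjSpaceOver.toBase 1 X) δP δ) {k : ℤ} {Z : Scheme.{u}}
    (ι : Z ⟶ CohB1.ProjSpaceOver 1 X) [IsClosedImmersion ι] (hZ : ∀ z : Z, δP (ι z) ≤ k + 1)
    (hZ0 : ∀ z : Z, ι z ∈ Set.range ⇑(P1.sect X 0) ∪ Set.range ⇑(P1.sect X 1) → δP (ι z) ≤ k)
    (hemb : ∀ z : Z, IsAssociatedPrime (IsLocalRing.maximalIdeal (Z.presheaf.stalk z)) (Z.presheaf.stalk z) →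
      ι z ∉ Set.range ⇑(P1.sect X 0) ∪ Set.range ⇑(P1.sect X 1) ∨ δP (ι z) < k)
    (α β : AlgebraicCycle X ℤ) (hα : ⇑α = Cyc.subschemeFun δ k (pullback.snd ι (P1.sect X 0)))
    (hβ : ⇑β = Cyc.subschemeFun δ k (pullback.snd ι (P1.sect X 1))) : Cyc.RatEquiv δ k α β := by
  haveI := hX.1
  haveI : IsProper (CohB1.ProjSpaceOver.toBase 1 X) := MorphismProperty.pullback_snd _ _ inferInstance
  haveI := LocallyOfFiniteType.isLocallyNoetherian (CohB1.ProjSpaceOver.toBase 1 X)
  have h : ∀ (j : Fin (1 + 1)) (z : ↥(pullback ι (P1.sect X j))), δ (pullback.snd ι (P1.sect X j) z) ≤ k := fun j z => by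
    have hc : ι (pullback.fst ι (P1.sect X j) z) = P1.sect X j (pullback.snd ι (P1.sect X j) z) :=
      congr($(pullback.condition (f := ι) (g := P1.sect X j)) z)
    rw [← (P1Rat.delta_sect hP j _).1, ← hc]
    refine hZ0 _ ?_
    fin_cases j
    · exact Or.inl ⟨_, hc.symm⟩
    · exact Or.inr ⟨_, hc.symm⟩
  refine P1Rat.ratEquiv_sect hX hP (DevLib.isCoh_pushforward_closed ι (DevLib.isCoh_structureModule Z)) (fun p hp => ?_)
    (fun p hp => ?_) α β (hα.trans (subschemeFun_snd ι _ hX (h 0))) (hβ.trans (subschemeFun_snd ι _ hX (h 1)))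
  · by_cases hr : p ∈ Set.range ι
    · obtain ⟨z, rfl⟩ := hr; exact hZ z
    · haveI := DCohLib.subsingleton_stalk_pushforward ι (Coh.structureModule Z) p hr
      exact (not_subsingleton _ ‹_›).elim
  · obtain ⟨z, rfl, hz⟩ := isAssPoint_push ι hp
    exact hemb z hz

end Groth.Agent.CycLib.P1Closed
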