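import Groth.Agent.CycLib.P1Closed

/-! # The cycle of the base change of a closed subscheme -/

set_option autoImplicit false
set_option backward.isDefEq.respectTransparency false
set_option linter.style.haveILetI false

universe u

open CategoryTheory CategoryTheory.Limits AlgebraicGeometry
open scoped TensorProduct

noncomputable section

namespace Groth.Agent.CycLib.SubFun

open P1Closed (exists_stalk_equiv)

variable {X P Z : Scheme.{u}} (ι : Z ⟶ P) [IsClosedImmersion ι] (s : X ⟶ P)

/-- The lengths of the stalks of the two models of the base change agree. -/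
theorem length_stalk_pull [IsLocallyNoetherian P] (x : X) :
    Module.length (X.presheaf.stalk x)
        (((Scheme.Modules.pullback s).obj ((Coh.push ι).obj (Coh.structureModule Z))).presheaf.stalk x) =
      Module.length (X.presheaf.stalk x)
        (((Coh.push (pullback.snd ι s)).obj (Coh.structureModule (pullback ι s))).presheaf.stalk x) := by
  haveI := (DevLib.isCoh_pushforward_closed ι (DevLib.isCoh_structureModule Z)).1
  letI := (s.stalkMap x).hom.toAlgebra
  obtain ⟨φ, -⟩ := PullbackMod.exists_pullback_stalk_equiv s ((Coh.push ι).obj (Coh.structureModule Z)) x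
  rw [← φ.length_eq]
  by_cases hr : x ∈ Set.range (pullback.snd ι s)
  swap
  · haveI : Subsingleton (((Coh.push (pullback.snd ι s)).obj (Coh.structureModule (pullback ι s))).presheaf.stalk x) :=
      DCohLib.subsingleton_stalk_pushforward _ _ x hr
    haveI : Subsingleton (((Coh.push ι).obj (Coh.structureModule Z)).presheaf.stalk (s x)) :=
      DCohLib.subsingleton_stalk_pushforward ι _ _ fun ⟨z, hz⟩ => hr (by
        rw [Scheme.Pullback.range_snd]; exact ⟨z, hz⟩)
    rw [Module.length_eq_zero, Module.length_eq_zero]
  obtain ⟨z, rfl⟩ := hr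
  have hc : ι (pullback.fst ι s z) = s (pullback.snd ι s z) := congr($(pullback.condition (f := ι) (g := s)) z)
  have he : s (pullback.snd ι s z) ⤳ ι (pullback.fst ι s z) := specializes_of_eq hc.symm
  obtain ⟨e₁⟩ := exists_stalk_equiv ι (pullback.fst ι s z) he hc
  obtain ⟨e₂⟩ := exists_stalk_equiv (pullback.snd ι s) z specializes_rfl rfl
  rw [e₂.length_eq]
  let t := TensorProduct.AlgebraTensorModule.congr (LinearEquiv.refl (X.presheaf.stalk (pullback.snd ι s z))
    (X.presheaf.stalk (pullback.snd ι s z))) e₁
  rw [t.length_eq, ← (Algebra.TensorProduct.quotIdealMapEquivTensorQuot (X.presheaf.stalk (pullback.snd ι s z))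
    ((RingHom.ker (ι.stalkMap (pullback.fst ι s z)).hom).map (P.presheaf.stalkSpecializes he).hom)).toLinearEquiv.length_eq]
  refine (Submodule.quotEquivOfEq _ _ ?_).length_eq
  rw [TopCat.Presheaf.stalkSpecializes_refl, CommRingCat.hom_id, Ideal.map_id, ker_stalkMap_snd s ι z he, Ideal.map_map]
  rfl

theorem nontrivial_pull_iff [IsLocallyNoetherian P] (x : X) :
    Nontrivial (((Scheme.Modules.pullback s).obj ((Coh.push ι).obj (Coh.structureModule Z))).presheaf.stalk x) ↔
      s x ∈ Set.range ι := by
  rw [← not_subsingleton_iff_nontrivial, ← Module.length_eq_zero_iff (R := X.presheaf.stalk x), length_stalk_pull ι s x,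
    Module.length_eq_zero_iff, not_subsingleton_iff_nontrivial]
  constructor
  · intro h
    by_contra hr
    haveI : Subsingleton (((Coh.push (pullback.snd ι s)).obj (Coh.structureModule (pullback ι s))).presheaf.stalk x) :=
      DCohLib.subsingleton_stalk_pushforward _ _ x fun ⟨w, hw⟩ => hr ⟨pullback.fst ι s w, by
        rw [← hw]; exact congr($(pullback.condition (f := ι) (g := s)) w)⟩
    exact not_subsingleton _ this
  · intro hr
    obtain ⟨w, rfl⟩ : x ∈ Set.range (pullback.snd ι s) := by rw [Scheme.Pullback.range_snd]; exact hr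
    obtain ⟨e⟩ := exists_stalk_equiv (pullback.snd ι s) w specializes_rfl rfl
    haveI : Nontrivial (X.presheaf.stalk (pullback.snd ι s w) ⧸
        (RingHom.ker ((pullback.snd ι s).stalkMap w).hom).map
          (X.presheaf.stalkSpecializes (specializes_rfl (x := pullback.snd ι s w))).hom) := by
      rw [Ideal.Quotient.nontrivial_iff, TopCat.Presheaf.stalkSpecializes_refl, CommRingCat.hom_id, Ideal.map_id]
      exact RingHom.ker_ne_top _
    exact e.toEquiv.nontrivial

theorem subschemeFun_snd [IsLocallyNoetherian P] {δ : X → ℤ} (hX : Cyc.IsSetup X δ) {k : ℤ}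
    (h : ∀ z : ↥(pullback ι s), δ (pullback.snd ι s z) ≤ k) :
    Cyc.subschemeFun δ k (pullback.snd ι s) =
      Cyc.sheafFun δ k ((Scheme.Modules.pullback s).obj ((Coh.push ι).obj (Coh.structureModule Z))) := by
  rw [S1899.result X _ δ hX (pullback.snd ι s) k h]
  funext x
  rw [Cyc.sheafFun, Cyc.sheafFun, length_stalk_pull ι s x]

end Groth.Agent.CycLib.SubFun
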