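import Groth.Agent.CycLib.Shift
import Groth.Agent.AffLim.Stalks

/-! # A point of a limit is reduced and minimal in its fibre over a late stage -/

set_option autoImplicit false
set_option backward.isDefEq.respectTransparency false
set_option linter.style.haveILetI false

universe u

open CategoryTheory Limits AlgebraicGeometry TopologicalSpace

noncomputable section

namespace Groth.Agent.CycLib

variable {I : Type u} [SmallCategory I] (D : I ⥤ Scheme.{u}) (c : Cone D) (hc : IsLimit c)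
  [IsCofiltered I] [∀ {i j} (f : i ⟶ j), IsAffineHom (D.map f)]

omit [IsCofiltered I] [∀ {i j} (f : i ⟶ j), IsAffineHom (D.map f)] in
theorem basicOpen_appLE_iff {P Q : Scheme.{u}} (π : P ⟶ Q) {W : Q.Opens} {V : P.Opens} (e : V ≤ π ⁻¹ᵁ W)
    (t : Γ(Q, W)) {z : P} (hz : z ∈ V) : z ∈ P.basicOpen (π.appLE W V e t) ↔ π z ∈ Q.basicOpen t := by
  rw [Scheme.Hom.appLE, ConcreteCategory.comp_apply, Scheme.basicOpen_res, ← Scheme.preimage_basicOpen]
  exact ⟨fun h => h.2, fun h => ⟨hz, h⟩⟩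

omit [IsCofiltered I] [∀ {i j} (f : i ⟶ j), IsAffineHom (D.map f)] in
theorem germ_appLE {P Q : Scheme.{u}} (π : P ⟶ Q) {W : Q.Opens} {V : P.Opens} (e : V ≤ π ⁻¹ᵁ W)
    (t : Γ(Q, W)) {z : P} (hz : z ∈ V) :
    P.presheaf.germ V z hz (π.appLE W V e t) = (π.stalkMap z).hom (Q.presheaf.germ W (π z) (e hz) t) := by
  rw [Scheme.Hom.appLE, ConcreteCategory.comp_apply, TopCat.Presheaf.germ_res_apply]
  exact (Scheme.Hom.germ_stalkMap_apply π W z (e hz) t).symm

/-- The section `s` comes from the stage `k`. -/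
def FromStage {V : c.pt.Opens} (s : Γ(c.pt, V)) (k : I) : Prop :=
  ∃ (W : (D.obj k).Opens) (e : V ≤ c.π.app k ⁻¹ᵁ W) (t : Γ(D.obj k, W)), (c.π.app k).appLE W V e t = s

omit [IsCofiltered I] [∀ {i j} (f : i ⟶ j), IsAffineHom (D.map f)] in
theorem FromStage.mono {V : c.pt.Opens} {s : Γ(c.pt, V)} {k : I} (h : FromStage D c s k) {l : I} (χ : l ⟶ k) :
    FromStage D c s l := by
  obtain ⟨W, e, t, ht⟩ := h
  have e' : V ≤ c.π.app l ⁻¹ᵁ (D.map χ ⁻¹ᵁ W) := e.trans (congr($(c.w χ) ⁻¹ᵁ W)).ge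
  refine ⟨D.map χ ⁻¹ᵁ W, e', (D.map χ).app W t, ?_⟩
  have key : (D.map χ).app W ≫ (c.π.app l).appLE (D.map χ ⁻¹ᵁ W) V e' = (c.π.app k).appLE W V e := by
    rw [Scheme.Hom.app_eq_appLE, Scheme.Hom.appLE_comp_appLE]
    exact AffLim.appLE_congr_hom (c.w χ) _ _ _
  exact (congr($key t)).trans ht

omit [IsCofiltered I] [∀ {i j} (f : i ⟶ j), IsAffineHom (D.map f)] in
theorem FromStage.mem_basicOpen_iff {V : c.pt.Opens} {s : Γ(c.pt, V)} {k : I} (h : FromStage D c s k)
    {x y : c.pt} (hx : x ∈ V) (hy : y ∈ V) (hxy : c.π.app k y = c.π.app k x) :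
    y ∈ c.pt.basicOpen s ↔ x ∈ c.pt.basicOpen s := by
  obtain ⟨W, e, t, rfl⟩ := h
  refine (basicOpen_appLE_iff (c.π.app k) e t hy).trans ?_
  rw [hxy]
  exact (basicOpen_appLE_iff (c.π.app k) e t hx).symm

include hc in
/-- Over a late stage a point of the limit is the only generic point of its fibre, and the fibre is reduced there. -/
theorem exists_stage_point [IsLocallyNoetherian c.pt] (x : c.pt) :
    ∃ j : I, ∀ (k : I) (_ : k ⟶ j),
      (∀ y : c.pt, c.π.app k y = c.π.app k x → x ⤳ y) ∧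
        fibIdeal (c.π.app k) x = IsLocalRing.maximalIdeal (c.pt.presheaf.stalk x) := by
  classical
  obtain ⟨i⟩ := IsCofiltered.nonempty (C := I)
  obtain ⟨_, ⟨U, hU, rfl⟩, hxU, -⟩ :=
    (D.obj i).isBasis_affineOpens.exists_subset_of_mem_open (Set.mem_univ (c.π.app i x)) isOpen_univ
  let V : c.pt.Opens := c.π.app i ⁻¹ᵁ U
  haveI : IsAffineHom (c.π.app i) := isAffineHom_π_app D c hc i
  have hV : IsAffineOpen V := hU.preimage _
  haveI : IsNoetherianRing Γ(c.pt, V) := IsLocallyNoetherian.component_noetherian ⟨V, hV⟩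
  let p := (hV.primeIdealOf ⟨x, hxU⟩).asIdeal
  obtain ⟨S, hS⟩ := (IsNoetherian.noetherian p : p.FG)
  have hst : ∀ s : Γ(c.pt, V), ∃ j : I, FromStage D c s j := fun s => by
    obtain ⟨j, φ, e, t, ht⟩ := AffLim.exists_appLE_eq D c hc hU s
    exact ⟨j, _, e, t, ht⟩
  choose J hJ using hst
  obtain ⟨j, hj⟩ := IsCofiltered.inf_objs_exists (insert i (S.image J))
  refine ⟨j, fun k χ => ?_⟩
  obtain ⟨g⟩ := hj (Finset.mem_insert_self i _)
  have hfs : ∀ s ∈ S, FromStage D c s k := fun s hs => by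
    obtain ⟨g'⟩ := hj (Finset.mem_insert_of_mem (Finset.mem_image_of_mem J hs))
    exact (hJ s).mono D c (χ ≫ g')
  letI := c.pt.presheaf.algebra_section_stalk (⟨x, hxU⟩ : V)
  haveI := hV.isLocalization_stalk ⟨x, hxU⟩
  have hpm : ∀ s : Γ(c.pt, V), s ∈ p ↔ x ∉ c.pt.basicOpen s := fun s => by
    rw [c.pt.mem_basicOpen s x hxU, ← IsLocalization.AtPrime.to_map_mem_maximal_iff (c.pt.presheaf.stalk x) p s,
      IsLocalRing.mem_maximalIdeal, mem_nonunits_iff]
    exact Iff.rfl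
  refine ⟨fun y hy => ?_, le_antisymm (fibIdeal_le _ x) ?_⟩
  · have hyV : y ∈ V := by
      show c.π.app i y ∈ U
      rw [← c.w (χ ≫ g)]
      show D.map (χ ≫ g) (c.π.app k y) ∈ U
      rw [hy]
      show (c.π.app k ≫ D.map (χ ≫ g)) x ∈ U
      rw [c.w (χ ≫ g)]
      exact hxU
    letI := c.pt.presheaf.algebra_section_stalk (⟨y, hyV⟩ : V)
    haveI := hV.isLocalization_stalk ⟨y, hyV⟩
    have hle : p ≤ (hV.primeIdealOf ⟨y, hyV⟩).asIdeal := by
      rw [← hS]
      refine Ideal.span_le.2 fun s hs => ?_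
      have h1 : x ∉ c.pt.basicOpen s := (hpm s).1 (hS ▸ Ideal.subset_span hs)
      rw [← (hfs s hs).mem_basicOpen_iff D c hxU hyV hy, c.pt.mem_basicOpen s y hyV] at h1
      exact (IsLocalization.AtPrime.to_map_mem_maximal_iff (c.pt.presheaf.stalk y) _ s).1 h1
    have := ((PrimeSpectrum.le_iff_specializes (hV.primeIdealOf ⟨x, hxU⟩) (hV.primeIdealOf ⟨y, hyV⟩)).1 hle).map
      hV.fromSpec.continuous
    rwa [hV.fromSpec_primeIdealOf, hV.fromSpec_primeIdealOf] at this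
  · rw [← IsLocalization.AtPrime.map_eq_maximalIdeal p (c.pt.presheaf.stalk x), ← hS, Ideal.map_span, Ideal.span_le]
    rintro _ ⟨s, hs, rfl⟩
    obtain ⟨W, e, t, ht⟩ := hfs s hs
    have hgerm : algebraMap Γ(c.pt, V) (c.pt.presheaf.stalk x) s =
        ((c.π.app k).stalkMap x).hom ((D.obj k).presheaf.germ W (c.π.app k x) (e hxU) t) := by
      rw [← ht]
      exact germ_appLE (c.π.app k) e t hxU
    rw [hgerm]
    refine Ideal.mem_map_of_mem _ fun hu => ?_
    have h1 : x ∉ c.pt.basicOpen s := (hpm s).1 (hS ▸ Ideal.subset_span hs)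
    refine h1 ((c.pt.mem_basicOpen s x hxU).2 ?_)
    show IsUnit (algebraMap Γ(c.pt, V) (c.pt.presheaf.stalk x) s)
    rw [hgerm]
    exact hu.map _

omit [IsCofiltered I] [∀ {i j} (f : i ⟶ j), IsAffineHom (D.map f)] in
theorem exists_residue_of_comp {P Q R : Scheme.{u}} {q : P ⟶ Q} {p : Q ⟶ R} {r : P ⟶ R} (h : q ≫ p = r) (z : P)
    {f : P.residueField z} (hf : ∃ g, r.residueFieldMap z g = f) : ∃ g, q.residueFieldMap z g = f := by
  subst h
  obtain ⟨g, rfl⟩ := hf
  refine ⟨p.residueFieldMap (q z) g, ?_⟩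
  rw [Scheme.residueFieldMap_comp]
  rfl

include hc in
/-- An element of a residue field of the limit comes from a late stage. -/
theorem exists_stage_residue (x : c.pt) (f : c.pt.residueField x) :
    ∃ j : I, ∀ (k : I) (_ : k ⟶ j), ∃ g, (c.π.app k).residueFieldMap x g = f := by
  obtain ⟨a, rfl⟩ := c.pt.residue_surjective x f
  obtain ⟨i, U, hx, t, rfl⟩ := AffLim.exists_germ_π_eq D c hc x a
  refine ⟨i, fun k χ => exists_residue_of_comp (c.w χ) x ⟨(D.obj i).residue _ ((D.obj i).presheaf.germ U _ hx t), ?_⟩⟩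
  have h := congr($(Scheme.residue_residueFieldMap (c.π.app i) x) ((D.obj i).presheaf.germ U _ hx t))
  refine h.trans ?_
  show c.pt.residue x ((c.π.app i).stalkMap x ((D.obj i).presheaf.germ U _ hx t)) = _
  exact congrArg _ (Scheme.Hom.germ_stalkMap_apply (c.π.app i) U x hx t)

end Groth.Agent.CycLib
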