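import Groth.Agent.CycLib.RatPull

/-! # Flat pullback as a cycle -/

set_option autoImplicit false
set_option backward.isDefEq.respectTransparency false
set_option linter.style.haveILetI false

universe u

open CategoryTheory AlgebraicGeometry TopologicalSpace

noncomputable section

namespace Groth.Agent.CycLib

variable {X Y : Scheme.{u}} (p : X ⟶ Y) [IsLocallyNoetherian X] [CompactSpace Y] {δX : X → ℤ} {δY : Y → ℤ} {c : ℤ}

/-- The pullback of a cycle to a scheme over a quasi-compact one. -/
def pullCycleQC (hs : IsShift p δX δY c) (hδX : Cyc.IsDimFun X δX) (α : AlgebraicCycle Y ℤ) : AlgebraicCycle X ℤ where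
  toFun := Cyc.pullFun p δX δY c α
  supportWithinDomain' := Set.subset_univ _
  supportLocallyFiniteWithinDomain' z _ := by
    classical
    obtain ⟨V, hV, hz⟩ := exists_affine z
    have hS : (Function.support α).Finite := by
      simpa using α.locallyFiniteSupport.finite_inter_support_of_isCompact isCompact_univ
    refine ⟨V, V.2.mem_nhds hz, (hS.biUnion fun ξ _ => (finite_over (p := p) ξ hV).image Subtype.val).subset ?_⟩
    rintro y ⟨hyV, hy⟩
    rw [Function.mem_support, pullFun_apply] at hy
    split_ifs at hy with h
    · exact Set.mem_biUnion (show p y ∈ Function.support α from left_ne_zero_of_mul hy)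
        ⟨⟨y, rfl, hs.maxFib_of_eq hδX h⟩, hyV, rfl⟩
    · exact absurd rfl hy

theorem coe_pullCycleQC (hs : IsShift p δX δY c) (hδX : Cyc.IsDimFun X δX) (α : AlgebraicCycle Y ℤ) :
    ⇑(pullCycleQC p hs hδX α) = Cyc.pullFun p δX δY c ⇑α := rfl

end Groth.Agent.CycLib
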