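import Groth.Agent.CycLib.DeltaHeight
import Groth.Agent.CILib.SmoothFlat
import Groth.Agent.S9684

/-! # Flat morphisms of irreducible schemes shift dimension functions -/

set_option autoImplicit false
set_option backward.isDefEq.respectTransparency false
set_option linter.style.haveILetI false

universe u

open CategoryTheory AlgebraicGeometry

noncomputable section

namespace Groth.Agent.CycLib

variable {X Y : Scheme.{u}} {δX : X → ℤ} {δY : Y → ℤ}

/-- On an irreducible scheme `dim O_x = δ(η) - δ(x)`. -/
theorem ringKrullDim_stalk_of_irreducible [IrreducibleSpace X] (hδ : Cyc.IsDimFun X δX) (x : X) :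
    δX x ≤ δX (genericPoint X) ∧
      ringKrullDim (X.presheaf.stalk x) = ((δX (genericPoint X) - δX x).toNat : WithBot ℕ∞) := by
  have h := genericPoint_specializes x
  let Q₀ : PrimeSpectrum (X.presheaf.stalk x) := ⟨RingHom.ker (Cyc.specMap x (genericPoint X) h), inferInstance⟩
  obtain ⟨h1, h2⟩ := coheight_eq_delta hδ Q₀
  rw [fromSpecStalk_ker h] at h1 h2
  refine ⟨h1, ?_⟩
  have hmin : ∀ P : PrimeSpectrum (X.presheaf.stalk x), Q₀ ≤ P := fun P =>
    (fromSpecStalk_specializes_iff Q₀ P).1 (by rw [fromSpecStalk_ker h]; exact genericPoint_specializes _)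
  haveI : Nonempty (PrimeSpectrum (X.presheaf.stalk x)) := ⟨Q₀⟩
  rw [ringKrullDim, Order.krullDim_eq_iSup_coheight_of_nonempty,
    le_antisymm (iSup_le fun P => Order.coheight_anti (hmin P)) (le_iSup (fun P => Order.coheight P) Q₀), h2]
  rfl

theorem fibIdeal_le_iff_fibre (p : X ⟶ Y) {x : X} (Q : PrimeSpectrum (X.presheaf.stalk x)) :
    fibIdeal p x ≤ Q.asIdeal ↔ p (X.fromSpecStalk x Q) = p x := by
  have e : fibIdeal p x = clIdeal p x (p x) specializes_rfl := by
    refine congrArg (Ideal.map _) (Ideal.ext fun t => ?_)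
    show t ∈ IsLocalRing.maximalIdeal _ ↔ Y.residue (p x) (Y.presheaf.stalkSpecializes specializes_rfl t) = 0
    rw [TopCat.Presheaf.stalkSpecializes_refl, CommRingCat.id_apply]
    exact (IsLocalRing.residue_eq_zero_iff _).symm
  rw [e, clIdeal_le_iff]
  exact ⟨fun h => (((fromSpecStalk_specializes Q).map p.continuous).antisymm h).eq, fun h => specializes_of_eq h.symm⟩

/-- A flat morphism of irreducible schemes has constant shift at the generic points of fibres. -/
theorem isShift_of_irreducible [IrreducibleSpace X] [IrreducibleSpace Y] (f : X ⟶ Y) [Flat f] [LocallyOfFiniteType f]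
    (hY : Cyc.IsSetup Y δY) (hδ : Cyc.DeltaCompat f δX δY) :
    0 ≤ δX (genericPoint X) - δY (genericPoint Y) ∧
      IsShift f δX δY (δX (genericPoint X) - δY (genericPoint Y)).toNat := by
  haveI := hY.1
  haveI := LocallyOfFiniteType.isLocallyNoetherian f
  have hX := S9684.result f δY hY δX hδ
  have key : ∀ x : X, MaxFib f x →
      δX x = δY (f x) + (δX (genericPoint X) - δY (genericPoint Y)) := fun x hx => by
    letI := (f.stalkMap x).hom.toAlgebra
    haveI : Module.Flat (Y.presheaf.stalk (f x)) (X.presheaf.stalk x) := Flat.stalkMap f x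
    haveI : IsLocalHom (algebraMap (Y.presheaf.stalk (f x)) (X.presheaf.stalk x)) :=
      inferInstanceAs (IsLocalHom (f.stalkMap x).hom)
    have h := CILib.ringKrullDim_eq_add_of_flat (R := Y.presheaf.stalk (f x)) (S := X.presheaf.stalk x)
    have h0 : ringKrullDim (X.presheaf.stalk x ⧸ fibIdeal f x) = 0 := by
      have hsub : Subsingleton (PrimeSpectrum.zeroLocus (R := X.presheaf.stalk x) (fibIdeal f x : Set _)) := by
        refine ⟨fun P Q => Subtype.ext ((X.fromSpecStalk x).isEmbedding.injective ?_)⟩
        rw [hx _ ((fibIdeal_le_iff_fibre f P.1).1 P.2) (fromSpecStalk_specializes _),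
          hx _ ((fibIdeal_le_iff_fibre f Q.1).1 Q.2) (fromSpecStalk_specializes _)]
      haveI : Nontrivial (X.presheaf.stalk x ⧸ fibIdeal f x) := Ideal.Quotient.nontrivial_iff.2 fun e =>
        (IsLocalRing.maximalIdeal.isMaximal _).ne_top (top_le_iff.1 (e ▸ fibIdeal_le f x))
      refine le_antisymm ?_ ringKrullDim_nonneg_of_nontrivial
      rw [ringKrullDim_quotient]
      exact Order.krullDim_nonpos_of_subsingleton
    obtain ⟨a1, a2⟩ := ringKrullDim_stalk_of_irreducible hX x
    obtain ⟨b1, b2⟩ := ringKrullDim_stalk_of_irreducible hY.2.2 (f x)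
    change _ = _ + ringKrullDim (X.presheaf.stalk x ⧸ fibIdeal f x) at h
    rw [a2, b2, h0, add_zero] at h
    have h' : (δX (genericPoint X) - δX x).toNat = (δY (genericPoint Y) - δY (f x)).toNat := by exact_mod_cast h
    omega
  have hd : 0 ≤ δX (genericPoint X) - δY (genericPoint Y) := by
    obtain ⟨n, -, e⟩ := hδ (genericPoint X)
    have h1 := key (genericPoint X) fun w _ hwx => (hwx.antisymm (genericPoint_specializes w)).eq
    omega
  exact ⟨hd, fun x hx => by rw [key x hx, Int.toNat_of_nonneg hd]⟩

end Groth.Agent.CycLib
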