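import Groth.Agent.CatSpaceLib.Scheme
import Groth.Agent.DimFormulaLib.Field
import Groth.Agent.FlatDim.Trdeg
import Groth.Agent.S9684
import Groth.Agent.CurveLib.Finite

/-! # Schemes of finite type over a field with the transcendence degree as dimension function -/

set_option autoImplicit false
set_option backward.isDefEq.respectTransparency false
set_option linter.style.haveILetI false

universe u

open CategoryTheory AlgebraicGeometry

namespace Groth.Agent.CycLib

variable (k : Type u) [Field k] {X : Scheme.{u}}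

theorem isSetup_spec_field : Cyc.IsSetup (Spec (CommRingCat.of k)) (fun _ => 0) :=
  ⟨inferInstance, fun y => (DimFormulaLib.isField_stalk k y).2,
    fun a b _ hne => absurd (Subsingleton.elim a b) hne⟩

variable [X.Over (Spec (CommRingCat.of k))] [LocallyOfFiniteType (X ↘ Spec (CommRingCat.of k))] (δ : X → ℤ)

theorem isSetup_of_field (hδ : Cyc.DeltaCompat (X ↘ Spec (CommRingCat.of k)) δ (fun _ => 0)) :
    Cyc.IsSetup X δ := by
  haveI := LocallyOfFiniteType.isLocallyNoetherian (X ↘ Spec (CommRingCat.of k))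
  refine ⟨inferInstance, (CatSpaceLib.forall_isCatenarySpace_iff X).1 fun Y g hg => ?_,
    S9684.result (X ↘ Spec (CommRingCat.of k)) _ (isSetup_spec_field k) δ hδ⟩
  haveI := hg
  exact (CatSpaceLib.forall_isCatenarySpace_iff _).2 (fun y => (DimFormulaLib.isField_stalk k y).2) Y
    (g ≫ (X ↘ Spec (CommRingCat.of k))) inferInstance

/-- The dimension function is the dimension of the closure. -/
theorem delta_dim (hδ : Cyc.DeltaCompat (X ↘ Spec (CommRingCat.of k)) δ (fun _ => 0)) (x : X) :
    ∃ t : ℕ, δ x = t ∧ topologicalKrullDim (closure ({x} : Set X)) = t := by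
  obtain ⟨t, ht, hd⟩ := FlatDim.topologicalKrullDim_closure k (X ↘ Spec (CommRingCat.of k)) x
  obtain ⟨n, hn, hn'⟩ := hδ x
  refine ⟨t, ?_, hd⟩
  have e : (n : Cardinal.{u}) = t := hn.symm.trans ht
  rw [hn', Nat.cast_inj.1 e, zero_add]

theorem delta_eq_one_iff (hδ : Cyc.DeltaCompat (X ↘ Spec (CommRingCat.of k)) δ (fun _ => 0)) (x : X) :
    δ x = 1 ↔ topologicalKrullDim (closure ({x} : Set X)) = 1 := by
  obtain ⟨t, ht, hd⟩ := delta_dim k δ hδ x
  rw [ht, hd]
  constructor
  · intro h
    rw [show t = 1 by exact_mod_cast h, Nat.cast_one]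
  · intro h
    have : t = 1 := by exact_mod_cast h
    rw [this, Nat.cast_one]

theorem delta_eq_zero_iff (hδ : Cyc.DeltaCompat (X ↘ Spec (CommRingCat.of k)) δ (fun _ => 0)) (x : X) :
    δ x = 0 ↔ IsClosed ({x} : Set X) := by
  obtain ⟨t, ht, hd⟩ := delta_dim k δ hδ x
  rw [ht, Nat.cast_eq_zero]
  constructor
  · rintro rfl
    rw [← CurveLib.closure_singleton_eq isClosed_closure hd.le (subset_closure rfl)]
    exact isClosed_closure
  · intro h
    obtain ⟨t', ht', hd'⟩ := delta_dim k δ hδ x
    rw [h.closure_eq] at hd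
    haveI : Subsingleton ↥({x} : Set X) := ⟨fun a b => Subtype.ext (a.2.trans b.2.symm)⟩
    haveI : Subsingleton (TopologicalSpace.IrreducibleCloseds ↥({x} : Set X)) := ⟨fun a b =>
      TopologicalSpace.IrreducibleCloseds.ext (a.isIrreducible.1.eq_univ.trans b.isIrreducible.1.eq_univ.symm)⟩
    have h0 : topologicalKrullDim ↥({x} : Set X) ≤ 0 := Order.krullDim_nonpos_of_subsingleton
    rw [hd] at h0
    have : t ≤ 0 := by exact_mod_cast h0
    omega

end Groth.Agent.CycLib
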