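import Groth.Agent.CycLib.Div
import Mathlib.RingTheory.UniqueFactorizationDomain.Ideal

/-! # The span of principal divisors and divisors of prime elements -/

set_option autoImplicit false
set_option backward.isDefEq.respectTransparency false
set_option linter.style.haveILetI false

universe u

open CategoryTheory AlgebraicGeometry TopologicalSpace

noncomputable section

namespace Groth.Agent.CycLib

variable {X : Scheme.{u}}

/-- The group of finite sums of principal divisors of `(j+1)`-dimensional points. -/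
def divSpan (δ : X → ℤ) (j : ℤ) : AddSubgroup (X → ℤ) :=
  AddSubgroup.closure {d | ∃ (ξ : X) (g : X.residueField ξ), δ ξ = j + 1 ∧ g ≠ 0 ∧ d = Cyc.divFun δ ξ g}

theorem divFun_mem_divSpan {δ : X → ℤ} {j : ℤ} {ξ : X} {g : X.residueField ξ} (h : δ ξ = j + 1) (hg : g ≠ 0) :
    Cyc.divFun δ ξ g ∈ divSpan δ j :=
  AddSubgroup.subset_closure ⟨ξ, g, h, hg, rfl⟩

variable [IsLocallyNoetherian X] {δ : X → ℤ}

theorem divFun_inv (hδ : Cyc.IsDimFun X δ) (ξ : X) {g : X.residueField ξ} (hg : g ≠ 0) :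
    Cyc.divFun δ ξ g⁻¹ = -Cyc.divFun δ ξ g := funext fun x => by
  show _ = -Cyc.divFun δ ξ g x
  by_cases h : ξ ⤳ x ∧ δ x + 1 = δ ξ
  · rw [divFun_of h.1 h.2, divFun_of h.1 h.2, ordAt_inv hδ h.1 h.2 hg]
  · rw [Cyc.divFun, Cyc.divFun, dif_neg h, dif_neg h, neg_zero]

theorem exists_sum_of_mem_divSpan (hδ : Cyc.IsDimFun X δ) {j : ℤ} {c : X → ℤ} (hc : c ∈ divSpan δ j) :
    ∃ (ι : Type) (_ : Fintype ι) (ξ : ι → X) (g : ∀ i, X.residueField (ξ i)), (∀ i, δ (ξ i) = j + 1) ∧ (∀ i, g i ≠ 0) ∧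
      ∀ x, c x = ∑ i, Cyc.divFun δ (ξ i) (g i) x := by
  unfold divSpan at hc
  induction hc using AddSubgroup.closure_induction with
  | mem c hc =>
    obtain ⟨ξ, g, h1, h2, rfl⟩ := hc
    exact ⟨Unit, inferInstance, fun _ => ξ, fun _ => g, fun _ => h1, fun _ => h2, fun x => by simp⟩
  | zero => exact ⟨Empty, inferInstance, Empty.elim, fun i => i.elim, fun i => i.elim, fun i => i.elim, fun x => by simp⟩
  | add a b _ _ ha hb =>
    obtain ⟨n, _, ξ, g, h1, h2, h3⟩ := ha
    obtain ⟨m, _, ζ, e, k1, k2, k3⟩ := hb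
    refine ⟨n ⊕ m, inferInstance, Sum.elim ξ ζ, fun i => match i with
      | .inl i => g i
      | .inr i => e i, fun i => ?_, fun i => ?_, fun x => ?_⟩
    · cases i
      exacts [h1 _, k1 _]
    · cases i
      exacts [h2 _, k2 _]
    · show a x + b x = _
      rw [h3, k3, Fintype.sum_sum_type]
      rfl
  | neg a _ ha =>
    obtain ⟨n, _, ξ, g, h1, h2, h3⟩ := ha
    refine ⟨n, inferInstance, ξ, fun i => (g i)⁻¹, h1, fun i => inv_ne_zero (h2 i), fun x => ?_⟩
    show -a x = _
    rw [h3, ← Finset.sum_neg_distrib]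
    exact Finset.sum_congr rfl fun i _ => by rw [divFun_inv hδ _ (h2 i)]; rfl

open scoped Classical in
/-- In an affine factorial scheme a point of codimension one is the divisor of a prime element. -/
theorem single_mem_divSpan_of_ufd {Z : Scheme.{u}} [IsIntegral Z] [IsAffine Z] [IsLocallyNoetherian Z]
    [UniqueFactorizationMonoid Γ(Z, ⊤)] {δ : Z → ℤ} (hδ : Cyc.IsDimFun Z δ) (w : Z)
    (hw : δ w + 1 = δ (genericPoint Z)) : (Pi.single w 1 : Z → ℤ) ∈ divSpan δ (δ w) := by
  have hU : IsAffineOpen (⊤ : Z.Opens) := isAffineOpen_top Z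
  let η := genericPoint Z
  let Q := fun x : Z => (hU.primeIdealOf ⟨x, trivial⟩)
  have hQx : ∀ x : Z, hU.fromSpec (Q x) = x := fun x => hU.fromSpec_primeIdealOf ⟨x, trivial⟩
  have hmem : ∀ (x : Z) (b : Γ(Z, ⊤)), b ∈ (Q x).asIdeal ↔ ¬ IsUnit (Z.presheaf.germ ⊤ x trivial b) := fun x b => by
    letI : Algebra Γ(Z, ⊤) (Z.presheaf.stalk x) := (Z.presheaf.germ ⊤ x trivial).hom.toAlgebra
    haveI := hU.isLocalization_stalk ⟨x, trivial⟩
    rw [← mem_nonunits_iff, ← IsLocalRing.mem_maximalIdeal]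
    exact (IsLocalization.AtPrime.to_map_mem_maximal_iff (Z.presheaf.stalk x) (Q x).asIdeal b _).symm
  have hne : (Q w).asIdeal ≠ ⊥ := fun e => by
    have h0 : (Q w).asIdeal ≤ (Q η).asIdeal := by rw [e]; exact bot_le
    have h1 := ((PrimeSpectrum.le_iff_specializes (Q w) (Q η)).1 h0).map hU.fromSpec.continuous
    rw [hQx, hQx] at h1
    have h2 : w = η := (h1.antisymm (genericPoint_specializes w)).eq
    have : δ w = δ η := congrArg δ h2
    change δ w + 1 = δ η at hw
    omega
  obtain ⟨p, hpw, hp⟩ := (Q w).2.exists_mem_prime_of_ne_bot hne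
  have hp0 : Z.residue η (Z.presheaf.germ ⊤ η trivial p) ≠ 0 := fun e => by
    haveI : Nonempty (⊤ : Z.Opens) := ⟨⟨η, trivial⟩⟩
    refine hp.ne_zero (germ_injective_of_isIntegral Z η (U := ⊤) trivial ?_)
    rw [map_zero]
    by_contra hg
    exact (IsLocalRing.residue_eq_zero_iff _).1 e
      ((isUnit_iff_ne_zero (G₀ := Z.functionField)).2 hg)
  have key : Cyc.divFun δ η (Z.residue η (Z.presheaf.germ ⊤ η trivial p)) = (Pi.single w 1 : Z → ℤ) := by
    funext x
    have hη : η ⤳ x := genericPoint_specializes x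
    by_cases hd : δ x + 1 = δ η
    swap
    · rw [Cyc.divFun, dif_neg (fun h => hd h.2), Pi.single_eq_of_ne]
      rintro rfl
      exact hd hw
    have hne' : Cyc.specMap x η hη (Z.presheaf.germ ⊤ x trivial p) ≠ 0 := by
      rwa [specMap_germ hη (U := ⊤) trivial trivial]
    rw [divFun_of hη hd, ← specMap_germ hη (U := ⊤) trivial trivial p]
    by_cases hpx : p ∈ (Q x).asIdeal
    swap
    · rw [ordAt_specMap_unit hδ hη hd (not_not.1 fun h => hpx ((hmem x p).2 h)), Pi.single_eq_of_ne]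
      rintro rfl
      exact hpx hpw
    have hle : Ideal.span {p} ≤ (Q x).asIdeal := (Ideal.span_singleton_le_iff_mem _).2 hpx
    let P : PrimeSpectrum Γ(Z, ⊤) := ⟨Ideal.span {p}, (Ideal.span_singleton_prime hp.ne_zero).2 hp⟩
    have hPne : hU.fromSpec P ≠ η := fun e => by
      refine ((hmem η p).1 ?_) (isUnit_iff_ne_zero (G₀ := Z.functionField).2 fun e' => hp0 (by rw [e']; exact map_zero _))
      have : P = Q η := hU.fromSpec.isEmbedding.injective (e.trans (hQx η).symm)
      rw [← this]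
      exact Ideal.mem_span_singleton_self p
    have hQP : ∀ y : Z, δ y + 1 = δ η → p ∈ (Q y).asIdeal → hU.fromSpec P = y := by
      intro y hy hpy
      have h1 := ((PrimeSpectrum.le_iff_specializes P (Q y)).1 ((Ideal.span_singleton_le_iff_mem _).2 hpy)).map
        hU.fromSpec.continuous
      rw [hQx] at h1
      by_contra hne
      have h2 := (hδ _ _ h1 hne).1
      have h3 := (hδ η _ (genericPoint_specializes _) hPne.symm).1
      omega
    have hxw : x = w := (hQP x hd hpx).symm.trans (hQP w hw hpw)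
    subst hxw
    rw [Pi.single_eq_same, ordAt_specMap hδ hη hd hne']
    haveI := isPrime_ker hη
    letI : Algebra Γ(Z, ⊤) (Z.presheaf.stalk x) := (Z.presheaf.germ ⊤ x trivial).hom.toAlgebra
    haveI := hU.isLocalization_stalk ⟨x, trivial⟩
    have hQ : (Q x).asIdeal = Ideal.span {p} := by
      rw [show Q x = P from hU.fromSpec.isEmbedding.injective ((hQx x).trans (hQP x hd hpx).symm)]
    have hm : IsLocalRing.maximalIdeal (Z.presheaf.stalk x) = Ideal.span {Z.presheaf.germ ⊤ x trivial p} := by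
      rw [← IsLocalization.AtPrime.map_eq_maximalIdeal (Q x).asIdeal (Z.presheaf.stalk x), hQ, Ideal.map_span,
        Set.image_singleton]
      rfl
    have hmax : (Ideal.span {Ideal.Quotient.mk (RingHom.ker (Cyc.specMap x η hη)) (Z.presheaf.germ ⊤ x trivial p)}).IsMaximal := by
      rw [← Set.image_singleton, ← Ideal.map_span, ← hm]
      exact Ideal.IsMaximal.map_of_surjective_of_ker_le Ideal.Quotient.mk_surjective
        (by rw [Ideal.mk_ker]; exact IsLocalRing.le_maximalIdeal (isPrime_ker hη).ne_top)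
    rw [Ring.ord]
    have : IsSimpleModule (Cyc.LocQuot x η hη) (Cyc.LocQuot x η hη ⧸
        Ideal.span {Ideal.Quotient.mk (RingHom.ker (Cyc.specMap x η hη)) (Z.presheaf.germ ⊤ x trivial p)}) :=
      isSimpleModule_iff_isCoatom.2 hmax.out
    rw [Module.length_eq_one_iff.2 this]
    rfl
  rw [← key]
  exact divFun_mem_divSpan hw.symm hp0

end Groth.Agent.CycLib
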