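import Groth.Agent.CycLib.SetupLft
import Groth.Agent.ExcLib.Localization
import Groth.Agent.CMCat.Polynomial
import Groth.Agent.S10881
import Groth.Agent.WeilCohLib.Geom
import Groth.Agent.CycLib.Closed

/-! # Dimension functions over a discrete valuation ring -/

set_option autoImplicit false
set_option backward.isDefEq.respectTransparency false
set_option linter.style.haveILetI false

universe u

open CategoryTheory CategoryTheory.Limits AlgebraicGeometry

noncomputable section

namespace Groth.Agent.CycLib

variable (R : Type u) [CommRing R] [IsDomain R] [IsDiscreteValuationRing R]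

open scoped Classical in
/-- The dimension function on the spectrum of a discrete valuation ring. -/
def dvrDelta : ↥(Spec (CommRingCat.of R)) → ℤ := fun y => if y = IsLocalRing.closedPoint R then 0 else 1

theorem dvr_points (y : ↥(Spec (CommRingCat.of R))) :
    y = IsLocalRing.closedPoint R ∨ y = genericPoint ↥(Spec (CommRingCat.of R)) := by
  by_cases h : y.asIdeal = ⊥
  · right
    rw [genericPoint_eq_bot_of_affine]
    exact PrimeSpectrum.ext h
  · left
    exact PrimeSpectrum.ext (IsLocalRing.eq_maximalIdeal (Ideal.IsPrime.isMaximal y.2 h))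

theorem dvr_generic_ne : genericPoint ↥(Spec (CommRingCat.of R)) ≠ IsLocalRing.closedPoint R := by
  rw [genericPoint_eq_bot_of_affine]
  exact fun e => IsDiscreteValuationRing.not_a_field R (congrArg PrimeSpectrum.asIdeal e).symm

theorem dvrDelta_generic : dvrDelta R (genericPoint ↥(Spec (CommRingCat.of R))) = 1 := if_neg (dvr_generic_ne R)

theorem dvrDelta_closed : dvrDelta R (IsLocalRing.closedPoint R) = 0 := if_pos rfl

omit [IsDomain R] [IsDiscreteValuationRing R] in
theorem stalk_catenary (A : CommRingCat.{u}) (h : CAlg.IsUniversallyCatenary A) (y : Spec A) :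
    CAlg.IsUniversallyCatenary ((Spec A).presheaf.stalk y) := by
  letI : Algebra A ((Spec A).presheaf.stalk y) := StructureSheaf.stalkAlgebra A y
  haveI : IsLocalization.AtPrime ((Spec A).presheaf.stalk y) y.asIdeal := StructureSheaf.IsLocalization.to_stalk A y
  exact ExcLib.isUniversallyCatenary_of_isLocalization y.asIdeal.primeCompl h

theorem isSetup_dvr : Cyc.IsSetup (Spec (CommRingCat.of R)) (dvrDelta R) := by
  refine ⟨inferInstance, fun y => ?_, fun x y h hne => ?_⟩
  · haveI : IsRegularLocalRing R := inferInstance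
    haveI := S10881.cm_of_regular R
    exact stalk_catenary (CommRingCat.of R) (CMCat.isUniversallyCatenary_of_cmLocal (R := R)) y
  · rcases dvr_points R x with rfl | rfl
    · refine absurd ?_ hne
      exact (h.mem_closed (IsLocalRing.isClosed_singleton_closedPoint R) (Set.mem_singleton _)).symm
    · rcases dvr_points R y with rfl | rfl
      · rw [dvrDelta_generic, dvrDelta_closed]
        exact ⟨zero_lt_one, fun _ => rfl⟩
      · exact absurd rfl hne

variable {R}

/-- The dimension function on a scheme induced along a morphism locally of finite type. -/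
theorem exists_deltaCompat {X Y : Scheme.{u}} (f : X ⟶ Y) [LocallyOfFiniteType f] (δY : Y → ℤ) :
    ∃ δ : X → ℤ, Cyc.DeltaCompat f δ δY := by
  have h : ∀ x, ∃ n : ℕ, DimFormulaLib.resTrdegAt f x = n := fun x => by
    haveI : LocallyOfFiniteType (f.fiberToSpecResidueField (f x)) := MorphismProperty.pullback_snd _ _ inferInstance
    obtain ⟨z, hz⟩ : x ∈ Set.range (f.fiberι (f x)) := by rw [Scheme.Hom.range_fiberι]; exact rfl
    obtain ⟨t, ht, -⟩ := FlatDim.topologicalKrullDim_closure (Y.residueField (f x)) (f.fiberToSpecResidueField (f x)) z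
    exact ⟨t, (FlatDim.resTrdegAt_point f hz.symm).trans ((FlatDim.resTrdegAt_fibre f (f x) z).symm.trans ht)⟩
  choose n hn using h
  exact ⟨fun x => δY (f x) + n x, fun x => ⟨n x, hn x, rfl⟩⟩

/-- The dimension functions of a scheme and of a fibre. -/
theorem delta_fibre {X Y : Scheme.{u}} (f : X ⟶ Y) {δ : X → ℤ} {δY : Y → ℤ} (hδ : Cyc.DeltaCompat f δ δY) (s : Y)
    {δs : ↥(f.fiber s) → ℤ} (hs : Cyc.DeltaCompat (f.fiberToSpecResidueField s) δs (fun _ => 0))
    (z : ↥(f.fiber s)) : δ (f.fiberι s z) = δs z + δY s := by
  obtain ⟨n, hn, e⟩ := hδ (f.fiberι s z)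
  obtain ⟨m, hm, e'⟩ := hs z
  have hz : f (f.fiberι s z) = s := by
    have : f.fiberι s z ∈ f ⁻¹' {s} := by rw [← Scheme.Hom.range_fiberι]; exact ⟨z, rfl⟩
    exact this
  have : (n : Cardinal.{u}) = m := hn.symm.trans ((FlatDim.resTrdegAt_fibre f s z).symm.trans hm)
  rw [e, e', hz, Nat.cast_inj.1 this]
  ring

end Groth.Agent.CycLib
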