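import Groth.Agent.CycLib.AffSpan
import Groth.Agent.CycLib.RatPull
import Groth.Agent.CycLib.FlatShift
import Groth.Agent.CycLib.FieldSetup
import Groth.Agent.CycLib.SpecDVR
import Groth.Agent.S7819
import Groth.Agent.S9501

/-! # Cycles on affine space over a field and on fibres of locally trivial affine bundles -/

set_option autoImplicit false
set_option backward.isDefEq.respectTransparency false
set_option linter.style.haveILetI false

universe u

open CategoryTheory CategoryTheory.Limits AlgebraicGeometry TopologicalSpace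

noncomputable section

namespace Groth.Agent.CycLib.AffBundle

/-- The index type of the variables. -/
abbrev Idx (r : ℕ) : Type u := ULift.{u} (Fin r)

/-- Affine space over a field as an affine scheme. -/
abbrev polySpec (r : ℕ) (K : Type u) [CommRing K] : Scheme.{u} :=
  Spec (CommRingCat.of (MvPolynomial (Idx.{u} r) K))

/-- `f` is locally on the target isomorphic to affine space. -/
def LocTriv {X Y : Scheme.{u}} (f : X ⟶ Y) (r : ℕ) : Prop :=
  ∀ y : Y, ∃ (U : Scheme.{u}) (j : U ⟶ Y) (_ : IsOpenImmersion j) (h : 𝔸(Idx.{u} r; U) ⟶ X),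
    y ∈ Set.range j ∧ IsPullback h (𝔸(Idx.{u} r; U) ↘ U) f j

theorem nonempty_fibre_iso {X Y : Scheme.{u}} {f : X ⟶ Y} {r : ℕ} (hf : LocTriv f r) (y : Y) :
    Nonempty (f.fiber y ≅ polySpec r (Y.residueField y)) := by
  obtain ⟨U, j, _, h, hy, sq⟩ := hf y
  let s := IsOpenImmersion.lift j (Y.fromSpecResidueField y) (by
    rw [Scheme.range_fromSpecResidueField]
    exact Set.singleton_subset_iff.2 hy)
  have hs : s ≫ j = Y.fromSpecResidueField y := IsOpenImmersion.lift_fac _ _ _
  have := (AffineSpace.isPullback_map (n := Idx.{u} r) s).paste_horiz sq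
  rw [hs] at this
  exact ⟨this.isoPullback.symm ≪≫ AffineSpace.SpecIso (Idx.{u} r) (Y.residueField y)⟩

theorem isDimFun_eq {Z : Scheme.{u}} {δ δ' : Z → ℤ}
    (h : ∀ z, ∃ t : ℕ, δ z = t ∧ topologicalKrullDim (closure ({z} : Set Z)) = t)
    (h' : ∀ z, ∃ t : ℕ, δ' z = t ∧ topologicalKrullDim (closure ({z} : Set Z)) = t) : δ = δ' := funext fun z => by
  obtain ⟨t, a, b⟩ := h z
  obtain ⟨t', a', b'⟩ := h' z
  rw [a, a']
  have : ((t : WithBot ℕ∞)) = t' := b.symm.trans b'
  exact_mod_cast this

theorem isIntegral_poly {K : Type u} [Field K] {r : ℕ} {Z : Scheme.{u}} (e : Z ≅ polySpec r K) : IsIntegral Z :=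
  haveI : Nonempty Z := ⟨e.inv (genericPoint _)⟩
  isIntegral_of_isOpenImmersion e.hom

/-- The structure map to the field. -/
def polyStr {K : Type u} [Field K] {r : ℕ} {Z : Scheme.{u}} (e : Z ≅ polySpec r K) : Z ⟶ Spec (CommRingCat.of K) :=
  e.hom ≫ Spec.map (CommRingCat.ofHom (MvPolynomial.C (σ := Idx.{u} r) (R := K)))

theorem lft_polyStr {K : Type u} [Field K] {r : ℕ} {Z : Scheme.{u}} (e : Z ≅ polySpec r K) :
    LocallyOfFiniteType (polyStr e) := by
  haveI : LocallyOfFiniteType (Spec.map (CommRingCat.ofHom (MvPolynomial.C (σ := Idx.{u} r) (R := K)))) := by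
    rw [HasRingHomProperty.Spec_iff (P := @LocallyOfFiniteType)]
    show (algebraMap K (MvPolynomial (Idx.{u} r) K)).FiniteType
    exact (RingHom.finiteType_algebraMap).2 inferInstance
  exact inferInstanceAs (LocallyOfFiniteType (e.hom ≫ _))

/-- Facts on dimension functions of affine space over a field. -/
theorem poly_facts {K : Type u} [Field K] {r : ℕ} {Z : Scheme.{u}} (e : Z ≅ polySpec r K) {δ : Z → ℤ}
    (hδ : ∀ z, ∃ t : ℕ, δ z = t ∧ topologicalKrullDim (closure ({z} : Set Z)) = t) :
    IsLocallyNoetherian Z ∧ Cyc.IsDimFun Z δ ∧ Cyc.DeltaCompat (polyStr e) δ (fun _ => 0) ∧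
      ∀ [IsIntegral Z], δ (genericPoint Z) = r ∧ ∀ z : Z, δ z ≤ r ∧ (δ z = r → z = genericPoint Z) := by
  haveI := lft_polyStr e
  haveI : IsLocallyNoetherian Z := LocallyOfFiniteType.isLocallyNoetherian (polyStr e)
  letI : Z.Over (Spec (CommRingCat.of K)) := ⟨polyStr e⟩
  haveI : LocallyOfFiniteType (Z ↘ Spec (CommRingCat.of K)) := lft_polyStr e
  obtain ⟨δ0, h0⟩ := exists_deltaCompat (polyStr e) (fun _ => 0)
  obtain rfl : δ = δ0 := isDimFun_eq hδ (delta_dim K δ0 h0)
  have hd : Cyc.IsDimFun Z δ := (isSetup_of_field K δ h0).2.2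
  refine ⟨inferInstance, hd, h0, ?_⟩
  intro _
  have hη : δ (genericPoint Z) = r := by
    obtain ⟨t, a, b⟩ := hδ (genericPoint Z)
    rw [show closure ({genericPoint Z} : Set Z) = Set.univ from genericPoint_spec Z,
      IsHomeomorph.topologicalKrullDim_eq _ (Homeomorph.Set.univ _).isHomeomorph,
      IsHomeomorph.topologicalKrullDim_eq _ (TopCat.homeoOfIso (Scheme.forgetToTop.mapIso e)).isHomeomorph] at b
    change topologicalKrullDim (PrimeSpectrum (MvPolynomial (Idx.{u} r) K)) = _ at b
    rw [PrimeSpectrum.topologicalKrullDim_eq_ringKrullDim, MvPolynomial.ringKrullDim_of_isNoetherianRing,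
      ringKrullDim_eq_zero_of_field, zero_add] at b
    simp only [Nat.card_eq_fintype_card, Fintype.card_ulift, Fintype.card_fin] at b
    rw [a]
    exact_mod_cast (b : ((r : ℕ) : WithBot ℕ∞) = t).symm
  refine ⟨hη, fun z => ?_⟩
  by_cases hz : genericPoint Z = z
  · subst hz
    exact ⟨hη.le, fun _ => rfl⟩
  · have := (hd _ _ (genericPoint_specializes z) hz).1
    exact ⟨by omega, fun h => absurd h (by omega)⟩

theorem divFun_shift {X : Scheme.{u}} (δ : X → ℤ) (c : ℤ) (ξ : X) (g : X.residueField ξ) :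
    Cyc.divFun (fun x => δ x + c) ξ g = Cyc.divFun δ ξ g := funext fun x => by
  unfold Cyc.divFun
  by_cases h : ξ ⤳ x ∧ δ x + 1 = δ ξ
  · rw [dif_pos h, dif_pos ⟨h.1, by show δ x + c + 1 = δ ξ + c; omega⟩]
  · rw [dif_neg h, dif_neg fun h' => h ⟨h'.1, by have : δ x + c + 1 = δ ξ + c := h'.2; omega⟩]

section Fibre

variable {X Y : Scheme.{u}} (f : X ⟶ Y) [LocallyOfFiniteType f] [IsLocallyNoetherian Y] {δX : X → ℤ} {δY : Y → ℤ}
  (hδ : Cyc.DeltaCompat f δX δY) {r : ℕ} (hf : LocTriv f r)

/-- The induced dimension function on a fibre. -/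
def fibDelta (δX : X → ℤ) (δY : Y → ℤ) (y : Y) : ↥(f.fiber y) → ℤ := fun z => δX (f.fiberι y z) - δY y

include hδ in
theorem fibDelta_dim (y : Y) (z : ↥(f.fiber y)) : ∃ t : ℕ, fibDelta f δX δY y z = t ∧
    topologicalKrullDim (closure ({z} : Set ↥(f.fiber y))) = t := by
  haveI : LocallyOfFiniteType (f.fiberToSpecResidueField y) := MorphismProperty.pullback_snd _ _ inferInstance
  letI : (f.fiber y).Over (Spec (CommRingCat.of (Y.residueField y))) := ⟨f.fiberToSpecResidueField y⟩
  haveI : LocallyOfFiniteType (f.fiber y ↘ Spec (CommRingCat.of (Y.residueField y))) :=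
    inferInstanceAs (LocallyOfFiniteType (f.fiberToSpecResidueField y))
  obtain ⟨δs, hs⟩ := exists_deltaCompat (f.fiberToSpecResidueField y) (fun _ => 0)
  obtain ⟨t, a, b⟩ := delta_dim (Y.residueField y) δs hs z
  exact ⟨t, by rw [fibDelta, delta_fibre f hδ y hs z, a]; ring, b⟩

theorem mem_range_fiberι {x : X} {y : Y} (h : f x = y) : ∃ z : ↥(f.fiber y), f.fiberι y z = x := by
  have : x ∈ Set.range (f.fiberι y) := by rw [Scheme.Hom.range_fiberι]; exact h
  exact this

include hδ hf in
theorem delta_le_add (x : X) : δX x ≤ δY (f x) + r ∧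
    (∀ x', f x' = f x → δX x = δY (f x) + r → δX x' = δY (f x) + r → x' = x) := by
  obtain ⟨e⟩ := nonempty_fibre_iso hf (f x)
  haveI := isIntegral_poly e
  obtain ⟨-, -, -, h⟩ := poly_facts e (fibDelta_dim f hδ (f x))
  obtain ⟨z, hz⟩ := mem_range_fiberι f (rfl : f x = f x)
  obtain ⟨-, h⟩ := h
  have h1 := (h z).1
  simp only [fibDelta, hz] at h1
  refine ⟨by omega, fun x' hx' hd hd' => ?_⟩
  obtain ⟨z', hz'⟩ := mem_range_fiberι f hx'
  rw [← hz, ← hz', (h z').2 (by simp only [fibDelta, hz']; omega), (h z).2 (by simp only [fibDelta, hz]; omega)]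

include hδ hf in
theorem length_fibIdeal (x : X) (hx : δX x = δY (f x) + r) :
    Module.length (X.presheaf.stalk x) (X.presheaf.stalk x ⧸ fibIdeal f x) = 1 := by
  obtain ⟨e⟩ := nonempty_fibre_iso hf (f x)
  haveI := isIntegral_poly e
  obtain ⟨-, -, -, h⟩ := poly_facts e (fibDelta_dim f hδ (f x))
  obtain ⟨z, hz⟩ := mem_range_fiberι f (rfl : f x = f x)
  have hzg : z = genericPoint ↥(f.fiber (f x)) := ((h.2 z).2 (by simp only [fibDelta, hz]; omega))
  have key : ∀ (w : X), f.fiberι (f x) z = w →
      Module.length (X.presheaf.stalk w) (X.presheaf.stalk w ⧸ fibIdeal f w) = 1 := by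
    rintro w rfl
    obtain ⟨hsurj, hker⟩ := S9501.result f (f x) z
    have hK : IsField ((f.fiber (f x)).presheaf.stalk z) := by
      subst hzg
      exact Field.toIsField (f.fiber (f x)).functionField
    haveI hmax : (fibIdeal f (f.fiberι (f x) z)).IsMaximal := by
      rw [show fibIdeal f (f.fiberι (f x) z) = RingHom.ker ((f.fiberι (f x)).stalkMap z).hom from hker.symm]
      letI := hK.toField
      exact RingHom.ker_isMaximal_of_surjective _ hsurj
    exact Module.length_eq_one_iff.2 (isSimpleModule_iff_isCoatom.2 hmax.out)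
  exact key x hz

variable [IsLocallyNoetherian X] (hX : Cyc.IsDimFun X δX)

include hδ hX hf in
/-- A point which is not generic in its fibre is a principal divisor on the fibre, given the
statement on affine space over a field. -/
theorem exists_fibre_sum (x : X) [DecidableEq X]
    (hK : ∀ [DecidableEq ↥(f.fiber (f x))] (z : ↥(f.fiber (f x))), fibDelta f δX δY (f x) z < r →
      (Pi.single z 1 : ↥(f.fiber (f x)) → ℤ) ∈ divSpan (fibDelta f δX δY (f x)) (fibDelta f δX δY (f x) z))
    (hx : δX x < δY (f x) + r) :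
    ∃ (ι : Type) (_ : Fintype ι) (ξ : ι → X) (g : ∀ i, X.residueField (ξ i)), (∀ i, f (ξ i) = f x) ∧
      (∀ i, δX (ξ i) = δX x + 1) ∧ (∀ i, g i ≠ 0) ∧
      ∀ w, f w = f x → (Pi.single x 1 : X → ℤ) w = ∑ i, Cyc.divFun δX (ξ i) (g i) w := by
  classical
  haveI : LocallyOfFiniteType (f.fiberToSpecResidueField (f x)) := MorphismProperty.pullback_snd _ _ inferInstance
  haveI : IsLocallyNoetherian (f.fiber (f x)) :=
    LocallyOfFiniteType.isLocallyNoetherian (f.fiberToSpecResidueField (f x))
  obtain ⟨e⟩ := nonempty_fibre_iso hf (f x)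
  obtain ⟨-, hd, -, -⟩ := poly_facts e (fibDelta_dim f hδ (f x))
  obtain ⟨z, hz⟩ := mem_range_fiberι f (rfl : f x = f x)
  obtain ⟨ι, _, ξ, g, h1, h2, h3⟩ := exists_sum_of_mem_divSpan hd (hK z (by simp only [fibDelta, hz]; omega))
  choose g' hg' using fun i => (bijective_residueFieldMap (f.fiberι (f x)) (ξ i)).2 (g i)
  have happ : ∀ w : ↥(f.fiber (f x)), f (f.fiberι (f x) w) = f x := fun w => by
    have : f.fiberι (f x) w ∈ f ⁻¹' {f x} := by rw [← Scheme.Hom.range_fiberι]; exact ⟨w, rfl⟩
    exact this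
  refine ⟨ι, inferInstance, fun i => f.fiberι (f x) (ξ i), g', fun i => happ _, fun i => ?_, fun i hi => ?_, fun w hw => ?_⟩
  · have := h1 i
    simp only [fibDelta, hz] at this
    show δX (f.fiberι (f x) (ξ i)) = _
    omega
  · exact h2 i (by rw [← hg', hi, map_zero])
  obtain ⟨v, rfl⟩ := mem_range_fiberι f hw
  have e1 : (Pi.single x 1 : X → ℤ) (f.fiberι (f x) v) = (Pi.single z 1 : ↥(f.fiber (f x)) → ℤ) v := by
    by_cases hvz : v = z
    · subst hvz; rw [hz, Pi.single_eq_same, Pi.single_eq_same]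
    · rw [Pi.single_eq_of_ne hvz, Pi.single_eq_of_ne fun e => hvz ((f.fiberι (f x)).isEmbedding.injective (e.trans hz.symm))]
  rw [e1, h3]
  refine Finset.sum_congr rfl fun i _ => ?_
  have hdY : Cyc.IsDimFun (f.fiber (f x)) fun w => δX (f.fiberι (f x) w) := fun a b h hne => by
    obtain ⟨p, q⟩ := hd a b h hne
    simp only [fibDelta] at p q
    exact ⟨by show δX (f.fiberι (f x) b) < δX (f.fiberι (f x) a); omega,
      fun hh => by have := q hh; show δX (f.fiberι (f x) a) = δX (f.fiberι (f x) b) + 1; omega⟩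
  rw [← hg' i, ← divFun_map (f.fiberι (f x)) hX hdY (ξ i) v (g' i)]
  exact congrFun ((congrArg (fun d => Cyc.divFun d (ξ i) (f.fiberι (f x) |>.residueFieldMap (ξ i) (g' i)))
    (funext fun w => by simp [fibDelta, sub_eq_add_neg])).trans (divFun_shift (fun w => δX (f.fiberι (f x) w)) (-δY (f x)) _ _)) v

end Fibre

open scoped Classical in
/-- On affine space over a field every point which is not generic is a sum of principal divisors. -/
theorem single_mem_divSpan_poly : ∀ (r : ℕ) (K : Type u) [Field K] {Z : Scheme.{u}} (_ : Z ≅ polySpec r K)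
    (δ : Z → ℤ), (∀ z, ∃ t : ℕ, δ z = t ∧ topologicalKrullDim (closure ({z} : Set Z)) = t) →
    ∀ w : Z, δ w < r → (Pi.single w 1 : Z → ℤ) ∈ divSpan δ (δ w) := by
  intro r
  induction r with
  | zero =>
    intro K _ Z e δ hdim w hw
    obtain ⟨t, ht, -⟩ := hdim w
    omega
  | succ r ih =>
    intro K _ Z e δ hdim
    haveI := isIntegral_poly e
    haveI : IsAffine Z := .of_isIso e.hom
    obtain ⟨hN, hd, hc, hgen⟩ := poly_facts e hdim
    haveI := hN
    haveI : UniqueFactorizationMonoid Γ(Z, ⊤) :=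
      ((asIso e.hom.appTop).commRingCatIsoToRingEquiv.toMulEquiv.uniqueFactorizationMonoid_iff).1
        ((Scheme.ΓSpecIso _).commRingCatIsoToRingEquiv.toMulEquiv.uniqueFactorizationMonoid_iff.2 inferInstance)
    let B : Scheme.{u} := polySpec r K
    let eB : B ≅ polySpec r K := Iso.refl _
    haveI := lft_polyStr eB
    haveI : IsLocallyNoetherian B := LocallyOfFiniteType.isLocallyNoetherian (polyStr eB)
    haveI : IsIntegral B := isIntegral_poly eB
    letI : B.Over (Spec (CommRingCat.of K)) := ⟨polyStr eB⟩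
    haveI : LocallyOfFiniteType (B ↘ Spec (CommRingCat.of K)) := lft_polyStr eB
    obtain ⟨δB, hB⟩ := exists_deltaCompat (polyStr eB) (fun _ => 0)
    have hBdim := delta_dim K δB hB
    have hBs : Cyc.IsSetup B δB := isSetup_of_field K δB hB
    obtain ⟨-, -, -, hBgen⟩ := poly_facts eB hBdim
    let σ : Idx.{u} 1 ⊕ Idx.{u} r ≃ Idx.{u} (r + 1) :=
      (Equiv.sumCongr Equiv.ulift Equiv.ulift).trans ((finSumFinEquiv.trans (finCongr (Nat.add_comm 1 r))).trans Equiv.ulift.symm)
    let ρ : MvPolynomial (Idx.{u} 1) (MvPolynomial (Idx.{u} r) K) ≃+* MvPolynomial (Idx.{u} (r + 1)) K :=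
      (MvPolynomial.sumRingEquiv K (Idx.{u} 1) (Idx.{u} r)).symm.trans (MvPolynomial.renameEquiv K σ).toRingEquiv
    let e' : Z ≅ 𝔸(Idx.{u} 1; B) := e ≪≫ Scheme.Spec.mapIso ρ.toCommRingCatIso.op ≪≫
      (AffineSpace.SpecIso (Idx.{u} 1) (CommRingCat.of (MvPolynomial (Idx.{u} r) K))).symm
    let p : Z ⟶ B := e'.hom ≫ (𝔸(Idx.{u} 1; B) ↘ B)
    haveI : Flat (𝔸(Idx.{u} 1; B) ↘ B) := S7819.flat_affineSpace _ _
    haveI : Flat p := inferInstance
    haveI : LocallyOfFiniteType p := inferInstance
    have hp : LocTriv p 1 := fun y => ⟨B, 𝟙 B, inferInstance, e'.inv, ⟨y, rfl⟩,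
      IsPullback.of_horiz_isIso ⟨by simp [p]⟩⟩
    obtain ⟨δ1, h1⟩ := exists_deltaCompat p δB
    have hcomp : Cyc.DeltaCompat p δ δB := by
      letI : Z.Over (Spec (CommRingCat.of K)) := ⟨p ≫ polyStr eB⟩
      haveI : LocallyOfFiniteType (Z ↘ Spec (CommRingCat.of K)) :=
        inferInstanceAs (LocallyOfFiniteType (p ≫ polyStr eB))
      obtain rfl : δ = δ1 := isDimFun_eq hdim (delta_dim K δ1 (deltaCompat_comp hB h1))
      exact h1
    have hs : IsShift p δ δB 1 := by
      obtain ⟨-, h⟩ := isShift_of_irreducible p hBs hcomp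
      rw [hgen.1, hBgen.1] at h
      convert h using 1
      omega
    have htop : IsAffineOpen (⊤ : Z.Opens) := isAffineOpen_top Z
    have hpull : ∀ (j : ℤ) {c : B → ℤ}, c ∈ divSpan δB j → Cyc.pullFun p δ δB 1 c ∈ divSpan δ (j + 1) := by
      intro j c hc
      unfold divSpan at hc
      induction hc using AddSubgroup.closure_induction with
      | mem c hc =>
        obtain ⟨ξ, g, hξ, hg, rfl⟩ := hc
        haveI := (finite_over (p := p) ξ htop).to_subtype
        haveI : Finite (Over p ξ) := Finite.of_injective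
          (β := {η : Over p ξ | η.1 ∈ (⊤ : Z.Opens)}) (fun η => ⟨η, trivial⟩) (fun a b h => congrArg Subtype.val h)
        haveI := Fintype.ofFinite (Over p ξ)
        rw [show Cyc.pullFun p δ δB 1 (Cyc.divFun δB ξ g) =
          ∑ η : Over p ξ, mult p η.1 • Cyc.divFun δ η.1 (lift p g η.2.1) from funext fun x => by
            rw [pullFun_divFun hs hd hBs.2.2 ξ hg x, finsum_eq_sum_of_fintype, Finset.sum_apply]
            rfl]
        exact AddSubgroup.sum_mem _ fun η _ => AddSubgroup.zsmul_mem _
          (divFun_mem_divSpan (by rw [hs η.1 η.2.2, η.2.1, hξ]) (lift_ne_zero hg _)) _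
      | zero =>
        rw [show Cyc.pullFun p δ δB 1 (0 : B → ℤ) = 0 from funext fun x => by simp [pullFun_apply]]
        exact zero_mem _
      | add a b _ _ ha hb =>
        rw [show Cyc.pullFun p δ δB 1 (a + b) = Cyc.pullFun p δ δB 1 a + Cyc.pullFun p δ δB 1 b from funext fun x => by
          simp only [pullFun_apply, Pi.add_apply]; split_ifs <;> ring]
        exact add_mem ha hb
      | neg a _ ha =>
        rw [show Cyc.pullFun p δ δB 1 (-a) = -Cyc.pullFun p δ δB 1 a from funext fun x => by
          simp only [pullFun_apply, Pi.neg_apply]; split_ifs <;> ring]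
        exact neg_mem ha
    suffices H : ∀ (n : ℕ) (w : Z), δB (p w) ≤ n → δ w < (r + 1 : ℕ) → (Pi.single w 1 : Z → ℤ) ∈ divSpan δ (δ w) by
      intro w hw
      exact H (δB (p w)).toNat w (by omega) hw
    intro n
    induction n using Nat.strong_induction_on with
    | _ n ihn =>
      intro w hn hw
      obtain ⟨hle, huniq⟩ := delta_le_add p hcomp hp w
      push_cast at hle huniq hw
      rcases hle.lt_or_eq with hlt | heq
      · obtain ⟨ι, _, ξ, g, k1, k2, k3, k4⟩ := exists_fibre_sum p hcomp hp hd w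
          (fun {_} z hz => by
            obtain ⟨ez⟩ := nonempty_fibre_iso hp (p w)
            haveI := isIntegral_poly ez
            haveI : IsAffine (p.fiber (p w)) := .of_isIso ez.hom
            obtain ⟨hN', hd', -, hgen'⟩ := poly_facts ez (fibDelta_dim p hcomp (p w))
            haveI := hN'
            haveI : UniqueFactorizationMonoid Γ(p.fiber (p w), ⊤) :=
              ((asIso ez.hom.appTop).commRingCatIsoToRingEquiv.toMulEquiv.uniqueFactorizationMonoid_iff).1
                ((Scheme.ΓSpecIso _).commRingCatIsoToRingEquiv.toMulEquiv.uniqueFactorizationMonoid_iff.2 inferInstance)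
            obtain ⟨t, ht, -⟩ := fibDelta_dim p hcomp (p w) z
            convert single_mem_divSpan_of_ufd hd' z (by rw [hgen'.1]; push_cast at hz ⊢; omega))
          (by push_cast; omega)
        let D : Z → ℤ := ∑ i, Cyc.divFun δ (ξ i) (g i)
        have hD : D ∈ divSpan δ (δ w) :=
          AddSubgroup.sum_mem _ fun i _ => divFun_mem_divSpan (k2 i) (k3 i)
        let ρ' : Z → ℤ := Pi.single w 1 - D
        have hfin : (Function.support ρ').Finite := by
          refine ((Set.finite_singleton w).union (Set.finite_iUnion fun i =>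
            finite_inter_support_divFun hd (ξ i) (g i) htop)).subset fun x hx => ?_
          by_contra hc
          simp only [Set.mem_union, Set.mem_singleton_iff, Set.mem_iUnion, not_or, not_exists] at hc
          refine hx ?_
          simp only [ρ', D, Pi.sub_apply, Finset.sum_apply, Pi.single_eq_of_ne hc.1]
          rw [Finset.sum_eq_zero fun i _ => by_contra fun h => hc.2 i ⟨trivial, h⟩, sub_zero]
        have hρ : ρ' ∈ divSpan δ (δ w) := by
          rw [show ρ' = ∑ x ∈ hfin.toFinset, ρ' x • (Pi.single x 1 : Z → ℤ) from funext fun y => by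
            rw [Finset.sum_apply, Finset.sum_eq_single y (fun x _ hxy => by simp [Pi.single_eq_of_ne hxy.symm])
              (fun hy => by simp only [Set.Finite.mem_toFinset, Function.mem_support, not_not] at hy; simp [hy])]
            simp]
          refine AddSubgroup.sum_mem _ fun x hx => AddSubgroup.zsmul_mem _ ?_ _
          rw [Set.Finite.mem_toFinset, Function.mem_support] at hx
          have hpx : p x ≠ p w := fun e' => hx (by
            show (Pi.single w 1 : Z → ℤ) x - D x = 0
            rw [k4 x e', show D x = ∑ i, Cyc.divFun δ (ξ i) (g i) x from Finset.sum_apply _ _ _, sub_self])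
          have hxw : x ≠ w := fun e' => hpx (congrArg p e')
          obtain ⟨i, hi⟩ : ∃ i, Cyc.divFun δ (ξ i) (g i) x ≠ 0 := by
            by_contra hall
            push Not at hall
            exact hx (by simp [ρ', D, Pi.single_eq_of_ne hxw, hall])
          obtain ⟨s1, s2⟩ := specializes_of_divFun_ne_zero hi
          rw [k2 i] at s2
          have s3 : p w ⤳ p x := k1 i ▸ s1.map p.continuous
          have s4 := (hBs.2.2 _ _ s3 hpx.symm).1
          obtain ⟨t, ht, -⟩ := hBdim (p x)
          rw [show δ w = δ x by omega]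
          exact ihn (δB (p x)).toNat (by omega) x (by omega) (by push_cast; omega)
        rw [show (Pi.single w 1 : Z → ℤ) = ρ' + D from (sub_add_cancel _ _).symm]
        exact add_mem hρ hD
      · have hy := ih K eB δB hBdim (p w) (by omega)
        have h := hpull _ hy
        rw [← heq] at h
        convert h using 1
        funext x
        rw [pullFun_apply]
        by_cases hxw : x = w
        · subst hxw
          rw [Pi.single_eq_same, if_pos heq, Pi.single_eq_same, length_fibIdeal p hcomp hp x (by exact_mod_cast heq)]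
          rfl
        · rw [Pi.single_eq_of_ne hxw]
          split_ifs with hx
          · rw [Pi.single_eq_of_ne fun e' => hxw (huniq x e' heq (by rw [← e']; exact hx)), zero_mul]
          · rfl

end Groth.Agent.CycLib.AffBundle
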