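import Groth.Agent.CycLib.Comm
import Groth.Agent.CycLib.PushRat
import Groth.Agent.AmpleLib.Pullback

/-! # Commutativity of first Chern classes -/

set_option autoImplicit false
set_option backward.isDefEq.respectTransparency false
set_option linter.style.haveILetI false

universe u

open CategoryTheory AlgebraicGeometry TopologicalSpace

noncomputable section

namespace Groth.Agent.CycLib

theorem exists_ne_zero_finsum {α : Type*} {f : α → ℤ} (h : ∑ᶠ i, f i ≠ 0) : ∃ i, f i ≠ 0 := by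
  by_contra hall
  push Not at hall
  exact h (finsum_eq_zero_of_forall_eq_zero hall)

variable {X : Scheme.{u}} {δ : X → ℤ} {k : ℤ}

/-- A locally finite union of families. -/
def Fam.sigma {I : Type u} (P : I → X) (hP : ∀ U : X.Opens, IsCompact (U : Set X) → {i | P i ∈ U}.Finite)
    (G : I → Fam δ k) (hG : ∀ i j, P i ⤳ (G i).ξ j) : Fam δ k where
  ι := Σ i, (G i).ι
  ξ j := (G j.1).ξ j.2
  f j := (G j.1).f j.2
  hξ j := (G j.1).hξ j.2
  hf j := (G j.1).hf j.2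
  fin x := by
    obtain ⟨U, hU, hx⟩ := exists_affine x
    refine ⟨U, U.2, hx, ?_⟩
    refine ((hP U hU.isCompact).biUnion fun i _ =>
      ((G i).finite_mem (U := U) hU.isCompact).image (Sigma.mk i)).subset fun j hj => ?_
    obtain ⟨y, hy, hyU⟩ := hj
    have h1 : (G j.1).ξ j.2 ∈ U := (specializes_iff_mem_closure.2 hy).mem_open U.2 hyU
    exact Set.mem_biUnion (x := j.1) ((hG j.1 j.2).mem_open U.2 h1) ⟨j.2, h1, rfl⟩

theorem Fam.sigma_sum {I : Type u} (P : I → X) (hP : ∀ U : X.Opens, IsCompact (U : Set X) → {i | P i ∈ U}.Finite)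
    (G : I → Fam δ k) (hG : ∀ i j, P i ⤳ (G i).ξ j) (x : X) :
    ∑ᶠ j, Cyc.divFun δ ((Fam.sigma P hP G hG).ξ j) ((Fam.sigma P hP G hG).f j) x =
      ∑ᶠ i, ∑ᶠ j, Cyc.divFun δ ((G i).ξ j) ((G i).f j) x := by
  classical
  obtain ⟨U, hU, hx⟩ := exists_affine x
  let S := (hP U hU.isCompact).toFinset
  have hmem : ∀ i j, Cyc.divFun δ ((G i).ξ j) ((G i).f j) x ≠ 0 → i ∈ S := fun i j h =>
    (hP U hU.isCompact).mem_toFinset.2 ((hG i j).trans (specializes_of_divFun_ne_zero h).1 |>.mem_open U.2 hx)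
  let T := fun i => ((G i).finite_support x).toFinset
  rw [finsum_eq_sum_of_support_subset _ (s := S) fun i hi => ?_]
  · show ∑ᶠ j : (Σ i, (G i).ι), Cyc.divFun δ ((G j.1).ξ j.2) ((G j.1).f j.2) x = _
    rw [finsum_eq_sum_of_support_subset _ (s := S.sigma T) fun j hj =>
      Finset.mem_coe.2 (Finset.mem_sigma.2 ⟨hmem j.1 j.2 hj, ((G j.1).finite_support x).mem_toFinset.2 hj⟩),
      Finset.sum_sigma]
    refine Finset.sum_congr rfl fun i _ => ?_
    rw [finsum_eq_sum_of_support_subset _ (s := T i) fun j hj => ((G i).finite_support x).mem_toFinset.2 hj]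
  · by_contra hn
    refine hi (finsum_eq_zero_of_forall_eq_zero fun j => by_contra fun h => hn (hmem i j h))

/-- A family raised to an integral power. -/
def Fam.pow (F : Fam δ k) (n : ℤ) : Fam δ k where
  ι := F.ι
  ξ := F.ξ
  f j := F.f j ^ n
  hξ := F.hξ
  hf j := zpow_ne_zero _ (F.hf j)
  fin := F.fin

section dimfun

variable [IsLocallyNoetherian X] (hδ : Cyc.IsDimFun X δ)
include hδ

theorem Fam.pow_sum (F : Fam δ k) (n : ℤ) (x : X) :
    ∑ᶠ j, Cyc.divFun δ ((F.pow n).ξ j) ((F.pow n).f j) x = n * ∑ᶠ j, Cyc.divFun δ (F.ξ j) (F.f j) x := by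
  rw [mul_finsum' _ _ (F.finite_support x)]
  refine finsum_congr fun j => ?_
  show Cyc.divFun δ (F.ξ j) (F.f j ^ n) x = _
  by_cases h : F.ξ j ⤳ x ∧ δ x + 1 = δ (F.ξ j)
  · rw [divFun_of h.1 h.2, divFun_of h.1 h.2, ordAt_zpow hδ h.1 h.2 (F.hf j)]
  · rw [Cyc.divFun, Cyc.divFun, dif_neg h, dif_neg h, mul_zero]

variable {L : X.Modules}

/-- The divisor of a rational section is locally finite. -/
theorem finite_inter_support_secDivFun (hL : PicF.IsInvertible L) (ξ : X) (s : Cyc.secFibre L ξ) (x : X) :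
    ∃ U : X.Opens, x ∈ U ∧ ((U : Set X) ∩ Function.support (Cyc.secDivFun δ L ξ s)).Finite := by
  obtain ⟨W, σ, hxW, hσ⟩ := ParaFLib.exists_gen_nhd hL x
  obtain ⟨U, hU, hxU, hUW⟩ := exists_isAffineOpen_mem_and_subset (x := x) (U := W) hxW
  refine ⟨U, hxU, ?_⟩
  by_cases hξ : ξ ∈ U
  swap
  · refine Set.Finite.subset Set.finite_empty fun y ⟨hy, hy'⟩ => hξ ?_
    exact (specializes_of_secDivFun_ne_zero hy').1.mem_open U.2 hy
  obtain ⟨φ, rfl⟩ := exists_smul_mkF (hσ.bijective_germ ξ (hUW hξ)) s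
  refine (finite_inter_support_divFun hδ ξ (X.residue ξ φ) hU).subset fun y ⟨hy, hy'⟩ => ⟨hy, ?_⟩
  obtain ⟨h, hd⟩ := specializes_of_secDivFun_ne_zero hy'
  rw [Function.mem_support] at hy' ⊢
  have e := TopCat.Presheaf.germ_stalkSpecializes_apply L.presheaf (hUW hy) h σ
  rw [← e, secDivFun_of h hd, secOrdAt_eq hδ h hd (hσ.bijective_germ y (hUW hy))
    (by rw [e]; exact hσ.bijective_germ ξ (hUW hξ))] at hy'
  rwa [divFun_of h hd]

end dimfun

variable {L N : X.Modules} [IsLocallyNoetherian X]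

/-- Divisor coefficient sums. -/
theorem finite_support_secDiv_mul (hδ : Cyc.IsDimFun X δ) (hL : PicF.IsInvertible L) (ξ : X) (s : Cyc.secFibre L ξ)
    (v : (ζ : X) → Cyc.secFibre N ζ) (x : X) :
    (Function.support fun ζ => Cyc.secDivFun δ L ξ s ζ * Cyc.secDivFun δ N ζ (v ζ) x).Finite := by
  obtain ⟨U, hxU, hfin⟩ := finite_inter_support_secDivFun hδ hL ξ s x
  exact hfin.subset fun ζ hζ =>
    ⟨(specializes_of_secDivFun_ne_zero (right_ne_zero_of_mul hζ)).1.mem_open U.2 hxU, left_ne_zero_of_mul hζ⟩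

/-- Commutativity on an integral closed subscheme. -/
theorem exists_fam_comm_closed (hX : Cyc.IsSetup X δ) (hL : PicF.IsInvertible L) (hN : PicF.IsInvertible N)
    {Z : Scheme.{u}} [IsIntegral Z] (i : Z ⟶ X) [IsClosedImmersion i]
    (hk : δ (i (genericPoint Z)) = k + 2) (s : Cyc.secFibre L (i (genericPoint Z))) (hs : s ≠ 0)
    (t : Cyc.secFibre N (i (genericPoint Z))) (ht : t ≠ 0)
    (u : (ζ : X) → Cyc.secFibre N ζ) (hu : ∀ ζ, u ζ ≠ 0) (v : (ζ : X) → Cyc.secFibre L ζ) (hv : ∀ ζ, v ζ ≠ 0) :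
    ∃ G : Fam δ k, (∀ j, i (genericPoint Z) ⤳ G.ξ j) ∧ (∀ j, ¬ Triv t u (G.ξ j) ∧ ¬ Triv s v (G.ξ j)) ∧ ∀ x : X,
      Cyc.c1CapFun δ N (Cyc.secDivFun δ L (i (genericPoint Z)) s) u x -
          Cyc.c1CapFun δ L (Cyc.secDivFun δ N (i (genericPoint Z)) t) v x =
        ∑ᶠ j, Cyc.divFun δ (G.ξ j) (G.f j) x := by
  classical
  have hδ := hX.2.2
  have hZ := isSetup_closed i hX
  haveI := hZ.1
  have hLZ := AmpleLib.isInvertible_pullback i hL
  have hNZ := AmpleLib.isInvertible_pullback i hN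
  obtain ⟨F, hF', hF⟩ := exists_fam_comm hZ hLZ hNZ (pullFib i L _ s) (pullFib_ne_zero i L hL hs)
    (pullFib i N _ t) (pullFib_ne_zero i N hN ht) (fun ζ => pullFib i N ζ (u (i ζ)))
    (fun ζ => pullFib_ne_zero i N hN (hu _)) (fun ζ => pullFib i L ζ (v (i ζ)))
    (fun ζ => pullFib_ne_zero i L hL (hv _))
  choose g hg using fun j => (bijective_residueFieldMap i (F.ξ j)).2 (F.f j)
  let G : Fam δ k :=
    { ι := F.ι
      ξ := fun j => i (F.ξ j)
      f := g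
      hξ := fun j => by
        have := F.hξ j
        show δ (i (F.ξ j)) = k + 1
        have e : δ (i (F.ξ j)) = δ (i (genericPoint Z)) - 2 + 1 := this
        omega
      hf := fun j e => F.hf j (by rw [← hg j, e, map_zero])
      fin := fun x => by
        obtain ⟨V, hV, hx⟩ := exists_affine x
        refine ⟨V, V.2, hx, (F.finite_mem (U := i ⁻¹ᵁ V) (i.isSpectralMap.2 V.isOpen hV.isCompact)).subset fun j hj => ?_⟩
        obtain ⟨y, hy, hyV⟩ := hj
        exact (specializes_iff_mem_closure.2 hy).mem_open V.2 hyV }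
  refine ⟨G, fun j => (genericPoint_specializes (F.ξ j)).map i.continuous, fun j =>
    ⟨fun ⟨h, τ, hτ, ht', hu'⟩ => ?_, fun ⟨h, τ, hτ, ht', hu'⟩ => ?_⟩, fun x => ?_⟩
  · haveI := InvExt.isQCoh_of_isInvertible hN
    refine (hF' j).1 ⟨genericPoint_specializes (F.ξ j), PullbackMod.pullStalk i N (F.ξ j) τ,
      ProjBundleLib.bijective_pullStalk_gen i (F.ξ j) hτ, ?_, ?_⟩
    · rw [stalkSpecializes_pullStalk i N (genericPoint_specializes (F.ξ j)) τ, ← pullFib_mkF]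
      exact congrArg (pullFib i N _) ht'
    · show pullFib i N (F.ξ j) (u (i (F.ξ j))) = _
      rw [hu', pullFib_mkF]
  · haveI := InvExt.isQCoh_of_isInvertible hL
    refine (hF' j).2 ⟨genericPoint_specializes (F.ξ j), PullbackMod.pullStalk i L (F.ξ j) τ,
      ProjBundleLib.bijective_pullStalk_gen i (F.ξ j) hτ, ?_, ?_⟩
    · rw [stalkSpecializes_pullStalk i L (genericPoint_specializes (F.ξ j)) τ, ← pullFib_mkF]
      exact congrArg (pullFib i L _) ht'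
    · show pullFib i L (F.ξ j) (v (i (F.ξ j))) = _
      rw [hu', pullFib_mkF]
  have haL : ∀ ζ, Cyc.secDivFun δ L (i (genericPoint Z)) s ζ ≠ 0 → ζ ∈ Set.range i := fun ζ h =>
    mem_range_of_specializes i (specializes_of_secDivFun_ne_zero h).1
  have haN : ∀ ζ, Cyc.secDivFun δ N (i (genericPoint Z)) t ζ ≠ 0 → ζ ∈ Set.range i := fun ζ h =>
    mem_range_of_specializes i (specializes_of_secDivFun_ne_zero h).1
  by_cases hx : x ∈ Set.range i
  · obtain ⟨z, rfl⟩ := hx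
    rw [c1CapFun_closed i hδ hN _ haL, c1CapFun_closed i hδ hL _ haN,
      show (fun η => Cyc.secDivFun δ L (i (genericPoint Z)) s (i η)) =
        Cyc.secDivFun (fun z => δ (i z)) ((Scheme.Modules.pullback i).obj L) (genericPoint Z) (pullFib i L _ s) from
          funext fun η => secDivFun_closed i hδ hL _ η s,
      show (fun η => Cyc.secDivFun δ N (i (genericPoint Z)) t (i η)) =
        Cyc.secDivFun (fun z => δ (i z)) ((Scheme.Modules.pullback i).obj N) (genericPoint Z) (pullFib i N _ t) from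
          funext fun η => secDivFun_closed i hδ hN _ η t, hF z]
    refine finsum_congr fun j => ?_
    show _ = Cyc.divFun δ (i (F.ξ j)) (g j) (i z)
    rw [← hg j]
    exact divFun_map i hδ hZ.2.2 (F.ξ j) z (g j)
  · rw [c1CapFun_eq_zero_of_notMem i _ haL u hx, c1CapFun_eq_zero_of_notMem i _ haN v hx, sub_zero, eq_comm]
    refine finsum_eq_zero_of_forall_eq_zero fun j => ?_
    by_contra hne
    exact hx (mem_range_of_specializes i (specializes_of_divFun_ne_zero hne).1)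


/-- Commutativity on the closure of a point. -/
theorem exists_fam_comm_point (hX : Cyc.IsSetup X δ) (hL : PicF.IsInvertible L) (hN : PicF.IsInvertible N) (ξ : X)
    (hk : δ ξ = k + 2) (s : Cyc.secFibre L ξ) (hs : s ≠ 0) (t : Cyc.secFibre N ξ) (ht : t ≠ 0)
    (u : (ζ : X) → Cyc.secFibre N ζ) (hu : ∀ ζ, u ζ ≠ 0) (v : (ζ : X) → Cyc.secFibre L ζ) (hv : ∀ ζ, v ζ ≠ 0) :
    ∃ G : Fam δ k, (∀ j, ξ ⤳ G.ξ j) ∧ (∀ j, ¬ Triv t u (G.ξ j) ∧ ¬ Triv s v (G.ξ j)) ∧ ∀ x : X,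
      Cyc.c1CapFun δ N (Cyc.secDivFun δ L ξ s) u x - Cyc.c1CapFun δ L (Cyc.secDivFun δ N ξ t) v x =
        ∑ᶠ j, Cyc.divFun δ (G.ξ j) (G.f j) x := by
  classical
  let C : Closeds X := ⟨closure {ξ}, isClosed_closure⟩
  let I := Scheme.IdealSheafData.vanishingIdeal C
  let i := I.subschemeι
  haveI : IsIntegral I.subscheme :=
    CurveLib.isIntegral_vanishingIdeal isClosed_closure isIrreducible_singleton.closure
  have hri : Set.range i = closure {ξ} := by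
    rw [Scheme.IdealSheafData.range_subschemeι, Scheme.IdealSheafData.coe_support_vanishingIdeal]
    rfl
  have hg : i (genericPoint I.subscheme) = ξ := by
    refine ((genericPoint_spec I.subscheme).image i.continuous).eq ?_
    rw [Set.image_univ, hri, closure_closure]
    exact isGenericPoint_closure
  revert hk s hs t ht
  rw [← hg]
  intro hk s hs t ht
  exact exists_fam_comm_closed hX hL hN i hk s hs t ht u hu v hv

omit [IsLocallyNoetherian X] in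
theorem finite_mem_cycle (α : AlgebraicCycle X ℤ) (U : X.Opens) (hU : IsCompact (U : Set X)) :
    {i : {ξ : X // α ξ ≠ 0} | i.1 ∈ U}.Finite :=
  ((α.locallyFiniteSupport.finite_inter_support_of_isCompact hU).preimage Subtype.val_injective.injOn).subset
    fun i hi => ⟨hi, i.2⟩

/-- A cap of a cap, member by member. -/
theorem c1Cap_c1Cap_apply (hδ : Cyc.IsDimFun X δ) (hN : PicF.IsInvertible N) (α : AlgebraicCycle X ℤ)
    (sL : (ξ : X) → Cyc.secFibre L ξ) (sN : (ξ : X) → Cyc.secFibre N ξ) (x : X) :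
    Cyc.c1CapFun δ L (Cyc.c1CapFun δ N ⇑α sN) sL x =
      ∑ᶠ ξ : X, α ξ * Cyc.c1CapFun δ L (Cyc.secDivFun δ N ξ (sN ξ)) sL x ∧
    (Function.support fun ξ => α ξ * Cyc.c1CapFun δ L (Cyc.secDivFun δ N ξ (sN ξ)) sL x).Finite := by
  classical
  obtain ⟨U, hU, hx⟩ := exists_affine x
  have hS := α.locallyFiniteSupport.finite_inter_support_of_isCompact hU.isCompact
  let S := hS.toFinset
  choose W hxW hW using fun ξ => finite_inter_support_secDivFun hδ hN ξ (sN ξ) x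
  let T := S.biUnion fun ξ => (hW ξ).toFinset
  have hmemS : ∀ ξ ζ, α ξ ≠ 0 → Cyc.secDivFun δ N ξ (sN ξ) ζ ≠ 0 → Cyc.secDivFun δ L ζ (sL ζ) x ≠ 0 →
      ξ ∈ S ∧ ζ ∈ T := fun ξ ζ h1 h2 h3 => by
    have hζx := (specializes_of_secDivFun_ne_zero h3).1
    have hξ : ξ ∈ S := hS.mem_toFinset.2
      ⟨((specializes_of_secDivFun_ne_zero h2).1.trans hζx).mem_open U.2 hx, h1⟩
    exact ⟨hξ, Finset.mem_biUnion.2 ⟨ξ, hξ, (hW ξ).mem_toFinset.2 ⟨hζx.mem_open (W ξ).2 (hxW ξ), h2⟩⟩⟩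
  have hsub : (Function.support fun ξ => α ξ * Cyc.c1CapFun δ L (Cyc.secDivFun δ N ξ (sN ξ)) sL x) ⊆ S := fun ξ hξ => by
    obtain ⟨ζ, hζ⟩ := exists_ne_zero_finsum (right_ne_zero_of_mul hξ)
    exact (hmemS ξ ζ (left_ne_zero_of_mul hξ) (left_ne_zero_of_mul hζ) (right_ne_zero_of_mul hζ)).1
  refine ⟨?_, S.finite_toSet.subset hsub⟩
  rw [finsum_eq_sum_of_support_subset _ hsub]
  show ∑ᶠ ζ : X, Cyc.c1CapFun δ N ⇑α sN ζ * Cyc.secDivFun δ L ζ (sL ζ) x = _
  have e1 : ∀ ζ, Cyc.c1CapFun δ N ⇑α sN ζ * Cyc.secDivFun δ L ζ (sL ζ) x =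
      ∑ ξ ∈ S, α ξ * Cyc.secDivFun δ N ξ (sN ξ) ζ * Cyc.secDivFun δ L ζ (sL ζ) x := fun ζ => by
    by_cases h3 : Cyc.secDivFun δ L ζ (sL ζ) x = 0
    · simp [h3]
    rw [show Cyc.c1CapFun δ N ⇑α sN ζ = ∑ᶠ ξ : X, α ξ * Cyc.secDivFun δ N ξ (sN ξ) ζ from rfl,
      finsum_eq_sum_of_support_subset _ (s := S) fun ξ hξ =>
        (hmemS ξ ζ (left_ne_zero_of_mul hξ) (right_ne_zero_of_mul hξ) h3).1, Finset.sum_mul]
  have hsub2 : (Function.support fun ζ => Cyc.c1CapFun δ N ⇑α sN ζ * Cyc.secDivFun δ L ζ (sL ζ) x) ⊆ T := fun ζ hζ => by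
    obtain ⟨ξ, hξ⟩ := exists_ne_zero_finsum (left_ne_zero_of_mul hζ)
    exact (hmemS ξ ζ (left_ne_zero_of_mul hξ) (right_ne_zero_of_mul hξ) (right_ne_zero_of_mul hζ)).2
  rw [finsum_eq_sum_of_support_subset _ hsub2, Finset.sum_congr rfl fun ζ _ => e1 ζ, Finset.sum_comm]
  refine Finset.sum_congr rfl fun ξ _ => ?_
  by_cases hξ : α ξ = 0
  · simp [hξ]
  rw [show Cyc.c1CapFun δ L (Cyc.secDivFun δ N ξ (sN ξ)) sL x =
      ∑ᶠ ζ : X, Cyc.secDivFun δ N ξ (sN ξ) ζ * Cyc.secDivFun δ L ζ (sL ζ) x from rfl,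
    finsum_eq_sum_of_support_subset _ (s := T) fun ζ hζ =>
      (hmemS ξ ζ hξ (left_ne_zero_of_mul hζ) (right_ne_zero_of_mul hζ)).2, Finset.mul_sum]
  exact Finset.sum_congr rfl fun ζ _ => by ring

/-- `c₁(L) ∩ (c₁(N) ∩ α) ∼ c₁(N) ∩ (c₁(L) ∩ α)`, with an explicit family. -/
theorem c1Cap_comm (hX : Cyc.IsSetup X δ) (hL : PicF.IsInvertible L) (hN : PicF.IsInvertible N)
    (α : AlgebraicCycle X ℤ) (hα : α ∈ Cyc.Zk X δ (k + 2))
    (sL sL' : (ξ : X) → Cyc.secFibre L ξ) (sN sN' : (ξ : X) → Cyc.secFibre N ξ)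
    (hsL : ∀ ξ, sL ξ ≠ 0) (hsL' : ∀ ξ, sL' ξ ≠ 0) (hsN : ∀ ξ, sN ξ ≠ 0) (hsN' : ∀ ξ, sN' ξ ≠ 0)
    (γ₁ γ₂ : AlgebraicCycle X ℤ) (h₁ : ⇑γ₁ = Cyc.c1CapFun δ L (Cyc.c1CapFun δ N ⇑α sN) sL)
    (h₂ : ⇑γ₂ = Cyc.c1CapFun δ N (Cyc.c1CapFun δ L ⇑α sL') sN') : Cyc.RatEquiv δ k γ₁ γ₂ := by
  have hk : ∀ i : {ξ : X // α ξ ≠ 0}, δ i.1 = k + 2 := fun i => by
    by_contra hne
    exact i.2 (hα i.1 hne)
  choose G hG hG' hsum using fun i : {ξ : X // α ξ ≠ 0} =>
    exists_fam_comm_point hX hN hL i.1 (hk i) (sN i.1) (hsN _) (sL' i.1) (hsL' _) sL hsL sN' hsN'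
  refine (ratEquivZero_iff _).2 ⟨Fam.sigma (fun i => i.1) (finite_mem_cycle α) (fun i => (G i).pow (α i.1))
    (fun i j => hG i j), fun x => ?_⟩
  show γ₁ x - γ₂ x = _
  obtain ⟨e₁, f₁⟩ := c1Cap_c1Cap_apply hX.2.2 hN α sL sN x
  obtain ⟨e₂, f₂⟩ := c1Cap_c1Cap_apply hX.2.2 hL α sN' sL' x
  rw [Fam.sigma_sum, h₁, h₂, e₁, e₂, ← finsum_sub_distrib f₁ f₂, finsum_congr fun i => Fam.pow_sum hX.2.2 (G i) (α i.1) x,
    finsum_congr fun i => congrArg (α i.1 * ·) (hsum i x).symm,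
    finsum_subtype_eq_finsum_cond (f := fun ξ : X => α ξ * (Cyc.c1CapFun δ L (Cyc.secDivFun δ N ξ (sN ξ)) sL x -
      Cyc.c1CapFun δ N (Cyc.secDivFun δ L ξ (sL' ξ)) sN' x)) (fun ξ => α ξ ≠ 0)]
  refine finsum_congr fun ξ => ?_
  rw [finsum_eq_if]
  split_ifs with h
  · rw [mul_sub]
  · rw [not_not.1 h, zero_mul, zero_mul, sub_zero]

/-- `c₁(L) ∩ −` kills cycles rationally equivalent to zero. -/
theorem c1Cap_ratEquivZero (hX : Cyc.IsSetup X δ) (hL : PicF.IsInvertible L) {α : AlgebraicCycle X ℤ}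
    (h0 : Cyc.RatEquivZero δ (k + 1) α) (s : (ξ : X) → Cyc.secFibre L ξ) (hs : ∀ ξ, s ξ ≠ 0)
    (γ : AlgebraicCycle X ℤ) (hγ : ⇑γ = Cyc.c1CapFun δ L ⇑α s) : Cyc.RatEquivZero δ k γ := by
  classical
  have hδ := hX.2.2
  obtain ⟨F, hF⟩ := (ratEquivZero_iff _).1 h0
  have hO : PicF.IsInvertible (Coh.structureModule X) := ParaFLib.isInvertible_structureModule
  let one : (ζ : X) → Cyc.secFibre (Coh.structureModule X) ζ := fun ζ => mkF _ ζ (ParaFLib.oneG ζ)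
  have hone : ∀ ζ, one ζ ≠ 0 := fun ζ e => by
    have := (smul_mkF_eq_zero_iff (ParaFLib.bijective_oneG ζ) 1).1 (by rw [one_smul]; exact e)
    rw [map_one] at this
    exact one_ne_zero this
  choose φ hφ using fun j => X.residue_surjective (F.ξ j) (F.f j)
  let w : (j : F.ι) → Cyc.secFibre (Coh.structureModule X) (F.ξ j) := fun j => φ j • one (F.ξ j)
  have hw : ∀ j, w j ≠ 0 := fun j e =>
    F.hf j (by rw [← hφ j]; exact (smul_mkF_eq_zero_iff (ParaFLib.bijective_oneG _) _).1 e)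
  have hdivO : ∀ (ξ x : X) (g : X.presheaf.stalk ξ), Cyc.secDivFun δ (Coh.structureModule X) ξ (g • one ξ) x =
      Cyc.divFun δ ξ (X.residue ξ g) x := fun ξ x g => by
    by_cases h : ξ ⤳ x ∧ δ x + 1 = δ ξ
    · have e : one ξ = mkF _ ξ ((Coh.structureModule X).presheaf.stalkSpecializes h.1 (ParaFLib.oneG x)) := by
        rw [stalkSpecializes_oneG]
      rw [secDivFun_of h.1 h.2, divFun_of h.1 h.2, e, secOrdAt_eq hδ h.1 h.2 (ParaFLib.bijective_oneG x)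
        (by rw [stalkSpecializes_oneG]; exact ParaFLib.bijective_oneG ξ)]
    · rw [Cyc.secDivFun, Cyc.divFun, dif_neg h, dif_neg h]
  choose G hG hG' hsum using fun j => exists_fam_comm_point (k := k) hX hO hL (F.ξ j) (by rw [F.hξ]; ring) (w j) (hw j)
    (s (F.ξ j)) (hs _) s hs one hone
  refine (ratEquivZero_iff _).2 ⟨Fam.sigma F.ξ (fun U hU => F.finite_mem hU) G hG, fun x => ?_⟩
  rw [Fam.sigma_sum, hγ]
  have hzero : ∀ j, Cyc.c1CapFun δ (Coh.structureModule X) (Cyc.secDivFun δ L (F.ξ j) (s (F.ξ j))) one x = 0 := fun j =>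
    finsum_eq_zero_of_forall_eq_zero fun ζ => by
      have : Cyc.secDivFun δ (Coh.structureModule X) ζ (one ζ) x = 0 := by
        rw [← one_smul (X.presheaf.stalk ζ) (one ζ), hdivO ζ x 1, map_one]
        by_cases h : ζ ⤳ x ∧ δ x + 1 = δ ζ
        · rw [divFun_of h.1 h.2, ordAt_one hδ h.1 h.2]
        · exact dif_neg h
      rw [this, mul_zero]
  have hj : ∀ j, ∑ᶠ i, Cyc.divFun δ ((G j).ξ i) ((G j).f i) x =
      ∑ᶠ ζ : X, Cyc.divFun δ (F.ξ j) (F.f j) ζ * Cyc.secDivFun δ L ζ (s ζ) x := fun j => by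
    rw [← hsum j x, hzero j, sub_zero]
    refine finsum_congr fun ζ => ?_
    rw [hdivO (F.ξ j) ζ (φ j), hφ j]
  rw [finsum_congr hj]
  show ∑ᶠ ζ : X, α ζ * Cyc.secDivFun δ L ζ (s ζ) x = _
  obtain ⟨U, hU, hx⟩ := exists_affine x
  let J := (F.finite_mem (U := U) hU.isCompact).toFinset
  let T := J.biUnion fun j => (finite_inter_support_divFun hδ (F.ξ j) (F.f j) hU).toFinset
  have hmem : ∀ j ζ, Cyc.divFun δ (F.ξ j) (F.f j) ζ ≠ 0 → Cyc.secDivFun δ L ζ (s ζ) x ≠ 0 → j ∈ J ∧ ζ ∈ T :=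
    fun j ζ h1 h2 => by
      have hζx := (specializes_of_secDivFun_ne_zero h2).1
      have hj : j ∈ J := (F.finite_mem (U := U) hU.isCompact).mem_toFinset.2
        (((specializes_of_divFun_ne_zero h1).1.trans hζx).mem_open U.2 hx)
      exact ⟨hj, Finset.mem_biUnion.2 ⟨j, hj, (finite_inter_support_divFun hδ (F.ξ j) (F.f j) hU).mem_toFinset.2
        ⟨hζx.mem_open U.2 hx, h1⟩⟩⟩
  have e1 : ∀ ζ, α ζ * Cyc.secDivFun δ L ζ (s ζ) x =
      ∑ j ∈ J, Cyc.divFun δ (F.ξ j) (F.f j) ζ * Cyc.secDivFun δ L ζ (s ζ) x := fun ζ => by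
    by_cases h2 : Cyc.secDivFun δ L ζ (s ζ) x = 0
    · simp [h2]
    rw [hF, finsum_eq_sum_of_support_subset _ (s := J) fun j hj => (hmem j ζ hj h2).1, Finset.sum_mul]
  rw [finsum_eq_sum_of_support_subset _ (s := T) fun ζ hζ => by
      rw [Function.mem_support] at hζ
      rw [hF] at hζ
      obtain ⟨j, hj⟩ := exists_ne_zero_finsum (left_ne_zero_of_mul hζ)
      exact (hmem j ζ hj (right_ne_zero_of_mul hζ)).2,
    finsum_eq_sum_of_support_subset _ (s := J) fun j hj => by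
      obtain ⟨ζ, hζ⟩ := exists_ne_zero_finsum hj
      exact (hmem j ζ (left_ne_zero_of_mul hζ) (right_ne_zero_of_mul hζ)).1,
    Finset.sum_congr rfl fun ζ _ => e1 ζ, Finset.sum_comm]
  refine Finset.sum_congr rfl fun j _ => ?_
  rw [finsum_eq_sum_of_support_subset _ (s := T) fun ζ hζ =>
    (hmem j ζ (left_ne_zero_of_mul hζ) (right_ne_zero_of_mul hζ)).2]

end Groth.Agent.CycLib
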