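import Groth.Agent.CycLib.AffineFib
import Groth.Agent.CycLib.CommGlobal

/-! # Surjectivity of flat pullback along affine bundles -/

set_option autoImplicit false
set_option backward.isDefEq.respectTransparency false
set_option linter.style.haveILetI false

universe u

open CategoryTheory CategoryTheory.Limits AlgebraicGeometry TopologicalSpace

noncomputable section

namespace Groth.Agent.CycLib.AffBundle

variable {X Y : Scheme.{u}} (f : X ⟶ Y) [LocallyOfFiniteType f] [QuasiCompact f] [IsLocallyNoetherian Y]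
  [IsLocallyNoetherian X] (δX : X → ℤ) (δY : Y → ℤ) (r : ℕ) (k : ℤ)

/-- A cycle written as a pullback plus principal divisors, with everything over `C`. -/
structure Dec (C : Set Y) (β : X → ℤ) where
  α : Y → ℤ
  αfin : ∀ W : Y.Opens, IsAffineOpen W → ((W : Set Y) ∩ Function.support α).Finite
  αdeg : ∀ y, α y ≠ 0 → δY y = k ∧ y ∈ C
  F : Fam δX (k + r)
  FC : ∀ i, f (F.ξ i) ∈ C
  eq : ∀ x, β x = Cyc.pullFun f δX δY r α x + ∑ᶠ i, Cyc.divFun δX (F.ξ i) (F.f i) x

variable {δX δY r k}

open scoped Classical in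
theorem combine (hX : Cyc.IsDimFun X δX) (β : X → ℤ)
    (hfin : ∀ W : Y.Opens, IsAffineOpen W → ((f ⁻¹ᵁ W : Set X) ∩ Function.support β).Finite)
    (hdec : ∀ w, β w ≠ 0 → Nonempty (Dec f δX δY r k (closure {f w}) (Pi.single w 1)))
    {C : Set Y} (hC : IsClosed C) (hβC : ∀ w, β w ≠ 0 → f w ∈ C) : Nonempty (Dec f δX δY r k C β) := by
  let D := fun w : {w // β w ≠ 0} => Classical.choice (hdec w.1 w.2)
  have hsub : ∀ w : {w // β w ≠ 0}, closure {f w.1} ⊆ C := fun w =>
    hC.closure_subset_iff.2 (Set.singleton_subset_iff.2 (hβC w.1 w.2))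
  have hmem : ∀ (W : Y.Opens) (w : {w // β w ≠ 0}) (y : Y), y ∈ W → y ∈ closure {f w.1} → f w.1 ∈ W :=
    fun W w y hy h => (specializes_iff_mem_closure.2 h).mem_open W.2 hy
  have hW : ∀ W : Y.Opens, IsAffineOpen W → {w : {w // β w ≠ 0} | f w.1 ∈ W}.Finite := fun W hW =>
    ((hfin W hW).preimage (f := fun w : {w // β w ≠ 0} => w.1) Subtype.val_injective.injOn).subset
      fun w hw => ⟨hw, w.2⟩
  let F : Fam δX (k + r) :=
    { ι := Σ w : {w // β w ≠ 0}, (D w).F.ι
      ξ := fun q => (D q.1).F.ξ q.2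
      f := fun q => (D q.1).F.f q.2 ^ β q.1.1
      hξ := fun q => (D q.1).F.hξ q.2
      hf := fun q => zpow_ne_zero _ ((D q.1).F.hf q.2)
      fin := fun x => by
        obtain ⟨W, hWa, hxW⟩ := exists_affine (f x)
        have hc : IsCompact ((f ⁻¹ᵁ W : X.Opens) : Set X) := f.isCompact_preimage hWa.isCompact
        refine ⟨_, (f ⁻¹ᵁ W).2, hxW, ((hW W hWa).toFinset.sigma
          fun w => ((D w).F.finite_mem hc).toFinset).finite_toSet.subset fun q ⟨y, hy, hyW⟩ => ?_⟩
        have hq : (D q.1).F.ξ q.2 ∈ f ⁻¹ᵁ W := (specializes_iff_mem_closure.2 hy).mem_open (f ⁻¹ᵁ W).2 hyW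
        have hw : f q.1.1 ∈ W := hmem W q.1 _ hq ((D q.1).FC q.2)
        have hq' : q.2 ∈ {i | (D q.1).F.ξ i ∈ f ⁻¹ᵁ W} := hq
        simpa [hw] using hq' }
  refine ⟨⟨fun y => ∑ᶠ w : {w // β w ≠ 0}, β w.1 * (D w).α y, fun W hWa => ?_, fun y hy => ?_, F, fun q =>
    hsub q.1 ((D q.1).FC q.2), fun x => ?_⟩⟩
  · refine ((hW W hWa).biUnion fun w _ => (D w).αfin W hWa).subset fun y ⟨hyW, hy⟩ => ?_
    obtain ⟨w, hw⟩ : ∃ w : {w // β w ≠ 0}, β w.1 * (D w).α y ≠ 0 := by
      by_contra hall
      push Not at hall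
      exact hy (finsum_eq_zero_of_forall_eq_zero hall)
    exact Set.mem_biUnion (hmem W w y hyW ((D w).αdeg y (right_ne_zero_of_mul hw)).2) ⟨hyW, right_ne_zero_of_mul hw⟩
  · obtain ⟨w, hw⟩ : ∃ w : {w // β w ≠ 0}, β w.1 * (D w).α y ≠ 0 := by
      by_contra hall
      push Not at hall
      exact hy (finsum_eq_zero_of_forall_eq_zero hall)
    exact ⟨((D w).αdeg y (right_ne_zero_of_mul hw)).1, hsub w ((D w).αdeg y (right_ne_zero_of_mul hw)).2⟩
  obtain ⟨W, hWa, hxW⟩ := exists_affine (f x)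
  set s := (hW W hWa).toFinset with hs
  have hα : ∀ w, (D w).α (f x) ≠ 0 → w ∈ s := fun w hw => by
    simpa [s] using hmem W w (f x) hxW ((D w).αdeg _ hw).2
  have hdiv : ∀ w i, Cyc.divFun δX ((D w).F.ξ i) ((D w).F.f i) x ≠ 0 → w ∈ s := fun w i hi => by
    have h : (D w).F.ξ i ∈ f ⁻¹ᵁ W := (specializes_of_divFun_ne_zero hi).1.mem_open (f ⁻¹ᵁ W).2 hxW
    simpa [s] using hmem W w _ h ((D w).FC i)
  have hβ : β x = ∑ w ∈ s, β w.1 * (Pi.single w.1 1 : X → ℤ) x := by
    by_cases hx : β x = 0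
    · rw [hx, Finset.sum_eq_zero fun w _ => ?_]
      rw [Pi.single_eq_of_ne (fun e => w.2 ((congrArg β e.symm).trans hx)), mul_zero]
    · rw [Finset.sum_eq_single (⟨x, hx⟩ : {w // β w ≠ 0}) (fun w _ hw => by
        rw [Pi.single_eq_of_ne (fun e => hw (Subtype.ext e.symm)), mul_zero]) (fun h => absurd (by simpa [s] using hxW) h),
        Pi.single_eq_same, mul_one]
  have hpow : ∀ (q : F.ι), Cyc.divFun δX (F.ξ q) (F.f q) x =
      β q.1.1 * Cyc.divFun δX ((D q.1).F.ξ q.2) ((D q.1).F.f q.2) x := fun q => by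
    show Cyc.divFun δX ((D q.1).F.ξ q.2) ((D q.1).F.f q.2 ^ β q.1.1) x = _
    by_cases h : (D q.1).F.ξ q.2 ⤳ x ∧ δX x + 1 = δX ((D q.1).F.ξ q.2)
    · rw [divFun_of h.1 h.2, divFun_of h.1 h.2, ordAt_zpow hX h.1 h.2 ((D q.1).F.hf q.2)]
    · rw [Cyc.divFun, Cyc.divFun, dif_neg h, dif_neg h, mul_zero]
  let t := fun w => ((D w).F.finite_support x).toFinset
  rw [finsum_congr hpow, finsum_eq_sum_of_support_subset (α := F.ι) _ (s := s.sigma t) ?_, Finset.sum_sigma, hβ]
  swap
  · intro q hq
    have h := right_ne_zero_of_mul hq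
    have h' : q.2 ∈ Function.support fun i => Cyc.divFun δX ((D q.1).F.ξ i) ((D q.1).F.f i) x := h
    exact Finset.mem_coe.2 (Finset.mem_sigma.2 ⟨hdiv q.1 q.2 h, ((D q.1).F.finite_support x).mem_toFinset.2 h'⟩)
  have hterm : ∀ w ∈ s, β w.1 * (Pi.single w.1 1 : X → ℤ) x = β w.1 * Cyc.pullFun f δX δY r (D w).α x +
      ∑ i ∈ t w, β w.1 * Cyc.divFun δX ((D w).F.ξ i) ((D w).F.f i) x := fun w _ => by
    rw [(D w).eq x, mul_add, finsum_eq_sum_of_support_subset _ (s := t w) (by simp [t]), Finset.mul_sum]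
  rw [Finset.sum_congr rfl hterm, Finset.sum_add_distrib]
  congr 1
  simp only [pullFun_apply]
  split_ifs
  · rw [finsum_eq_sum_of_support_subset _ (s := s) (fun w hw => hα w (right_ne_zero_of_mul hw)), Finset.sum_mul]
    exact Finset.sum_congr rfl fun w _ => by ring
  · simp

variable (hX : Cyc.IsDimFun X δX) (hY : Cyc.IsDimFun Y δY) (hδ : Cyc.DeltaCompat f δX δY) (hf : LocTriv f r)

include hX hY hδ hf in
open scoped Classical in
theorem dec_single (n : ℕ) : ∀ w : X, δX w = k + r → δY (f w) ≤ k + n →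
    Nonempty (Dec f δX δY r k (closure {f w}) (Pi.single w 1)) := by
  induction n using Nat.strong_induction_on with
  | _ n ihn =>
    intro w hw hn
    obtain ⟨hle, huniq⟩ := delta_le_add f hδ hf w
    rcases hle.lt_or_eq with hlt | heq
    swap
    · let F : Fam δX (k + r) := ⟨PEmpty, PEmpty.elim, fun i => i.elim, fun i => i.elim, fun i => i.elim,
        fun x => ⟨Set.univ, isOpen_univ, trivial, Set.toFinite _⟩⟩
      refine ⟨⟨Pi.single (f w) 1, fun W _ => ?_, fun y hy => ?_, F, fun i => i.elim, fun x => ?_⟩⟩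
      · refine (Set.finite_singleton (f w)).subset fun y hy => ?_
        by_contra hne
        exact hy.2 (Pi.single_eq_of_ne hne _)
      · obtain rfl : y = f w := by_contra fun hne => hy (Pi.single_eq_of_ne hne _)
        exact ⟨by omega, subset_closure rfl⟩
      · haveI : IsEmpty F.ι := inferInstanceAs (IsEmpty PEmpty)
        rw [finsum_of_isEmpty, add_zero, pullFun_apply]
        by_cases hxw : x = w
        · subst hxw
          rw [Pi.single_eq_same, if_pos heq, Pi.single_eq_same, length_fibIdeal f hδ hf x heq]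
          rfl
        · rw [Pi.single_eq_of_ne hxw]
          split_ifs with hx
          · rw [Pi.single_eq_of_ne fun e' => hxw (huniq x e' heq (by rw [← e']; exact hx)), zero_mul]
          · rfl
    obtain ⟨ι, _, ξ, g, k1, k2, k3, k4⟩ := exists_fibre_sum f hδ hf hX w (fun {_} z hz => by
      obtain ⟨ez⟩ := nonempty_fibre_iso hf (f w)
      convert single_mem_divSpan_poly r _ ez _ (fibDelta_dim f hδ (f w)) z hz) hlt
    let D : X → ℤ := ∑ i, Cyc.divFun δX (ξ i) (g i)
    let ρ : X → ℤ := Pi.single w 1 - D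
    have hne : ∀ x, ρ x ≠ 0 → δX x = k + r ∧ f w ⤳ f x ∧ f x ≠ f w := by
      intro x hx
      have hpx : f x ≠ f w := fun e' => hx (by
        show (Pi.single w 1 : X → ℤ) x - D x = 0
        rw [k4 x e', show D x = ∑ i, Cyc.divFun δX (ξ i) (g i) x from Finset.sum_apply _ _ _, sub_self])
      have hxw : x ≠ w := fun e' => hpx (congrArg f e')
      obtain ⟨i, hi⟩ : ∃ i, Cyc.divFun δX (ξ i) (g i) x ≠ 0 := by
        by_contra hall
        push Not at hall
        exact hx (by simp [ρ, D, Pi.single_eq_of_ne hxw, hall])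
      obtain ⟨s1, s2⟩ := specializes_of_divFun_ne_zero hi
      rw [k2 i] at s2
      exact ⟨by omega, k1 i ▸ s1.map f.continuous, hpx⟩
    let F0 : Fam δX (k + r) := ⟨ULift.{u} ι, fun i => ξ i.down, fun i => g i.down,
      fun i => by rw [k2, hw], fun i => k3 _, fun x => ⟨Set.univ, isOpen_univ, trivial, Set.toFinite _⟩⟩
    have hD : ∀ x, D x = F0.cycle hX x := fun x => by
      show _ = ∑ᶠ i : ULift.{u} ι, Cyc.divFun δX (ξ i.down) (g i.down) x
      rw [finsum_eq_sum_of_fintype, show D x = ∑ i, Cyc.divFun δX (ξ i) (g i) x from Finset.sum_apply _ _ _]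
      exact (Fintype.sum_equiv Equiv.ulift _ _ fun i => rfl).symm
    obtain ⟨E⟩ := combine f (δY := δY) (r := r) (k := k) hX ρ (fun W hWa => by
      refine ((Set.finite_singleton w).union ((F0.cycle hX).locallyFiniteSupport.finite_inter_support_of_isCompact
        (f.isCompact_preimage hWa.isCompact))).subset fun x ⟨hxW, hx⟩ => ?_
      by_cases hxw : x = w
      · exact Or.inl hxw
      · refine Or.inr ⟨hxW, fun h => hx ?_⟩
        show (Pi.single w 1 : X → ℤ) x - D x = 0
        rw [Pi.single_eq_of_ne hxw, hD, zero_sub, neg_eq_zero]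
        exact h)
      (fun x hx => by
        obtain ⟨a, b, c⟩ := hne x hx
        have h4 := (hY _ _ b c.symm).1
        have h5 := (delta_le_add f hδ hf x).1
        exact ihn (δY (f x) - k).toNat (by omega) x a (by omega))
      isClosed_closure (fun x hx => specializes_iff_mem_closure.1 (hne x hx).2.1)
    let F : Fam δX (k + r) :=
      { ι := F0.ι ⊕ E.F.ι
        ξ := Sum.elim F0.ξ E.F.ξ
        f := fun i => match i with
          | .inl i => F0.f i
          | .inr i => E.F.f i
        hξ := fun i => by cases i; exacts [F0.hξ _, E.F.hξ _]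
        hf := fun i => by cases i; exacts [F0.hf _, E.F.hf _]
        fin := fun x => by
          obtain ⟨U, hU, hx, hfin⟩ := E.F.fin x
          refine ⟨U, hU, hx, ((Set.finite_range Sum.inl).union (hfin.image Sum.inr)).subset ?_⟩
          rintro (i | i) hi
          exacts [Or.inl ⟨i, rfl⟩, Or.inr ⟨i, hi, rfl⟩] }
    refine ⟨⟨E.α, E.αfin, E.αdeg, F, fun i => ?_, fun x => ?_⟩⟩
    · cases i with
      | inl i => rw [show f (F.ξ (Sum.inl i)) = f w from k1 i.down]; exact subset_closure rfl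
      | inr i => exact E.FC i
    · have h1 := E.eq x
      change (Pi.single w 1 : X → ℤ) x - D x = _ at h1
      rw [hD] at h1
      have h2 : ∑ᶠ i, Cyc.divFun δX (F.ξ i) (F.f i) x =
          F0.cycle hX x + ∑ᶠ i, Cyc.divFun δX (E.F.ξ i) (E.F.f i) x := by
        classical
        let s := (F0.finite_support x).toFinset
        let t := (E.F.finite_support x).toFinset
        show _ = (∑ᶠ i, Cyc.divFun δX (F0.ξ i) (F0.f i) x) + _
        rw [finsum_eq_sum_of_support_subset (α := F0.ι) _ (s := s) (by simp [s]),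
          finsum_eq_sum_of_support_subset (α := E.F.ι) _ (s := t) (by simp [t]),
          finsum_eq_sum_of_support_subset (α := F.ι) _ (s := s.disjSum t) ?_, Finset.sum_disjSum]
        rfl
        rintro (i | i) hi
        · refine Finset.mem_coe.2 (Finset.inl_mem_disjSum.2 ?_)
          exact (F0.finite_support x).mem_toFinset.2 hi
        · refine Finset.mem_coe.2 (Finset.inr_mem_disjSum.2 ?_)
          exact (E.F.finite_support x).mem_toFinset.2 hi
      rw [h2]
      linarith

include hX hY hδ hf in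
/-- Flat pullback along an affine bundle is surjective modulo rational equivalence. -/
theorem exists_ratEquiv_pull (β : AlgebraicCycle X ℤ) (hβ : β ∈ Cyc.Zk X δX (k + r)) :
    ∃ (α : AlgebraicCycle Y ℤ) (β' : AlgebraicCycle X ℤ), α ∈ Cyc.Zk Y δY k ∧
      ⇑β' = Cyc.pullFun f δX δY r ⇑α ∧ Cyc.RatEquiv δX (k + r) β β' := by
  classical
  obtain ⟨E⟩ := combine f (δY := δY) (r := r) (k := k) hX ⇑β
    (fun W hWa => β.locallyFiniteSupport.finite_inter_support_of_isCompact (f.isCompact_preimage hWa.isCompact))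
    (fun w hw => by
      have hd : δX w = k + r := by_contra fun h => hw (hβ w h)
      exact dec_single f hX hY hδ hf (δY (f w) - k).toNat w hd (by omega))
    isClosed_univ (fun _ _ => Set.mem_univ _)
  let α : AlgebraicCycle Y ℤ :=
    { toFun := E.α
      supportWithinDomain' := Set.subset_univ _
      supportLocallyFiniteWithinDomain' := fun z _ => by
        obtain ⟨W, hW, hz⟩ := exists_affine z
        exact ⟨W, W.2.mem_nhds hz, E.αfin W hW⟩ }
  refine ⟨α, β - E.F.cycle hX, fun y hy => by_contra fun h => hy (E.αdeg y h).1, funext fun x => ?_, ?_⟩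
  · show β x - E.F.cycle hX x = Cyc.pullFun f δX δY r E.α x
    rw [E.eq x]
    exact add_sub_cancel_right _ _
  · show Cyc.RatEquivZero δX (k + r) (β - (β - E.F.cycle hX))
    rw [sub_sub_cancel]
    exact E.F.ratEquivZero hX

end Groth.Agent.CycLib.AffBundle
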