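import Groth.Agent.CycLib.Closed

/-! # Families supported on closed subschemes -/

set_option autoImplicit false
set_option backward.isDefEq.respectTransparency false
set_option linter.style.haveILetI false

universe u

open CategoryTheory AlgebraicGeometry TopologicalSpace

noncomputable section

namespace Groth.Agent.CycLib

variable {X Z : Scheme.{u}} (i : Z ⟶ X) [IsClosedImmersion i] [IsLocallyNoetherian X] [IsLocallyNoetherian Z]
  {δ : X → ℤ} {k : ℤ}

/-- The part of a family with the given indices. -/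
def Fam.part (F : Fam δ k) (P : F.ι → Prop) : Fam δ k where
  ι := {j // P j}
  ξ j := F.ξ j.1
  f j := F.f j.1
  hξ j := F.hξ j.1
  hf j := F.hf j.1
  fin x := by
    obtain ⟨U, hU, hx, hfin⟩ := F.fin x
    exact ⟨U, hU, hx, (hfin.preimage (f := fun j : {j // P j} => j.1) Subtype.val_injective.injOn).subset fun j hj => hj⟩

omit [IsLocallyNoetherian Z] in
theorem Fam.cycle_part_add (hδ : Cyc.IsDimFun X δ) (F : Fam δ k) (P : F.ι → Prop) (x : X) :
    F.cycle hδ x = (F.part P).cycle hδ x + (F.part fun j => ¬ P j).cycle hδ x := by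
  classical
  show ∑ᶠ j, Cyc.divFun δ (F.ξ j) (F.f j) x = (∑ᶠ j : {j // P j}, Cyc.divFun δ (F.ξ j.1) (F.f j.1) x) +
    ∑ᶠ j : {j // ¬ P j}, Cyc.divFun δ (F.ξ j.1) (F.f j.1) x
  set s := (F.finite_support x).toFinset
  rw [finsum_eq_sum_of_support_subset _ (s := s) (by simp [s]),
    finsum_eq_sum_of_support_subset (α := {j // P j}) _ (s := s.subtype P) (fun j hj => Finset.mem_coe.2 (Finset.mem_subtype.2 ((F.finite_support x).mem_toFinset.2 hj))),
    finsum_eq_sum_of_support_subset (α := {j // ¬ P j}) _ (s := s.subtype fun j => ¬ P j) (fun j hj => Finset.mem_coe.2 (Finset.mem_subtype.2 ((F.finite_support x).mem_toFinset.2 hj)))]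
  show ∑ j ∈ s, Cyc.divFun δ (F.ξ j) (F.f j) x = ∑ j ∈ s.subtype P, Cyc.divFun δ (F.ξ j.1) (F.f j.1) x +
    ∑ j ∈ s.subtype fun j => ¬ P j, Cyc.divFun δ (F.ξ j.1) (F.f j.1) x
  rw [Finset.sum_subtype_eq_sum_filter (fun j => Cyc.divFun δ (F.ξ j) (F.f j) x),
    Finset.sum_subtype_eq_sum_filter (fun j => Cyc.divFun δ (F.ξ j) (F.f j) x), Finset.sum_filter_add_sum_filter_not]

theorem Fam.cycle_apply_eq_zero_of_notMem (hδ : Cyc.IsDimFun X δ) (F : Fam δ k) (hF : ∀ j, F.ξ j ∈ Set.range i)
    {x : X} (hx : x ∉ Set.range i) : F.cycle hδ x = 0 := by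
  refine finsum_eq_zero_of_forall_eq_zero fun j => ?_
  by_contra hne
  obtain ⟨z, hz⟩ := hF j
  exact hx (mem_range_of_specializes i (hz ▸ (specializes_of_divFun_ne_zero hne).1))

/-- A family supported on a closed subscheme comes from it. -/
theorem Fam.ratEquivZero_restrict (hδ : Cyc.IsDimFun X δ) (F : Fam δ k) (hF : ∀ j, F.ξ j ∈ Set.range i)
    (α : AlgebraicCycle Z ℤ) (hα : ∀ z, α z = F.cycle hδ (i z)) : Cyc.RatEquivZero (fun z => δ (i z)) k α := by
  choose η hη using hF
  refine (ratEquivZero_iff _).2 ⟨⟨F.ι, η, fun j => i.residueFieldMap (η j) ((X.residueFieldCongr (hη j).symm).hom (F.f j)),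
    fun j => by rw [hη j]; exact F.hξ j, fun j => ?_, fun z => ?_⟩, fun z => ?_⟩
  · intro e
    have h1 := (bijective_residueFieldMap i (η j)).1 (e.trans (map_zero _).symm)
    exact F.hf j ((X.residueFieldCongr (hη j).symm).commRingCatIsoToRingEquiv.injective (h1.trans (map_zero _).symm))
  · obtain ⟨U, hU, hx, hfin⟩ := F.fin (i z)
    refine ⟨i ⁻¹' U, hU.preimage i.continuous, hx, hfin.subset fun j ⟨y, hy, hyU⟩ => ⟨i y, ?_, hyU⟩⟩
    rw [← hη j, ← specializes_iff_mem_closure]
    exact (specializes_iff_mem_closure.2 hy).map i.continuous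
  · rw [hα]
    refine finsum_congr fun j => ?_
    have key : ∀ (a : X) (e : a = i (η j)) (g : X.residueField a),
        Cyc.divFun δ a g (i z) = Cyc.divFun (fun z => δ (i z)) (η j) (i.residueFieldMap (η j) ((X.residueFieldCongr e).hom g)) z := by
      intro a e g
      subst e
      rw [show ((X.residueFieldCongr (rfl : i (η j) = i (η j))).hom g) = g by simp]
      exact (divFun_map i hδ (isDimFun_closed i hδ) (η j) z g).symm
    exact key _ (hη j).symm _

end Groth.Agent.CycLib
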