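import Groth.Agent.CycLib.CommGlobal
import Groth.Agent.CycLib.Restrict

/-! # First Chern class caps as cycles; Gysin maps -/

set_option autoImplicit false
set_option backward.isDefEq.respectTransparency false
set_option linter.style.haveILetI false

universe u

open CategoryTheory AlgebraicGeometry TopologicalSpace

noncomputable section

namespace Groth.Agent.CycLib

variable {X D : Scheme.{u}} [IsLocallyNoetherian X] {δ : X → ℤ} {k : ℤ} {L N : X.Modules}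

/-- `c₁(L) ∩ α` as a cycle. -/
def c1Cycle (hδ : Cyc.IsDimFun X δ) (hL : PicF.IsInvertible L) (α : AlgebraicCycle X ℤ)
    (s : (ξ : X) → Cyc.secFibre L ξ) : AlgebraicCycle X ℤ where
  toFun := Cyc.c1CapFun δ L ⇑α s
  supportWithinDomain' := Set.subset_univ _
  supportLocallyFiniteWithinDomain' z _ := by
    classical
    obtain ⟨U, hU, hz⟩ := exists_affine z
    have hS := α.locallyFiniteSupport.finite_inter_support_of_isCompact hU.isCompact
    choose W hzW hW using fun ξ => finite_inter_support_secDivFun hδ hL ξ (s ξ) z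
    refine ⟨(U : Set X) ∩ ⋂ ξ ∈ hS.toFinset, (W ξ : Set X), (U.2.inter (isOpen_biInter_finset fun ξ _ => (W ξ).2)).mem_nhds
      ⟨hz, Set.mem_iInter₂.2 fun ξ _ => hzW ξ⟩, (hS.toFinset.finite_toSet.biUnion fun ξ _ => hW ξ).subset ?_⟩
    rintro x ⟨⟨hxU, hxW⟩, hx⟩
    obtain ⟨ξ, hξ⟩ := exists_ne_zero_finsum hx
    have hξS : ξ ∈ hS.toFinset := hS.mem_toFinset.2
      ⟨(specializes_of_secDivFun_ne_zero (right_ne_zero_of_mul hξ)).1.mem_open U.2 hxU, left_ne_zero_of_mul hξ⟩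
    exact Set.mem_biUnion (Finset.mem_coe.2 hξS) ⟨Set.mem_iInter₂.1 hxW ξ hξS, right_ne_zero_of_mul hξ⟩

omit [IsLocallyNoetherian X] in
theorem c1CapFun_eq_zero_of_ne {a : X → ℤ} (ha : ∀ ξ, δ ξ ≠ k + 1 → a ξ = 0) (s : (ξ : X) → Cyc.secFibre L ξ)
    {x : X} (hx : δ x ≠ k) : Cyc.c1CapFun δ L a s x = 0 := by
  refine finsum_eq_zero_of_forall_eq_zero fun ξ => by_contra fun hne => ?_
  have h1 := (specializes_of_secDivFun_ne_zero (right_ne_zero_of_mul hne)).2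
  exact left_ne_zero_of_mul hne (ha ξ (by omega))

/-- The restriction of a cycle to a closed subscheme. -/
def restrictCycle (i : D ⟶ X) [IsClosedImmersion i] (α : AlgebraicCycle X ℤ) : AlgebraicCycle D ℤ where
  toFun d := α (i d)
  supportWithinDomain' := Set.subset_univ _
  supportLocallyFiniteWithinDomain' d _ := by
    obtain ⟨W, hW, hz⟩ := exists_affine (i d)
    exact ⟨i ⁻¹ᵁ W, (i ⁻¹ᵁ W).2.mem_nhds hz, ((α.locallyFiniteSupport.finite_inter_support_of_isCompact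
      hW.isCompact).preimage i.isEmbedding.injective.injOn).subset fun y hy => hy⟩

/-- A cycle on a closed subscheme given by families supported on it. -/
theorem ratEquivZero_of_sum (i : D ⟶ X) [IsClosedImmersion i] (hδ : Cyc.IsDimFun X δ) {I : Type u} (P : I → X)
    (hP : ∀ U : X.Opens, IsCompact (U : Set X) → {j | P j ∈ U}.Finite) (G : I → Fam δ k)
    (hG : ∀ j l, P j ⤳ (G j).ξ l) (hGD : ∀ j l, (G j).ξ l ∈ Set.range i) (α : AlgebraicCycle D ℤ)
    (hα : ∀ d, α d = ∑ᶠ j, ∑ᶠ l, Cyc.divFun δ ((G j).ξ l) ((G j).f l) (i d)) :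
    Cyc.RatEquivZero (fun d => δ (i d)) k α := by
  haveI := isLocallyNoetherian_closed i
  exact Fam.ratEquivZero_restrict i hδ (Fam.sigma P hP G hG) (fun j => hGD j.1 j.2) α
    fun d => (hα d).trans (Fam.sigma_sum P hP G hG (i d)).symm

section gysin

variable {s : L.presheaf.obj (Opposite.op ⊤)} {w : (ξ : X) → Cyc.secFibre L ξ} {i : D ⟶ X}

omit [IsLocallyNoetherian X] in
theorem gysinChoice_ne_zero (hw : ∀ ξ, w ξ ≠ 0) (ξ : X) : Cyc.gysinChoice L s w ξ ≠ 0 := by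
  unfold Cyc.gysinChoice
  split_ifs with h
  · exact h
  · exact hw ξ

omit [IsLocallyNoetherian X] in
theorem germ_gen (hL : PicF.IsInvertible L) (hD : Cyc.IsZeroSchemeOf i L s) {ζ : X} (hζ : ζ ∉ Set.range i) :
    (Function.Bijective fun r : X.presheaf.stalk ζ => r • L.presheaf.germ ⊤ ζ trivial s) ∧
      Cyc.gysinChoice L s w ζ = mkF L ζ (L.presheaf.germ ⊤ ζ trivial s) := by
  have hne : mkF L ζ (L.presheaf.germ ⊤ ζ trivial s) ≠ 0 := fun e => hζ (hD.1.symm ▸ e)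
  refine ⟨?_, if_pos hne⟩
  obtain ⟨t, ht⟩ := ParaFLib.exists_stalk_gen hL ζ
  obtain ⟨f, hf⟩ := ht.2 (L.presheaf.germ ⊤ ζ trivial s)
  change f • t = _ at hf
  have hu : IsUnit f := by
    by_contra hnu
    refine hne ?_
    rw [← hf]
    show (Submodule.Quotient.mk (f • t) : Cyc.secFibre L ζ) = 0
    rw [Submodule.Quotient.mk_eq_zero]
    exact Submodule.smul_mem_smul hnu trivial
  have e : (fun r : X.presheaf.stalk ζ => r • L.presheaf.germ ⊤ ζ trivial s) =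
      (fun r => r • t) ∘ Units.mulRight hu.unit := funext fun r => by
    rw [← hf]
    exact (mul_smul r f t).symm
  rw [e]
  exact ht.comp (Units.mulRight hu.unit).bijective

variable [IsClosedImmersion i]

omit [IsLocallyNoetherian X] in
theorem triv_gysin (hL : PicF.IsInvertible L) (hD : Cyc.IsZeroSchemeOf i L s) {ξ ζ : X} (h : ξ ⤳ ζ)
    (hζ : ζ ∉ Set.range i) : Triv (Cyc.gysinChoice L s w ξ) (Cyc.gysinChoice L s w) ζ := by
  have hξ : ξ ∉ Set.range i := fun hmem => hζ (h.mem_closed i.isClosedEmbedding.isClosed_range hmem)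
  refine ⟨h, L.presheaf.germ ⊤ ζ trivial s, (germ_gen (w := w) hL hD hζ).1, ?_, (germ_gen hL hD hζ).2⟩
  rw [(germ_gen hL hD hξ).2, TopCat.Presheaf.germ_stalkSpecializes_apply]

/-- Off the zero scheme the section has no divisor. -/
theorem mem_range_of_gysin (hδ : Cyc.IsDimFun X δ) (hL : PicF.IsInvertible L) (hD : Cyc.IsZeroSchemeOf i L s)
    {ξ ζ : X} (h : Cyc.secDivFun δ L ξ (Cyc.gysinChoice L s w ξ) ζ ≠ 0) : ζ ∈ Set.range i := by
  by_contra hζ
  obtain ⟨hs, hd⟩ := specializes_of_secDivFun_ne_zero h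
  obtain ⟨-, τ, hτ, he, -⟩ := triv_gysin (w := w) hL hD hs hζ
  have hξ : ξ ∉ Set.range i := fun hmem => hζ (hs.mem_closed i.isClosedEmbedding.isClosed_range hmem)
  have e1 := germ_gen (w := w) hL hD hξ
  have e2 : L.presheaf.stalkSpecializes hs (L.presheaf.germ ⊤ ζ trivial s) = L.presheaf.germ ⊤ ξ trivial s :=
    TopCat.Presheaf.germ_stalkSpecializes_apply _ _ _ _
  refine h ?_
  rw [secDivFun_of hs hd, e1.2, ← e2, ← one_smul (X.presheaf.stalk ξ) (mkF L ξ _),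
    secOrdAt_eq hδ hs hd (germ_gen (w := w) hL hD hζ).1 (by rw [e2]; exact e1.1), map_one, ordAt_one hδ hs hd]

/-- Commuting with a Gysin map, on the closure of a point. -/
theorem exists_fam_gysin (hX : Cyc.IsSetup X δ) (hL : PicF.IsInvertible L) (hN : PicF.IsInvertible N)
    (hD : Cyc.IsZeroSchemeOf i L s) (hw : ∀ ξ, w ξ ≠ 0) (ξ : X) (hk : δ ξ = k + 2) (t : Cyc.secFibre N ξ) (ht : t ≠ 0)
    (v : (ζ : X) → Cyc.secFibre N ζ) (hv : ∀ ζ, v ζ ≠ 0) :
    ∃ G : Fam δ k, (∀ j, ξ ⤳ G.ξ j) ∧ (∀ j, G.ξ j ∈ Set.range i) ∧ ∀ x : X,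
      Cyc.c1CapFun δ L (Cyc.secDivFun δ N ξ t) (Cyc.gysinChoice L s w) x -
          Cyc.c1CapFun δ N (Cyc.secDivFun δ L ξ (Cyc.gysinChoice L s w ξ)) v x =
        ∑ᶠ j, Cyc.divFun δ (G.ξ j) (G.f j) x := by
  obtain ⟨G, hG, hG', hsum⟩ := exists_fam_comm_point (k := k) hX hN hL ξ hk t ht _ (gysinChoice_ne_zero (s := s) hw ξ)
    (Cyc.gysinChoice L s w) (gysinChoice_ne_zero (s := s) hw) v hv
  exact ⟨G, hG, fun j => by_contra fun hn => (hG' j).1 (triv_gysin hL hD (hG j) hn), hsum⟩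

/-- Gysin maps commute with first Chern classes. -/
theorem gysin_c1Cap_comm (hX : Cyc.IsSetup X δ) (hL : PicF.IsInvertible L) (hN : PicF.IsInvertible N)
    (hD : Cyc.IsZeroSchemeOf i L s) (hw : ∀ ξ, w ξ ≠ 0) {α : AlgebraicCycle X ℤ} (hα : α ∈ Cyc.Zk X δ (k + 2))
    (v : (ξ : X) → Cyc.secFibre N ξ) (hv : ∀ ξ, v ξ ≠ 0) (ζ₁ ζ₂ : AlgebraicCycle D ℤ)
    (h₁ : ∀ d, ζ₁ d = Cyc.c1CapFun δ L (Cyc.c1CapFun δ N ⇑α v) (Cyc.gysinChoice L s w) (i d))
    (h₂ : ∀ d, ζ₂ d = Cyc.c1CapFun δ N (Cyc.c1CapFun δ L ⇑α (Cyc.gysinChoice L s w)) v (i d)) :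
    Cyc.RatEquiv (fun d => δ (i d)) k ζ₁ ζ₂ := by
  classical
  have hk : ∀ j : {ξ : X // α ξ ≠ 0}, δ j.1 = k + 2 := fun j => by
    by_contra hne
    exact j.2 (hα j.1 hne)
  choose G hG hGD hsum using fun j : {ξ : X // α ξ ≠ 0} =>
    exists_fam_gysin (k := k) hX hL hN hD hw j.1 (hk j) (v j.1) (hv _) v hv
  refine ratEquivZero_of_sum i hX.2.2 (fun j : {ξ : X // α ξ ≠ 0} => j.1) (finite_mem_cycle α)
    (fun j => (G j).pow (α j.1)) (fun j l => hG j l) (fun j l => hGD j l) _ fun d => ?_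
  show ζ₁ d - ζ₂ d = _
  obtain ⟨e₁, f₁⟩ := c1Cap_c1Cap_apply hX.2.2 hN α (Cyc.gysinChoice L s w) v (i d)
  obtain ⟨e₂, f₂⟩ := c1Cap_c1Cap_apply hX.2.2 hL α v (Cyc.gysinChoice L s w) (i d)
  rw [h₁, h₂, e₁, e₂, ← finsum_sub_distrib f₁ f₂,
    finsum_congr fun j => Fam.pow_sum hX.2.2 (G j) (α j.1) (i d),
    finsum_congr fun j => congrArg (α j.1 * ·) (hsum j (i d)).symm,
    finsum_subtype_eq_finsum_cond (f := fun ξ : X => α ξ * (Cyc.c1CapFun δ L (Cyc.secDivFun δ N ξ (v ξ)) (Cyc.gysinChoice L s w) (i d) -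
      Cyc.c1CapFun δ N (Cyc.secDivFun δ L ξ (Cyc.gysinChoice L s w ξ)) v (i d))) (fun ξ => α ξ ≠ 0)]
  refine finsum_congr fun ξ => ?_
  rw [finsum_eq_if]
  split_ifs with h
  · rw [mul_sub]
  · rw [not_not.1 h, zero_mul, zero_mul, sub_zero]

/-- The Gysin map kills cycles rationally equivalent to zero. -/
theorem gysin_ratEquivZero (hX : Cyc.IsSetup X δ) (hL : PicF.IsInvertible L) (hD : Cyc.IsZeroSchemeOf i L s)
    (hw : ∀ ξ, w ξ ≠ 0) {α : AlgebraicCycle X ℤ} (h0 : Cyc.RatEquivZero δ (k + 1) α) (γ : AlgebraicCycle D ℤ)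
    (hγ : ∀ d, γ d = Cyc.c1CapFun δ L ⇑α (Cyc.gysinChoice L s w) (i d)) :
    Cyc.RatEquivZero (fun d => δ (i d)) k γ := by
  classical
  have hδ := hX.2.2
  obtain ⟨F, hF⟩ := (ratEquivZero_iff _).1 h0
  have hO : PicF.IsInvertible (Coh.structureModule X) := ParaFLib.isInvertible_structureModule
  let one : (ζ : X) → Cyc.secFibre (Coh.structureModule X) ζ := fun ζ => mkF _ ζ (ParaFLib.oneG ζ)
  have hone : ∀ ζ, one ζ ≠ 0 := fun ζ e => by
    have := (smul_mkF_eq_zero_iff (ParaFLib.bijective_oneG ζ) 1).1 (by rw [one_smul]; exact e)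
    rw [map_one] at this
    exact one_ne_zero this
  choose φ hφ using fun j => X.residue_surjective (F.ξ j) (F.f j)
  have hw' : ∀ j, φ j • one (F.ξ j) ≠ 0 := fun j e =>
    F.hf j (by rw [← hφ j]; exact (smul_mkF_eq_zero_iff (ParaFLib.bijective_oneG _) _).1 e)
  have hdivO : ∀ (ξ x : X) (g : X.presheaf.stalk ξ), Cyc.secDivFun δ (Coh.structureModule X) ξ (g • one ξ) x =
      Cyc.divFun δ ξ (X.residue ξ g) x := fun ξ x g => by
    by_cases h : ξ ⤳ x ∧ δ x + 1 = δ ξ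
    · have e : one ξ = mkF _ ξ ((Coh.structureModule X).presheaf.stalkSpecializes h.1 (ParaFLib.oneG x)) := by
        rw [stalkSpecializes_oneG]
      rw [secDivFun_of h.1 h.2, divFun_of h.1 h.2, e, secOrdAt_eq hδ h.1 h.2 (ParaFLib.bijective_oneG x)
        (by rw [stalkSpecializes_oneG]; exact ParaFLib.bijective_oneG ξ)]
    · rw [Cyc.secDivFun, Cyc.divFun, dif_neg h, dif_neg h]
  choose G hG hGD hsum using fun j => exists_fam_gysin (k := k) hX hL hO hD hw (F.ξ j) (by rw [F.hξ]; ring)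
    (φ j • one (F.ξ j)) (hw' j) one hone
  refine ratEquivZero_of_sum i hδ F.ξ (fun U hU => F.finite_mem hU) G hG hGD _ fun d => ?_
  rw [hγ]
  have hone0 : ∀ ζ x, Cyc.secDivFun δ (Coh.structureModule X) ζ (one ζ) x = 0 := fun ζ x => by
    rw [← one_smul (X.presheaf.stalk ζ) (one ζ), hdivO ζ x 1, map_one]
    by_cases h : ζ ⤳ x ∧ δ x + 1 = δ ζ
    · rw [divFun_of h.1 h.2, ordAt_one hδ h.1 h.2]
    · rw [Cyc.divFun, dif_neg h]
  have hj : ∀ j, ∑ᶠ l, Cyc.divFun δ ((G j).ξ l) ((G j).f l) (i d) =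
      Cyc.c1CapFun δ L (fun ζ => Cyc.divFun δ (F.ξ j) (F.f j) ζ) (Cyc.gysinChoice L s w) (i d) := fun j => by
    rw [← hsum j (i d), show Cyc.c1CapFun δ (Coh.structureModule X) (Cyc.secDivFun δ L (F.ξ j) (Cyc.gysinChoice L s w (F.ξ j)))
      one (i d) = 0 from finsum_eq_zero_of_forall_eq_zero fun ζ => by rw [hone0, mul_zero], sub_zero]
    refine finsum_congr fun ζ => ?_
    rw [hdivO (F.ξ j) ζ (φ j), hφ j]
  rw [finsum_congr hj]
  show ∑ᶠ ζ : X, α ζ * Cyc.secDivFun δ L ζ (Cyc.gysinChoice L s w ζ) (i d) = _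
  obtain ⟨U, hU, hx⟩ := exists_affine (i d)
  let J := (F.finite_mem (U := U) hU.isCompact).toFinset
  let T := J.biUnion fun j => (finite_inter_support_divFun hδ (F.ξ j) (F.f j) hU).toFinset
  have hmem : ∀ j ζ, Cyc.divFun δ (F.ξ j) (F.f j) ζ ≠ 0 →
      Cyc.secDivFun δ L ζ (Cyc.gysinChoice L s w ζ) (i d) ≠ 0 → j ∈ J ∧ ζ ∈ T :=
    fun j ζ h1 h2 => by
      have hζx := (specializes_of_secDivFun_ne_zero h2).1
      have hj : j ∈ J := (F.finite_mem (U := U) hU.isCompact).mem_toFinset.2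
        (((specializes_of_divFun_ne_zero h1).1.trans hζx).mem_open U.2 hx)
      exact ⟨hj, Finset.mem_biUnion.2 ⟨j, hj, (finite_inter_support_divFun hδ (F.ξ j) (F.f j) hU).mem_toFinset.2
        ⟨hζx.mem_open U.2 hx, h1⟩⟩⟩
  have e1 : ∀ ζ, α ζ * Cyc.secDivFun δ L ζ (Cyc.gysinChoice L s w ζ) (i d) =
      ∑ j ∈ J, Cyc.divFun δ (F.ξ j) (F.f j) ζ * Cyc.secDivFun δ L ζ (Cyc.gysinChoice L s w ζ) (i d) := fun ζ => by
    by_cases h2 : Cyc.secDivFun δ L ζ (Cyc.gysinChoice L s w ζ) (i d) = 0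
    · simp [h2]
    rw [hF, finsum_eq_sum_of_support_subset _ (s := J) fun j hj => (hmem j ζ hj h2).1, Finset.sum_mul]
  rw [finsum_eq_sum_of_support_subset _ (s := T) fun ζ hζ => by
      rw [Function.mem_support] at hζ
      rw [hF] at hζ
      obtain ⟨j, hj⟩ := exists_ne_zero_finsum (left_ne_zero_of_mul hζ)
      exact (hmem j ζ hj (right_ne_zero_of_mul hζ)).2,
    finsum_eq_sum_of_support_subset _ (s := J) fun j hj => by
      obtain ⟨ζ, hζ⟩ := exists_ne_zero_finsum hj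
      exact (hmem j ζ (left_ne_zero_of_mul hζ) (right_ne_zero_of_mul hζ)).1,
    Finset.sum_congr rfl fun ζ _ => e1 ζ, Finset.sum_comm]
  refine Finset.sum_congr rfl fun j _ => ?_
  show _ = ∑ᶠ ζ : X, _
  rw [finsum_eq_sum_of_support_subset _ (s := T) fun ζ hζ =>
    (hmem j ζ (left_ne_zero_of_mul hζ) (right_ne_zero_of_mul hζ)).2]

end gysin

end Groth.Agent.CycLib
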