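import Groth.Agent.CycLib.TameStalk
import Groth.Agent.CycLib.C1
import Groth.Agent.CycLib.DegZero

/-! # Commutativity of two divisors on an integral scheme -/

set_option autoImplicit false
set_option backward.isDefEq.respectTransparency false
set_option linter.style.haveILetI false

universe u

open CategoryTheory AlgebraicGeometry TopologicalSpace

noncomputable section

namespace Groth.Agent.CycLib

variable {X : Scheme.{u}} [IsIntegral X] {δ : X → ℤ} {L N : X.Modules}

/-- A generator with the generalisations. -/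
def genSec (hL : PicF.IsInvertible L) (ξ : X) : L.presheaf.stalk ξ := Classical.choose (exists_genAt hL ξ)

theorem genSec_spec (hL : PicF.IsInvertible L) (ξ : X) (z : X) (h : z ⤳ ξ) :
    Function.Bijective fun r : X.presheaf.stalk z => r • L.presheaf.stalkSpecializes h (genSec hL ξ) :=
  Classical.choose_spec (exists_genAt hL ξ) z h

theorem genSec_self (hL : PicF.IsInvertible L) (ξ : X) :
    Function.Bijective fun r : X.presheaf.stalk ξ => r • genSec hL ξ := by
  have := genSec_spec hL ξ ξ specializes_rfl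
  rwa [TopCat.Presheaf.stalkSpecializes_refl] at this

theorem mkF_genSec_ne_zero (hL : PicF.IsInvertible L) (ξ : X) : mkF L ξ (genSec hL ξ) ≠ 0 := fun e => by
  have := (smul_mkF_eq_zero_iff (genSec_self hL ξ) 1).1 (by rw [one_smul]; exact e)
  rw [map_one] at this
  exact one_ne_zero this

theorem isUnit_of_gen {ξ : X} {t t' : L.presheaf.stalk ξ} (ht : Function.Bijective fun r : X.presheaf.stalk ξ => r • t)
    (ht' : Function.Bijective fun r : X.presheaf.stalk ξ => r • t') {A : X.presheaf.stalk ξ} (e : t' = A • t) :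
    IsUnit A := by
  obtain ⟨B, hB⟩ := ht'.2 t
  refine IsUnit.of_mul_eq_one B (ht.1 ?_)
  show (A * B) • t = (1 : X.presheaf.stalk ξ) • t
  rw [one_smul, mul_comm, mul_smul, ← e]
  exact hB

/-- The map to the function field. -/
abbrev toFF (ξ : X) : X.presheaf.stalk ξ →+* X.functionField :=
  (X.presheaf.stalkSpecializes (genericPoint_specializes ξ)).hom

theorem toFF_sp {ξ x : X} (h : ξ ⤳ x) (w : X.presheaf.stalk x) :
    toFF ξ (X.presheaf.stalkSpecializes h w) = toFF x w := by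
  show X.presheaf.stalkSpecializes _ (X.presheaf.stalkSpecializes h w) = X.presheaf.stalkSpecializes _ w
  rw [← ConcreteCategory.comp_apply, TopCat.Presheaf.stalkSpecializes_comp]

theorem exists_repr (φ : X.functionField) (x : X) : ∃ a c : X.presheaf.stalk x, c ≠ 0 ∧ φ * toFF x c = toFF x a := by
  obtain ⟨a, c, hc, e⟩ := IsFractionRing.div_surjective (A := X.presheaf.stalk x) φ
  refine ⟨a, c, nonZeroDivisors.ne_zero hc, ?_⟩
  show φ * algebraMap (X.presheaf.stalk x) X.functionField c = algebraMap (X.presheaf.stalk x) X.functionField a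
  rw [← e, div_mul_cancel₀]
  exact IsFractionRing.to_map_ne_zero_of_mem_nonZeroDivisors hc

theorem num_ne_zero {x : X} {φ : X.functionField} (hφ : φ ≠ 0) {a c : X.presheaf.stalk x} (hc : c ≠ 0)
    (e : φ * toFF x c = toFF x a) : a ≠ 0 := fun ha => by
  rw [ha, map_zero] at e
  exact hc (sp_injective _ (((mul_eq_zero.1 e).resolve_left hφ).trans (map_zero _).symm))

theorem coeff_ne_zero {e : L.presheaf.stalk (genericPoint X)} (he : e ≠ 0) {t : L.presheaf.stalk (genericPoint X)}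
    {φ : X.functionField} (h : e = φ • t) : φ ≠ 0 := fun h0 => he (by rw [h, h0]; exact zero_smul _ _)

/-- At `ζ` the rational section `t` of `N` is given by a generator and `u ζ` is that generator. -/
def Triv {ξ : X} (t : Cyc.secFibre N ξ) (u : (ζ : X) → Cyc.secFibre N ζ) (ζ : X) : Prop :=
  ∃ (h : ξ ⤳ ζ) (τ : N.presheaf.stalk ζ), (Function.Bijective fun r : X.presheaf.stalk ζ => r • τ) ∧
    t = mkF N ξ (N.presheaf.stalkSpecializes h τ) ∧ u ζ = mkF N ζ τ

theorem mkF_injective_generic (e e' : L.presheaf.stalk (genericPoint X))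
    (h : mkF L (genericPoint X) e = mkF L (genericPoint X) e') : e = e' := by
  have hm : IsLocalRing.maximalIdeal (X.presheaf.stalk (genericPoint X)) = ⊥ := le_bot_iff.1 fun r hr => by
    rw [Submodule.mem_bot]
    exact residue_injective_generic rfl (((IsLocalRing.residue_eq_zero_iff r).2 hr).trans (map_zero _).symm)
  have h' : e - e' ∈ IsLocalRing.maximalIdeal (X.presheaf.stalk (genericPoint X)) •
      (⊤ : Submodule (X.presheaf.stalk (genericPoint X)) (L.presheaf.stalk (genericPoint X))) :=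
    (Submodule.Quotient.eq _).1 h
  rw [hm, Submodule.bot_smul, Submodule.mem_bot, sub_eq_zero] at h'
  exact h'

variable (hX : Cyc.IsSetup X δ)
include hX

theorem ordAt_residue_unit {ξ x : X} (h : ξ ⤳ x) (hd : δ x + 1 = δ ξ) (A : (X.presheaf.stalk ξ)ˣ) :
    Cyc.ordAt x ξ h (X.residue ξ ((A⁻¹ : (X.presheaf.stalk ξ)ˣ) : X.presheaf.stalk ξ)) =
      - Cyc.ordAt x ξ h (X.residue ξ (A : X.presheaf.stalk ξ)) := by
  haveI := hX.1
  have h0 : ∀ B : (X.presheaf.stalk ξ)ˣ, X.residue ξ (B : X.presheaf.stalk ξ) ≠ 0 := fun B =>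
    (B.isUnit.map (X.residue ξ).hom).ne_zero
  have e := ordAt_mul hX.2.2 h hd (h0 A⁻¹) (h0 A)
  rw [← map_mul, Units.inv_mul, map_one, ordAt_one hX.2.2 h hd] at e
  omega

/-- The coefficient of a divisor of a rational section in codimension one. -/
theorem secDivFun_eq_ord {ξ : X} (hd : δ ξ + 1 = δ (genericPoint X)) {t : L.presheaf.stalk ξ}
    (ht : Function.Bijective fun r : X.presheaf.stalk ξ => r • t)
    (htη : Function.Bijective fun r : X.presheaf.stalk (genericPoint X) =>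
      r • L.presheaf.stalkSpecializes (genericPoint_specializes ξ) t)
    {e : L.presheaf.stalk (genericPoint X)} {φ : X.functionField}
    (he : e = φ • L.presheaf.stalkSpecializes (genericPoint_specializes ξ) t) (hφ : φ ≠ 0)
    {a c : X.presheaf.stalk ξ} (hc : c ≠ 0) (hac : φ * toFF ξ c = toFF ξ a) :
    Cyc.secDivFun δ L (genericPoint X) (mkF L (genericPoint X) e) ξ = (ordN a : ℤ) - ordN c := by
  haveI := hX.1
  have h := genericPoint_specializes ξ
  have hres : Function.Injective (X.residue (genericPoint X)) := residue_injective_generic rfl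
  have hne : ∀ {w : X.presheaf.stalk ξ}, w ≠ 0 → Cyc.specMap ξ (genericPoint X) h w ≠ 0 := fun hw e0 =>
    hw (sp_injective h ((hres (e0.trans (map_zero _).symm)).trans (map_zero _).symm))
  have key : ∀ {w : X.presheaf.stalk ξ}, w ≠ 0 →
      Cyc.ordAt ξ (genericPoint X) h (Cyc.specMap ξ (genericPoint X) h w) = (ordN w : ℤ) := fun {w} hw => by
    let ψ : X.presheaf.stalk ξ ≃+* Cyc.LocQuot ξ (genericPoint X) h :=
      (RingEquiv.quotientBot _).symm.trans (Ideal.quotEquivOfEq (ker_specMap_generic ξ h).symm)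
    rw [ordAt_specMap hX.2.2 h hd (hne hw)]
    show ((Ring.ord _ (ψ w)).toNat : ℤ) = _
    rw [TameLib.ord_ringEquiv]
    rfl
  rw [secDivFun_of h hd, he, show mkF L (genericPoint X) (φ • L.presheaf.stalkSpecializes h t) =
    φ • mkF L (genericPoint X) (L.presheaf.stalkSpecializes h t) from Submodule.Quotient.mk_smul _ _ _,
    secOrdAt_eq hX.2.2 h hd ht htη φ]
  have e1 : X.residue (genericPoint X) φ * Cyc.specMap ξ (genericPoint X) h c = Cyc.specMap ξ (genericPoint X) h a := by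
    show X.residue _ φ * X.residue _ (toFF ξ c) = X.residue _ (toFF ξ a)
    rw [← map_mul, hac]
  have e2 := ordAt_mul hX.2.2 h hd (fun e0 => hφ (hres (e0.trans (map_zero _).symm))) (hne hc)
  rw [e1, key hc, key (num_ne_zero hφ hc hac)] at e2
  omega

section main

variable (hL : PicF.IsInvertible L) (hN : PicF.IsInvertible N)
  {eL : L.presheaf.stalk (genericPoint X)} {eN : N.presheaf.stalk (genericPoint X)}

omit hX in
theorem exists_coeff (e : L.presheaf.stalk (genericPoint X)) (hL : PicF.IsInvertible L) (ξ : X) :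
    ∃ (φ : X.functionField) (a c : X.presheaf.stalk ξ), c ≠ 0 ∧
      e = φ • L.presheaf.stalkSpecializes (genericPoint_specializes ξ) (genSec hL ξ) ∧ φ * toFF ξ c = toFF ξ a := by
  obtain ⟨φ, hφ⟩ := (genSec_spec hL ξ _ (genericPoint_specializes ξ)).2 e
  obtain ⟨a, c, hc, e'⟩ := exists_repr φ ξ
  exact ⟨φ, a, c, hc, hφ.symm, e'⟩

open Classical in
/-- The tame symbol of the two rational sections at a point of codimension one. -/
def hSym (eL : L.presheaf.stalk (genericPoint X)) (eN : N.presheaf.stalk (genericPoint X))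
    (hL : PicF.IsInvertible L) (hN : PicF.IsInvertible N) (δ : X → ℤ) (hX : Cyc.IsSetup X δ) (ξ : X) :
    X.residueField ξ :=
  if hd : δ ξ + 1 = δ (genericPoint X) then
    haveI := hX.1
    haveI := krullDimLE_stalk hX (ξ := ξ) (by omega)
    tameF (Classical.choose (Classical.choose_spec (exists_coeff eL hL ξ)))
      (Classical.choose (Classical.choose_spec (Classical.choose_spec (exists_coeff eL hL ξ))))
      (Classical.choose (Classical.choose_spec (exists_coeff eN hN ξ)))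
      (Classical.choose (Classical.choose_spec (Classical.choose_spec (exists_coeff eN hN ξ))))
  else 1

variable (heL : eL ≠ 0) (heN : eN ≠ 0)
include heL heN

/-- The symbol, computed with any generators. -/
theorem hSym_eq {ξ : X} (hd : δ ξ + 1 = δ (genericPoint X)) {A B : (X.presheaf.stalk ξ)ˣ}
    {tL : L.presheaf.stalk ξ} {tN : N.presheaf.stalk ξ} (hA : tL = (A : X.presheaf.stalk ξ) • genSec hL ξ)
    (hB : tN = (B : X.presheaf.stalk ξ) • genSec hN ξ) {φ ψ : X.functionField}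
    (hφ : eL = φ • L.presheaf.stalkSpecializes (genericPoint_specializes ξ) tL)
    (hψ : eN = ψ • N.presheaf.stalkSpecializes (genericPoint_specializes ξ) tN)
    {a c b d : X.presheaf.stalk ξ} (hc : c ≠ 0) (hd' : d ≠ 0) (hac : φ * toFF ξ c = toFF ξ a)
    (hbd : ψ * toFF ξ d = toFF ξ b) :
    haveI := hX.1
    haveI := krullDimLE_stalk hX (ξ := ξ) (by omega)
    hSym eL eN hL hN δ hX ξ = tameF ((A : X.presheaf.stalk ξ) * a) c ((B : X.presheaf.stalk ξ) * b) d := by
  haveI := hX.1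
  haveI := krullDimLE_stalk hX (ξ := ξ) (by omega)
  have h1 := Classical.choose_spec (exists_coeff eL hL ξ)
  have h2 := Classical.choose_spec (exists_coeff eN hN ξ)
  set φ₀ := Classical.choose (exists_coeff eL hL ξ)
  set ψ₀ := Classical.choose (exists_coeff eN hN ξ)
  have h1' := Classical.choose_spec h1
  have h2' := Classical.choose_spec h2
  rw [hSym, dif_pos hd]
  set a₀ := Classical.choose h1
  set b₀ := Classical.choose h2
  obtain ⟨hc₀, he₁, hac₀⟩ := Classical.choose_spec h1'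
  obtain ⟨hd₀, he₂, hbd₀⟩ := Classical.choose_spec h2'
  set c₀ := Classical.choose h1'
  set d₀ := Classical.choose h2'
  have hφ0 := coeff_ne_zero heL hφ
  have hψ0 := coeff_ne_zero heN hψ
  have hφ₀ := coeff_ne_zero heL he₁
  have hψ₀ := coeff_ne_zero heN he₂
  rw [hA, RefOne.stalkSpecializes_smul, ← mul_smul] at hφ
  rw [hB, RefOne.stalkSpecializes_smul, ← mul_smul] at hψ
  have e₁ : φ₀ = φ * toFF ξ (A : X.presheaf.stalk ξ) :=
    (genSec_spec hL ξ _ (genericPoint_specializes ξ)).1 (he₁.symm.trans hφ)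
  have e₂ : ψ₀ = ψ * toFF ξ (B : X.presheaf.stalk ξ) :=
    (genSec_spec hN ξ _ (genericPoint_specializes ξ)).1 (he₂.symm.trans hψ)
  refine tameF_congr (num_ne_zero hφ₀ hc₀ hac₀) hc₀ (num_ne_zero hψ₀ hd₀ hbd₀) hd₀
    (mul_ne_zero A.ne_zero (num_ne_zero hφ0 hc hac)) hc (mul_ne_zero B.ne_zero (num_ne_zero hψ0 hd' hbd)) hd'
    (sp_injective (genericPoint_specializes ξ) ?_) (sp_injective (genericPoint_specializes ξ) ?_)
  · show toFF ξ (a₀ * c) = toFF ξ ((A : X.presheaf.stalk ξ) * a * c₀)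
    rw [map_mul, map_mul, map_mul, ← hac₀, ← hac, e₁]
    ring
  · show toFF ξ (b₀ * d) = toFF ξ ((B : X.presheaf.stalk ξ) * b * d₀)
    rw [map_mul, map_mul, map_mul, ← hbd₀, ← hbd, e₂]
    ring

include hL hN in
/-- Near every point all but finitely many points of codimension one are trivial. -/
theorem exists_finite_exceptional (x : X) :
    ∃ U : X.Opens, x ∈ U ∧ ∃ S : Set X, S.Finite ∧ ∀ ξ ∈ U, δ ξ + 1 = δ (genericPoint X) → ξ ∉ S →
      hSym eL eN hL hN δ hX ξ = 1 ∧ Cyc.secDivFun δ L (genericPoint X) (mkF L _ eL) ξ = 0 ∧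
        Cyc.secDivFun δ N (genericPoint X) (mkF N _ eN) ξ = 0 := by
  haveI := hX.1
  obtain ⟨W, σ, hxW, hσ⟩ := ParaFLib.exists_gen_nhd hL x
  obtain ⟨W', τ, hxW', hτ⟩ := ParaFLib.exists_gen_nhd hN x
  obtain ⟨U, hU, hxU, hUW⟩ := exists_isAffineOpen_mem_and_subset (x := x) (U := W ⊓ W') ⟨hxW, hxW'⟩
  have hηU : genericPoint X ∈ U := (genericPoint_specializes x).mem_open U.2 hxU
  obtain ⟨φ, hφ⟩ := (hσ.bijective_germ (genericPoint X) (hUW hηU).1).2 eL
  obtain ⟨ψ, hψ⟩ := (hτ.bijective_germ (genericPoint X) (hUW hηU).2).2 eN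
  have hφ0 := coeff_ne_zero heL hφ.symm
  have hψ0 := coeff_ne_zero heN hψ.symm
  have hres : Function.Injective (X.residue (genericPoint X)) := residue_injective_generic rfl
  obtain ⟨a, c, hc, hac⟩ := exists_fraction_affine (specializes_rfl (x := genericPoint X)) hU hηU (X.residue _ φ)
  obtain ⟨b, d, hd0, hbd⟩ := exists_fraction_affine (specializes_rfl (x := genericPoint X)) hU hηU (X.residue _ ψ)
  rw [specMap_germ _ hηU hηU, specMap_germ _ hηU hηU] at hac hbd
  rw [eq_div_iff hc, ← map_mul] at hac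
  rw [eq_div_iff hd0, ← map_mul] at hbd
  let G : Γ(X, U) → X.functionField := fun w => X.presheaf.germ U (genericPoint X) hηU w
  have hac' : φ * G c = G a := hres hac
  have hbd' : ψ * G d = G b := hres hbd
  have hGc : G c ≠ 0 := fun e => hc (by show X.residue _ (G c) = 0; rw [e, map_zero])
  have hGd : G d ≠ 0 := fun e => hd0 (by show X.residue _ (G d) = 0; rw [e, map_zero])
  have hGa : G a ≠ 0 := hac' ▸ mul_ne_zero hφ0 hGc
  have hGb : G b ≠ 0 := hbd' ▸ mul_ne_zero hψ0 hGd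
  let P := a * c * b * d
  have hGP : G P ≠ 0 := by
    show X.presheaf.germ U _ hηU (a * c * b * d) ≠ 0
    rw [map_mul, map_mul, map_mul]
    exact mul_ne_zero (mul_ne_zero (mul_ne_zero hGa hGc) hGb) hGd
  refine ⟨U, hxU, _, finite_inter_support_divFun hX.2.2 (genericPoint X) (X.residue _ (G P)) hU, fun ξ hξ hd hS => ?_⟩
  haveI := krullDimLE_stalk hX (ξ := ξ) (by omega)
  have hgerm : ∀ w, toFF ξ (X.presheaf.germ U ξ hξ w) = G w := fun w =>
    TopCat.Presheaf.germ_stalkSpecializes_apply _ _ _ _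
  have hunitP : IsUnit (X.presheaf.germ U ξ hξ P) := by
    by_contra hnu
    refine hS ⟨hξ, ?_⟩
    have hne : Cyc.specMap ξ (genericPoint X) (genericPoint_specializes ξ) (X.presheaf.germ U ξ hξ P) ≠ 0 := by
      show X.residue _ (toFF ξ (X.presheaf.germ U ξ hξ P)) ≠ 0
      rw [hgerm]
      exact fun e => hGP (hres (e.trans (map_zero _).symm))
    have hne' : X.presheaf.germ U ξ hξ P ≠ 0 := fun e => hne (by rw [e, map_zero])
    show Cyc.divFun δ (genericPoint X) (X.residue _ (G P)) ξ ≠ 0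
    rw [divFun_of (genericPoint_specializes ξ) hd, ← hgerm]
    show Cyc.ordAt ξ _ _ (Cyc.specMap ξ _ (genericPoint_specializes ξ) _) ≠ 0
    let ω : X.presheaf.stalk ξ ≃+* Cyc.LocQuot ξ (genericPoint X) (genericPoint_specializes ξ) :=
      (RingEquiv.quotientBot _).symm.trans
        (Ideal.quotEquivOfEq (ker_specMap_generic ξ (genericPoint_specializes ξ)).symm)
    rw [ordAt_specMap hX.2.2 _ hd hne]
    show ((Ring.ord _ (ω _)).toNat : ℤ) ≠ 0
    rw [TameLib.ord_ringEquiv, Nat.cast_ne_zero]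
    exact fun e => hnu ((TameLib.ord_toNat_eq_zero_iff (mem_nonZeroDivisors_of_ne_zero hne')).1 e)
  have hP : X.presheaf.germ U ξ hξ P = X.presheaf.germ U ξ hξ a * X.presheaf.germ U ξ hξ c *
      X.presheaf.germ U ξ hξ b * X.presheaf.germ U ξ hξ d := by rw [map_mul, map_mul, map_mul]
  rw [hP, IsUnit.mul_iff, IsUnit.mul_iff, IsUnit.mul_iff] at hunitP
  obtain ⟨⟨⟨hua, huc⟩, hub⟩, hud⟩ := hunitP
  let tL := L.presheaf.germ W ξ (hUW hξ).1 σ
  let tN := N.presheaf.germ W' ξ (hUW hξ).2 τ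
  have htL := hσ.bijective_germ ξ (hUW hξ).1
  have htN := hτ.bijective_germ ξ (hUW hξ).2
  have hspL : L.presheaf.stalkSpecializes (genericPoint_specializes ξ) tL =
      L.presheaf.germ W (genericPoint X) (hUW hηU).1 σ := TopCat.Presheaf.germ_stalkSpecializes_apply _ _ _ _
  have hspN : N.presheaf.stalkSpecializes (genericPoint_specializes ξ) tN =
      N.presheaf.germ W' (genericPoint X) (hUW hηU).2 τ := TopCat.Presheaf.germ_stalkSpecializes_apply _ _ _ _
  have hacξ : φ * toFF ξ (X.presheaf.germ U ξ hξ c) = toFF ξ (X.presheaf.germ U ξ hξ a) := by rw [hgerm, hgerm, hac']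
  have hbdξ : ψ * toFF ξ (X.presheaf.germ U ξ hξ d) = toFF ξ (X.presheaf.germ U ξ hξ b) := by rw [hgerm, hgerm, hbd']
  have heL' : eL = φ • L.presheaf.stalkSpecializes (genericPoint_specializes ξ) tL := by rw [hspL]; exact hφ.symm
  have heN' : eN = ψ • N.presheaf.stalkSpecializes (genericPoint_specializes ξ) tN := by rw [hspN]; exact hψ.symm
  obtain ⟨A, hA⟩ := (genSec_self hL ξ).2 tL
  obtain ⟨B, hB⟩ := (genSec_self hN ξ).2 tN
  obtain ⟨A, rfl⟩ := isUnit_of_gen (genSec_self hL ξ) htL hA.symm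
  obtain ⟨B, rfl⟩ := isUnit_of_gen (genSec_self hN ξ) htN hB.symm
  refine ⟨?_, ?_, ?_⟩
  · rw [hSym_eq hX hL hN heL heN hd hA.symm hB.symm heL' heN' huc.ne_zero hud.ne_zero hacξ hbdξ, tameF,
      TameLib.tameSymbol_eq_one_of_units (A.isUnit.mul hua) (B.isUnit.mul hub), TameLib.tameSymbol_eq_one_of_units huc hud,
      TameLib.tameSymbol_eq_one_of_units (A.isUnit.mul hua) hud, TameLib.tameSymbol_eq_one_of_units huc (B.isUnit.mul hub)]
    simp
  · rw [secDivFun_eq_ord hX hd htL (by rw [hspL]; exact hσ.bijective_germ _ _) heL' hφ0 huc.ne_zero hacξ]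
    simp [ordN, Ideal.span_singleton_eq_top.2 hua, Ideal.span_singleton_eq_top.2 huc]
  · rw [secDivFun_eq_ord hX hd htN (by rw [hspN]; exact hτ.bijective_germ _ _) heN' hψ0 hud.ne_zero hbdξ]
    simp [ordN, Ideal.span_singleton_eq_top.2 hub, Ideal.span_singleton_eq_top.2 hud]

end main

/-- `c₁(N) ∩ div_L(s) ∼ c₁(L) ∩ div_N(t)`, with an explicit family. -/
theorem exists_fam_comm (hL : PicF.IsInvertible L) (hN : PicF.IsInvertible N)
    (s : Cyc.secFibre L (genericPoint X)) (hs : s ≠ 0) (t : Cyc.secFibre N (genericPoint X)) (ht : t ≠ 0)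
    (u : (ξ : X) → Cyc.secFibre N ξ) (hu : ∀ ξ, u ξ ≠ 0) (v : (ξ : X) → Cyc.secFibre L ξ) (hv : ∀ ξ, v ξ ≠ 0)
    : ∃ F : Fam δ (δ (genericPoint X) - 2), (∀ i, ¬ Triv t u (F.ξ i) ∧ ¬ Triv s v (F.ξ i)) ∧ ∀ x : X,
      Cyc.c1CapFun δ N (Cyc.secDivFun δ L (genericPoint X) s) u x -
        Cyc.c1CapFun δ L (Cyc.secDivFun δ N (genericPoint X) t) v x =
      ∑ᶠ i, Cyc.divFun δ (F.ξ i) (F.f i) x := by
  classical
  haveI := hX.1
  obtain ⟨eL, rfl⟩ := Submodule.Quotient.mk_surjective _ s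
  obtain ⟨eN, rfl⟩ := Submodule.Quotient.mk_surjective _ t
  have heL : eL ≠ 0 := fun e => hs (by rw [e]; rfl)
  have heN : eN ≠ 0 := fun e => ht (by rw [e]; rfl)
  choose gN hgN hu' using fun ξ => exists_smul_of_ne_zero hN (mkF_genSec_ne_zero hN ξ) (hu ξ)
  choose gL hgL hv' using fun ξ => exists_smul_of_ne_zero hL (mkF_genSec_ne_zero hL ξ) (hv ξ)
  set α := Cyc.secDivFun δ L (genericPoint X) (mkF L _ eL) with hα
  set β := Cyc.secDivFun δ N (genericPoint X) (mkF N _ eN) with hβ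
  let f : (ξ : X) → X.residueField ξ := fun ξ =>
    hSym eL eN hL hN δ hX ξ * X.residue ξ (gN ξ) ^ α ξ * (X.residue ξ (gL ξ) ^ β ξ)⁻¹
  have hh0 : ∀ ξ, hSym eL eN hL hN δ hX ξ ≠ 0 := fun ξ => by
    rw [hSym]
    split_ifs with hd
    · haveI := krullDimLE_stalk hX (ξ := ξ) (by omega)
      have h1 := Classical.choose_spec (Classical.choose_spec (Classical.choose_spec (exists_coeff eL hL ξ)))
      have h2 := Classical.choose_spec (Classical.choose_spec (Classical.choose_spec (exists_coeff eN hN ξ)))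
      exact tameF_ne_zero (num_ne_zero (coeff_ne_zero heL h1.2.1) h1.1 h1.2.2) h1.1
        (num_ne_zero (coeff_ne_zero heN h2.2.1) h2.1 h2.2.2) h2.1
    · exact one_ne_zero
  have hf : ∀ ξ, f ξ ≠ 0 := fun ξ =>
    mul_ne_zero (mul_ne_zero (hh0 ξ) (zpow_ne_zero _ (hgN ξ))) (inv_ne_zero (zpow_ne_zero _ (hgL ξ)))
  choose U hxU S hSfin hS using fun x => exists_finite_exceptional hX hL hN heL heN x
  let F : Fam δ (δ (genericPoint X) - 2) :=
    { ι := {ξ : X // δ ξ + 1 = δ (genericPoint X) ∧ f ξ ≠ 1}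
      ξ := fun i => i.1
      f := fun i => f i.1
      hξ := fun i => by have := i.2.1; omega
      hf := fun i => hf i.1
      fin := fun x => by
        refine ⟨U x, (U x).2, hxU x, ((hSfin x).preimage Subtype.val_injective.injOn).subset fun i hi => ?_⟩
        obtain ⟨y, hy, hyU⟩ := hi
        by_contra hnS
        obtain ⟨e1, e2, e3⟩ := hS x i.1 ((specializes_iff_mem_closure.2 hy).mem_open (U x).2 hyU) i.2.1 hnS
        refine i.2.2 ?_
        show hSym eL eN hL hN δ hX i.1 * X.residue i.1 (gN i.1) ^ α i.1 * (X.residue i.1 (gL i.1) ^ β i.1)⁻¹ = 1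
        rw [e1, hα, hβ, e2, e3, zpow_zero, zpow_zero, one_mul, inv_one, mul_one] }
  refine ⟨F, fun i => ⟨fun ⟨hsp, τ, hτ, ht', hu''⟩ => ?_, fun ⟨hsp, τ, hτ, ht', hv''⟩ => ?_⟩, fun x => ?_⟩
  · obtain ⟨ζ, hd, hne⟩ := i
    haveI := krullDimLE_stalk hX (ξ := ζ) (by omega)
    have eN' : eN = (1 : X.functionField) • N.presheaf.stalkSpecializes (genericPoint_specializes ζ) τ :=
      (mkF_injective_generic _ _ ht').trans (one_smul _ _).symm
    have hψ0 : (1 : X.functionField) ≠ 0 := one_ne_zero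
    have hτη : Function.Bijective fun r : X.presheaf.stalk (genericPoint X) =>
        r • N.presheaf.stalkSpecializes (genericPoint_specializes ζ) τ := by
      obtain ⟨B, hB⟩ := (genSec_self hN ζ).2 τ
      obtain ⟨B, rfl⟩ := isUnit_of_gen (genSec_self hN ζ) hτ hB.symm
      have hu : X.presheaf.stalkSpecializes (genericPoint_specializes ζ) (B : X.presheaf.stalk ζ) ≠ 0 :=
        sp_ne_zero _ B.ne_zero
      rw [← hB]
      have e : (fun r : X.presheaf.stalk (genericPoint X) => r •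
          N.presheaf.stalkSpecializes (genericPoint_specializes ζ) ((B : X.presheaf.stalk ζ) • genSec hN ζ)) =
          (fun r : X.presheaf.stalk (genericPoint X) => r •
            N.presheaf.stalkSpecializes (genericPoint_specializes ζ) (genSec hN ζ)) ∘
            (Equiv.mulRight₀ (G₀ := X.functionField) _ hu) := funext fun r => by
        rw [RefOne.stalkSpecializes_smul]
        exact (mul_smul r _ _).symm
      rw [e]
      exact (genSec_spec hN ζ _ _).comp (Equiv.mulRight₀ (G₀ := X.functionField) _ hu).bijective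
    obtain ⟨φ, a, c, hc, heL', hac⟩ := exists_coeff eL hL ζ
    have ha := num_ne_zero (coeff_ne_zero heL heL') hc hac
    have h1 : (1 : X.functionField) * toFF ζ (1 : X.presheaf.stalk ζ) = toFF ζ (1 : X.presheaf.stalk ζ) := one_mul _
    obtain ⟨B, hB⟩ := (genSec_self hN ζ).2 τ
    obtain ⟨B, rfl⟩ := isUnit_of_gen (genSec_self hN ζ) hτ hB.symm
    have eh := hSym_eq hX hL hN heL heN hd (A := 1) (B := B) (one_smul _ (genSec hL ζ)).symm hB.symm heL' eN'
      hc one_ne_zero hac h1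
    rw [tameF_unit ha hc one_ne_zero one_ne_zero] at eh
    have eα : α ζ = (ordN a : ℤ) - ordN c :=
      secDivFun_eq_ord hX hd (genSec_self hL ζ) (genSec_spec hL ζ _ _) heL' (coeff_ne_zero heL heL') hc hac
    have eβ : β ζ = 0 := by
      rw [hβ, secDivFun_eq_ord hX hd hτ hτη eN' hψ0 one_ne_zero h1]
      exact sub_self _
    have e1 : tameF a c (1 : X.presheaf.stalk ζ) 1 = 1 := by
      rw [tameF]
      exact div_self (mul_ne_zero (TameLib.tameSymbol_ne_zero _ _ (mem_nonZeroDivisors_of_ne_zero ha) (one_mem _))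
        (TameLib.tameSymbol_ne_zero _ _ (mem_nonZeroDivisors_of_ne_zero hc) (one_mem _)))
    have eg : X.residue ζ (gN ζ) = X.residue ζ (B : X.presheaf.stalk ζ) := by
      have e2 : gN ζ • mkF N ζ (genSec hN ζ) = (B : X.presheaf.stalk ζ) • mkF N ζ (genSec hN ζ) := by
        rw [← hu' ζ, hu'', ← hB]
        exact Submodule.Quotient.mk_smul _ _ _
      rw [← sub_eq_zero, ← sub_smul, smul_mkF_eq_zero_iff (genSec_self hN ζ), map_sub, sub_eq_zero] at e2
      exact e2
    rw [e1, sub_self, zpow_zero, one_mul, one_mul] at eh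
    refine hne ?_
    show hSym eL eN hL hN δ hX ζ * X.residue ζ (gN ζ) ^ α ζ * (X.residue ζ (gL ζ) ^ β ζ)⁻¹ = 1
    have hB0 : X.residue ζ (B : X.presheaf.stalk ζ) ≠ 0 := (B.isUnit.map (X.residue ζ).hom).ne_zero
    have eh' : hSym eL eN hL hN δ hX ζ = X.residue ζ (B : X.presheaf.stalk ζ) ^ (-(α ζ)) := by
      rw [eh, eα, neg_sub]
      rfl
    rw [eh', eg, eβ, zpow_zero, inv_one, mul_one, zpow_neg, inv_mul_cancel₀ (zpow_ne_zero _ hB0)]
  · obtain ⟨ζ, hd, hne⟩ := i
    haveI := krullDimLE_stalk hX (ξ := ζ) (by omega)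
    have eL' : eL = (1 : X.functionField) • L.presheaf.stalkSpecializes (genericPoint_specializes ζ) τ :=
      (mkF_injective_generic _ _ ht').trans (one_smul _ _).symm
    obtain ⟨A, hA⟩ := (genSec_self hL ζ).2 τ
    obtain ⟨A, rfl⟩ := isUnit_of_gen (genSec_self hL ζ) hτ hA.symm
    have hτη : Function.Bijective fun r : X.presheaf.stalk (genericPoint X) =>
        r • L.presheaf.stalkSpecializes (genericPoint_specializes ζ) τ := by
      have hu : X.presheaf.stalkSpecializes (genericPoint_specializes ζ) (A : X.presheaf.stalk ζ) ≠ 0 :=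
        sp_ne_zero _ A.ne_zero
      rw [← hA]
      have e : (fun r : X.presheaf.stalk (genericPoint X) => r •
          L.presheaf.stalkSpecializes (genericPoint_specializes ζ) ((A : X.presheaf.stalk ζ) • genSec hL ζ)) =
          (fun r : X.presheaf.stalk (genericPoint X) => r •
            L.presheaf.stalkSpecializes (genericPoint_specializes ζ) (genSec hL ζ)) ∘
            (Equiv.mulRight₀ (G₀ := X.functionField) _ hu) := funext fun r => by
        rw [RefOne.stalkSpecializes_smul]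
        exact (mul_smul r _ _).symm
      rw [e]
      exact (genSec_spec hL ζ _ _).comp (Equiv.mulRight₀ (G₀ := X.functionField) _ hu).bijective
    obtain ⟨ψ, b, d, hd0, heN', hbd⟩ := exists_coeff eN hN ζ
    have hb := num_ne_zero (coeff_ne_zero heN heN') hd0 hbd
    have h1 : (1 : X.functionField) * toFF ζ (1 : X.presheaf.stalk ζ) = toFF ζ (1 : X.presheaf.stalk ζ) := one_mul _
    have eh := hSym_eq hX hL hN heL heN hd (A := A) (B := 1) hA.symm (one_smul _ (genSec hN ζ)).symm eL' heN'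
      one_ne_zero hd0 h1 hbd
    rw [tameF_unit one_ne_zero one_ne_zero hb hd0] at eh
    have eβ : β ζ = (ordN b : ℤ) - ordN d :=
      secDivFun_eq_ord hX hd (genSec_self hN ζ) (genSec_spec hN ζ _ _) heN' (coeff_ne_zero heN heN') hd0 hbd
    have eα : α ζ = 0 := by
      rw [hα, secDivFun_eq_ord hX hd hτ hτη eL' one_ne_zero one_ne_zero h1]
      exact sub_self _
    have e1 : tameF (1 : X.presheaf.stalk ζ) 1 b d = 1 := by
      rw [tameF, mul_comm (CycAlg.tameSymbol _ 1 d)]
      exact div_self (mul_ne_zero (TameLib.tameSymbol_ne_zero _ _ (one_mem _) (mem_nonZeroDivisors_of_ne_zero hb))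
        (TameLib.tameSymbol_ne_zero _ _ (one_mem _) (mem_nonZeroDivisors_of_ne_zero hd0)))
    have eg : X.residue ζ (gL ζ) = X.residue ζ (A : X.presheaf.stalk ζ) := by
      have e2 : gL ζ • mkF L ζ (genSec hL ζ) = (A : X.presheaf.stalk ζ) • mkF L ζ (genSec hL ζ) := by
        rw [← hv' ζ, hv'', ← hA]
        exact Submodule.Quotient.mk_smul _ _ _
      rw [← sub_eq_zero, ← sub_smul, smul_mkF_eq_zero_iff (genSec_self hL ζ), map_sub, sub_eq_zero] at e2
      exact e2
    rw [e1, sub_self, zpow_zero, mul_one, one_mul] at eh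
    refine hne ?_
    show hSym eL eN hL hN δ hX ζ * X.residue ζ (gN ζ) ^ α ζ * (X.residue ζ (gL ζ) ^ β ζ)⁻¹ = 1
    have hA0 : X.residue ζ (A : X.presheaf.stalk ζ) ≠ 0 := (A.isUnit.map (X.residue ζ).hom).ne_zero
    have eh' : hSym eL eN hL hN δ hX ζ = X.residue ζ (A : X.presheaf.stalk ζ) ^ β ζ := by
      rw [eh, eβ]
      rfl
    rw [eh', eg, eα, zpow_zero, mul_one, mul_inv_cancel₀ (zpow_ne_zero _ hA0)]
  show (∑ᶠ ξ : X, α ξ * Cyc.secDivFun δ N ξ (u ξ) x) - (∑ᶠ ξ : X, β ξ * Cyc.secDivFun δ L ξ (v ξ) x) = _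
  have eF : ∑ᶠ i, Cyc.divFun δ (F.ξ i) (F.f i) x =
      ∑ᶠ ξ : X, if δ ξ + 1 = δ (genericPoint X) then Cyc.divFun δ ξ (f ξ) x else 0 := by
    show (∑ᶠ i : {ξ : X // δ ξ + 1 = δ (genericPoint X) ∧ f ξ ≠ 1}, Cyc.divFun δ i.1 (f i.1) x) = _
    rw [finsum_subtype_eq_finsum_cond (f := fun ξ : X => Cyc.divFun δ ξ (f ξ) x)
      (fun ξ => δ ξ + 1 = δ (genericPoint X) ∧ f ξ ≠ 1)]
    refine finsum_congr fun ξ => ?_
    rw [finsum_eq_if]
    split_ifs with h1 h2 h2
    · rfl
    · exact absurd h1.1 h2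
    · have : f ξ = 1 := by_contra fun h => h1 ⟨h2, h⟩
      rw [this]
      by_cases hh : ξ ⤳ x ∧ δ x + 1 = δ ξ
      · rw [divFun_of hh.1 hh.2, ordAt_one hX.2.2 hh.1 hh.2]
      · rw [Cyc.divFun, dif_neg hh]
    · rfl
  rw [eF]
  have hα0 : ∀ ξ, α ξ ≠ 0 → δ ξ + 1 = δ (genericPoint X) := fun ξ h => (specializes_of_secDivFun_ne_zero h).2
  have hβ0 : ∀ ξ, β ξ ≠ 0 → δ ξ + 1 = δ (genericPoint X) := fun ξ h => (specializes_of_secDivFun_ne_zero h).2
  by_cases hx : δ x + 2 = δ (genericPoint X)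
  swap
  · rw [finsum_eq_zero_of_forall_eq_zero, finsum_eq_zero_of_forall_eq_zero, finsum_eq_zero_of_forall_eq_zero, sub_zero]
    · intro ξ
      by_contra hne
      split_ifs at hne with h
      · have := (specializes_of_divFun_ne_zero hne).2
        omega
      · exact hne rfl
    · intro ξ
      by_contra hne
      have := hβ0 ξ (left_ne_zero_of_mul hne)
      have := (specializes_of_secDivFun_ne_zero (right_ne_zero_of_mul hne)).2
      omega
    · intro ξ
      by_contra hne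
      have := hα0 ξ (left_ne_zero_of_mul hne)
      have := (specializes_of_secDivFun_ne_zero (right_ne_zero_of_mul hne)).2
      omega
  obtain ⟨φ, hφ⟩ := (genSec_spec hL x _ (genericPoint_specializes x)).2 eL
  obtain ⟨ψ, hψ⟩ := (genSec_spec hN x _ (genericPoint_specializes x)).2 eN
  have hφ0 := coeff_ne_zero heL hφ.symm
  have hψ0 := coeff_ne_zero heN hψ.symm
  obtain ⟨a, c, hc, hac⟩ := exists_repr φ x
  obtain ⟨b, d, hd0, hbd⟩ := exists_repr ψ x
  have ha := num_ne_zero hφ0 hc hac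
  have hb := num_ne_zero hψ0 hd0 hbd
  let T : X → ℤ := fun ξ => tameOrd δ x a b ξ + tameOrd δ x c d ξ - tameOrd δ x a d ξ - tameOrd δ x c b ξ
  obtain ⟨s1, f1⟩ := sum_tameOrd hX hx ha hb
  obtain ⟨s2, f2⟩ := sum_tameOrd hX hx hc hd0
  obtain ⟨s3, f3⟩ := sum_tameOrd hX hx ha hd0
  obtain ⟨s4, f4⟩ := sum_tameOrd hX hx hc hb
  have key : ∀ ξ, α ξ * Cyc.secDivFun δ N ξ (u ξ) x - β ξ * Cyc.secDivFun δ L ξ (v ξ) x + T ξ =
      if δ ξ + 1 = δ (genericPoint X) then Cyc.divFun δ ξ (f ξ) x else 0 := by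
    intro ξ
    by_cases hh : ξ ⤳ x ∧ δ x + 1 = δ ξ
    swap
    · rw [Cyc.secDivFun, Cyc.secDivFun, dif_neg hh, dif_neg hh]
      simp only [T, tameOrd, dif_neg hh, mul_zero, sub_zero, add_zero]
      split_ifs
      · rw [Cyc.divFun, dif_neg hh]
      · rfl
    obtain ⟨h, hd⟩ := hh
    have hd1 : δ ξ + 1 = δ (genericPoint X) := by omega
    haveI := krullDimLE_stalk hX (ξ := ξ) (by omega)
    rw [if_pos hd1]
    let tL := L.presheaf.stalkSpecializes h (genSec hL x)
    let tN := N.presheaf.stalkSpecializes h (genSec hN x)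
    have htL := genSec_spec hL x ξ h
    have htN := genSec_spec hN x ξ h
    obtain ⟨A, hA⟩ := (genSec_self hL ξ).2 tL
    obtain ⟨B, hB⟩ := (genSec_self hN ξ).2 tN
    obtain ⟨A, rfl⟩ := isUnit_of_gen (genSec_self hL ξ) htL hA.symm
    obtain ⟨B, rfl⟩ := isUnit_of_gen (genSec_self hN ξ) htN hB.symm
    have hspL : L.presheaf.stalkSpecializes (genericPoint_specializes ξ) tL =
        L.presheaf.stalkSpecializes (genericPoint_specializes x) (genSec hL x) := by
      show L.presheaf.stalkSpecializes _ (L.presheaf.stalkSpecializes h _) = _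
      rw [← ConcreteCategory.comp_apply, TopCat.Presheaf.stalkSpecializes_comp]
    have hspN : N.presheaf.stalkSpecializes (genericPoint_specializes ξ) tN =
        N.presheaf.stalkSpecializes (genericPoint_specializes x) (genSec hN x) := by
      show N.presheaf.stalkSpecializes _ (N.presheaf.stalkSpecializes h _) = _
      rw [← ConcreteCategory.comp_apply, TopCat.Presheaf.stalkSpecializes_comp]
    have heL' : eL = φ • L.presheaf.stalkSpecializes (genericPoint_specializes ξ) tL := by rw [hspL]; exact hφ.symm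
    have heN' : eN = ψ • N.presheaf.stalkSpecializes (genericPoint_specializes ξ) tN := by rw [hspN]; exact hψ.symm
    let sp := X.presheaf.stalkSpecializes h
    have hac' : φ * toFF ξ (sp c) = toFF ξ (sp a) := by rw [toFF_sp, toFF_sp, hac]
    have hbd' : ψ * toFF ξ (sp d) = toFF ξ (sp b) := by rw [toFF_sp, toFF_sp, hbd]
    have hca := sp_ne_zero h hc
    have hdb := sp_ne_zero h hd0
    have haa := sp_ne_zero h ha
    have hbb := sp_ne_zero h hb
    have eα : α ξ = (ordN (sp a) : ℤ) - ordN (sp c) :=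
      secDivFun_eq_ord hX hd1 htL (by rw [hspL]; exact genSec_spec hL x _ _) heL' hφ0 hca hac'
    have eβ : β ξ = (ordN (sp b) : ℤ) - ordN (sp d) :=
      secDivFun_eq_ord hX hd1 htN (by rw [hspN]; exact genSec_spec hN x _ _) heN' hψ0 hdb hbd'
    have eN1 : Cyc.secDivFun δ N ξ (u ξ) x =
        Cyc.ordAt x ξ h (X.residue ξ (gN ξ)) - Cyc.ordAt x ξ h (X.residue ξ (B : X.presheaf.stalk ξ)) := by
      rw [hu' ξ, secDivFun_smul hX.2.2 hN ξ x (hgN ξ) (mkF_genSec_ne_zero hN ξ), divFun_of h hd, secDivFun_of h hd]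
      have e : mkF N ξ (genSec hN ξ) = ((B⁻¹ : (X.presheaf.stalk ξ)ˣ) : X.presheaf.stalk ξ) • mkF N ξ tN := by
        rw [← hB]
        show _ = _ • mkF N ξ ((B : X.presheaf.stalk ξ) • genSec hN ξ)
        rw [show mkF N ξ ((B : X.presheaf.stalk ξ) • genSec hN ξ) = (B : X.presheaf.stalk ξ) • mkF N ξ (genSec hN ξ) from
          Submodule.Quotient.mk_smul _ _ _, ← mul_smul, Units.inv_mul, one_smul]
      rw [e, secOrdAt_eq hX.2.2 h hd (genSec_self hN x) htN, ordAt_residue_unit hX h hd B, sub_eq_add_neg]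
    have eL1 : Cyc.secDivFun δ L ξ (v ξ) x =
        Cyc.ordAt x ξ h (X.residue ξ (gL ξ)) - Cyc.ordAt x ξ h (X.residue ξ (A : X.presheaf.stalk ξ)) := by
      rw [hv' ξ, secDivFun_smul hX.2.2 hL ξ x (hgL ξ) (mkF_genSec_ne_zero hL ξ), divFun_of h hd, secDivFun_of h hd]
      have e : mkF L ξ (genSec hL ξ) = ((A⁻¹ : (X.presheaf.stalk ξ)ˣ) : X.presheaf.stalk ξ) • mkF L ξ tL := by
        rw [← hA]
        show _ = _ • mkF L ξ ((A : X.presheaf.stalk ξ) • genSec hL ξ)
        rw [show mkF L ξ ((A : X.presheaf.stalk ξ) • genSec hL ξ) = (A : X.presheaf.stalk ξ) • mkF L ξ (genSec hL ξ) from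
          Submodule.Quotient.mk_smul _ _ _, ← mul_smul, Units.inv_mul, one_smul]
      rw [e, secOrdAt_eq hX.2.2 h hd (genSec_self hL x) htL, ordAt_residue_unit hX h hd A, sub_eq_add_neg]
    let T0 : X.residueField ξ := tameF (sp a) (sp c) (sp b) (sp d)
    have eh : hSym eL eN hL hN δ hX ξ = T0 *
        X.residue ξ (A : X.presheaf.stalk ξ) ^ β ξ * X.residue ξ (B : X.presheaf.stalk ξ) ^ (-(α ξ)) := by
      rw [hSym_eq hX hL hN heL heN hd1 hA.symm hB.symm heL' heN' hca hdb hac' hbd',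
        tameF_unit haa hca hbb hdb, eα, eβ, neg_sub]
      rfl
    have t0 : ∀ {p q : X.presheaf.stalk x}, p ≠ 0 → q ≠ 0 →
        CycAlg.tameSymbol (X.presheaf.stalk ξ) (sp p) (sp q) ≠ 0 := fun hp hq =>
      TameLib.tameSymbol_ne_zero _ _ (mem_nonZeroDivisors_of_ne_zero (sp_ne_zero h hp))
        (mem_nonZeroDivisors_of_ne_zero (sp_ne_zero h hq))
    have oA : X.residue ξ (A : X.presheaf.stalk ξ) ≠ 0 := (A.isUnit.map (X.residue ξ).hom).ne_zero
    have oB : X.residue ξ (B : X.presheaf.stalk ξ) ≠ 0 := (B.isUnit.map (X.residue ξ).hom).ne_zero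
    have oT : T0 ≠ 0 := tameF_ne_zero haa hca hbb hdb
    have eT : Cyc.ordAt x ξ h T0 = T ξ := by
      simp only [T, tameOrd, dif_pos (show ξ ⤳ x ∧ δ x + 1 = δ ξ from ⟨h, hd⟩)]
      show Cyc.ordAt x ξ h ((CycAlg.tameSymbol _ (sp a) (sp b) * CycAlg.tameSymbol _ (sp c) (sp d) /
        (CycAlg.tameSymbol _ (sp a) (sp d) * CycAlg.tameSymbol _ (sp c) (sp b)) : X.residueField ξ)) = _
      rw [div_eq_mul_inv, ordAt_mul hX.2.2 h hd (mul_ne_zero (t0 ha hb) (t0 hc hd0))
          (inv_ne_zero (mul_ne_zero (t0 ha hd0) (t0 hc hb))), ordAt_inv hX.2.2 h hd (mul_ne_zero (t0 ha hd0) (t0 hc hb)),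
        ordAt_mul hX.2.2 h hd (t0 ha hb) (t0 hc hd0), ordAt_mul hX.2.2 h hd (t0 ha hd0) (t0 hc hb)]
      ring
    rw [eN1, eL1, divFun_of h hd]
    show _ = Cyc.ordAt x ξ h (hSym eL eN hL hN δ hX ξ * X.residue ξ (gN ξ) ^ α ξ * (X.residue ξ (gL ξ) ^ β ξ)⁻¹)
    rw [ordAt_mul hX.2.2 h hd (mul_ne_zero (hh0 ξ) (zpow_ne_zero _ (hgN ξ))) (inv_ne_zero (zpow_ne_zero _ (hgL ξ))),
      ordAt_inv hX.2.2 h hd (zpow_ne_zero _ (hgL ξ)), ordAt_mul hX.2.2 h hd (hh0 ξ) (zpow_ne_zero _ (hgN ξ)),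
      ordAt_zpow hX.2.2 h hd (hgN ξ), ordAt_zpow hX.2.2 h hd (hgL ξ), eh,
      ordAt_mul hX.2.2 h hd (mul_ne_zero oT (zpow_ne_zero _ oA)) (zpow_ne_zero _ oB),
      ordAt_mul hX.2.2 h hd oT (zpow_ne_zero _ oA), ordAt_zpow hX.2.2 h hd oA, ordAt_zpow hX.2.2 h hd oB, eT]
    ring
  have hTfin : (Function.support T).Finite := by
    refine (((f1.union f2).union f3).union f4).subset fun ξ hξ => ?_
    by_contra hn
    simp only [Set.mem_union, Function.mem_support, not_or, not_not] at hn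
    exact hξ (by simp [T, hn.1.1.1, hn.1.1.2, hn.1.2, hn.2])
  have hfin : ∀ {M : X.Modules} (a : X → ℤ) (w : (ξ : X) → Cyc.secFibre M ξ),
      (∀ ξ ∈ U x, δ ξ + 1 = δ (genericPoint X) → ξ ∉ S x → a ξ = 0) → (∀ ξ, a ξ ≠ 0 → δ ξ + 1 = δ (genericPoint X)) →
      (Function.support fun ξ => a ξ * Cyc.secDivFun δ M ξ (w ξ) x).Finite := fun {M} a w ha ha' => by
    refine (hSfin x).subset fun ξ hξ => by_contra fun hn => ?_
    exact left_ne_zero_of_mul hξ (ha ξ ((specializes_of_secDivFun_ne_zero (right_ne_zero_of_mul hξ)).1.mem_open (U x).2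
      (hxU x)) (ha' ξ (left_ne_zero_of_mul hξ)) hn)
  have hf1 := hfin α u (fun ξ h1 h2 h3 => (hS x ξ h1 h2 h3).2.1) hα0
  have hf2 := hfin β v (fun ξ h1 h2 h3 => (hS x ξ h1 h2 h3).2.2) hβ0
  have hT : ∑ᶠ ξ, T ξ = 0 := by
    have h12 : (Function.support fun ξ => tameOrd δ x a b ξ + tameOrd δ x c d ξ).Finite :=
      (f1.union f2).subset (Function.support_add _ _)
    have h123 : (Function.support fun ξ => tameOrd δ x a b ξ + tameOrd δ x c d ξ - tameOrd δ x a d ξ).Finite :=
      (h12.union f3).subset (Function.support_sub _ _)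
    simp only [T]
    rw [finsum_sub_distrib h123 f4, finsum_sub_distrib h12 f3, finsum_add_distrib f1 f2, s1, s2, s3, s4]
    rfl
  rw [← finsum_sub_distrib hf1 hf2, ← finsum_congr key,
    finsum_add_distrib ((hf1.union hf2).subset (Function.support_sub _ _)) hTfin, hT, add_zero]

theorem comm_of_integral (hL : PicF.IsInvertible L) (hN : PicF.IsInvertible N)
    (s : Cyc.secFibre L (genericPoint X)) (hs : s ≠ 0) (t : Cyc.secFibre N (genericPoint X)) (ht : t ≠ 0)
    (u : (ξ : X) → Cyc.secFibre N ξ) (hu : ∀ ξ, u ξ ≠ 0) (v : (ξ : X) → Cyc.secFibre L ξ) (hv : ∀ ξ, v ξ ≠ 0)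
    (γ₁ γ₂ : AlgebraicCycle X ℤ)
    (h₁ : ⇑γ₁ = Cyc.c1CapFun δ N (Cyc.secDivFun δ L (genericPoint X) s) u)
    (h₂ : ⇑γ₂ = Cyc.c1CapFun δ L (Cyc.secDivFun δ N (genericPoint X) t) v) :
    Cyc.RatEquiv δ (δ (genericPoint X) - 2) γ₁ γ₂ := by
  obtain ⟨F, -, hF⟩ := exists_fam_comm hX hL hN s hs t ht u hu v hv
  refine (ratEquivZero_iff _).2 ⟨F, fun x => ?_⟩
  show γ₁ x - γ₂ x = _
  rw [h₁, h₂, hF]

end Groth.Agent.CycLib
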