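import Groth.Agent.CycLib.IntChain
import Groth.Agent.CycLib.Proj
import Groth.Agent.CycLib.Shift
import Groth.Agent.AmpleEmb.Inverse
import Groth.Agent.WeilCohLib.FixedPts

/-! # Intersection numbers of inverse images -/

set_option autoImplicit false
set_option backward.isDefEq.respectTransparency false
set_option linter.style.haveILetI false

universe u

open CategoryTheory CategoryTheory.Limits AlgebraicGeometry TopologicalSpace
open Groth.Agent.PullbackMod

noncomputable section

namespace Groth.Agent.CycLib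

variable (k : Type u) [Field k]

/-- The dimension of the closure as a dimension function. -/
theorem exists_delta (X : Scheme.{u}) [X.Over (Spec (CommRingCat.of k))]
    [LocallyOfFiniteType (X ↘ Spec (CommRingCat.of k))] :
    ∃ δ : X → ℤ, Cyc.DeltaCompat (X ↘ Spec (CommRingCat.of k)) δ (fun _ => 0) := by
  choose t ht _ using fun x => FlatDim.topologicalKrullDim_closure k (X ↘ Spec (CommRingCat.of k)) x
  exact ⟨fun x => t x, fun x => ⟨t x, ht x, by simp⟩⟩

variable {X Y : Scheme.{u}} [X.Over (Spec (CommRingCat.of k))] [Y.Over (Spec (CommRingCat.of k))]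
  {g : X ⟶ Y} (hg : g ≫ (Y ↘ Spec (CommRingCat.of k)) = X ↘ Spec (CommRingCat.of k))
  {δX : X → ℤ} {δY : Y → ℤ}
  (hδX : Cyc.DeltaCompat (X ↘ Spec (CommRingCat.of k)) δX (fun _ => 0))
  (hδY : Cyc.DeltaCompat (Y ↘ Spec (CommRingCat.of k)) δY (fun _ => 0))

include hg hδX hδY

theorem deltaCompat_of_over : Cyc.DeltaCompat g δX δY := fun x => by
  obtain ⟨n, hn, e⟩ := hδX x
  obtain ⟨m, hm, e'⟩ := hδY (g x)
  have h := FlatDim.resTrdegAt_comp g (Y ↘ Spec (CommRingCat.of k)) x
  rw [resTrdegAt_congr hg x, show DimFormulaLib.resTrdegAt (X ↘ Spec (CommRingCat.of k)) x = n from hn,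
    show DimFormulaLib.resTrdegAt (Y ↘ Spec (CommRingCat.of k)) (g x) = m from hm] at h
  obtain ⟨l, hl⟩ := Cardinal.lt_aleph0.1 (lt_of_le_of_lt ((self_le_add_left _ _).trans h.ge)
    (Cardinal.natCast_lt_aleph0 (n := n)))
  rw [hl] at h
  refine ⟨l, hl, ?_⟩
  have h' : n = m + l := by exact_mod_cast h
  simp only [] at e e' ⊢
  omega

variable [IsProper (X ↘ Spec (CommRingCat.of k))] [IsProper (Y ↘ Spec (CommRingCat.of k))]

/-- The intersection number of inverse images on the closure of a point. -/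
theorem pairing_pullback : ∀ (r : ℕ) (M : Fin r → Y.Modules) (hM : ∀ i, PicF.IsInvertible (M i)) (ξ : X),
    δX ξ = (r : ℤ) →
    IntLib.pairing k (IntLib.compMod ξ) (∏ i, IntLib.dif (AmpleLib.isInvertible_pullback g (hM i))) =
      (AlgebraicCycle.mapCoeff g δX δY ξ : ℤ) *
        IntLib.pairing k (IntLib.compMod (g ξ)) (∏ i, IntLib.dif (hM i)) := by
  haveI hp : IsProper g := by
    haveI : IsProper (g ≫ (Y ↘ Spec (CommRingCat.of k))) := hg ▸ inferInstance
    exact IsProper.of_comp g (Y ↘ Spec (CommRingCat.of k))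
  haveI := EulerIneqLib.isNoetherian_proper (X := X) k
  haveI := EulerIneqLib.isNoetherian_proper (X := Y) k
  have hd := deltaCompat_of_over k hg hδX hδY
  have hXs := isSetup_of_field k δX hδX
  have hYs := isSetup_of_field k δY hδY
  classical
  intro r
  induction r with
  | zero =>
    intro M hM ξ hξ
    have hξ' : δX ξ = 0 := by simpa using hξ
    have hy : δY (g ξ) = 0 := by
      obtain ⟨n, -, e⟩ := hd ξ
      obtain ⟨t, ht, -⟩ := delta_dim k δY hδY (g ξ)
      omega
    rw [Finset.univ_eq_empty, Finset.prod_empty, Finset.prod_empty, pairing_compMod_one k hδX hξ',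
      pairing_compMod_one k hδY hy, AlgebraicCycle.mapCoeff, if_pos (hξ'.trans hy.symm),
      WeilCohLib.residueDegree_congr hg.symm ξ, WeilCohLib.residueDegree_comp', Nat.cast_mul, mul_comm]
  | succ r ih =>
    intro M hM ξ hξ
    obtain ⟨L, hL, ⟨θ⟩⟩ := AmpleEmb.exists_isInverseOf (hM 0)
    have hθ : Nonempty (CohB1.tensorMod (M 0) L ≅ Coh.structureModule Y) := ⟨θ⟩
    have hθ' : Nonempty (CohB1.tensorMod ((Scheme.Modules.pullback g).obj (M 0)) ((Scheme.Modules.pullback g).obj L) ≅
        Coh.structureModule X) :=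
      ⟨(AmpleLib.pullTensor g (M 0) L).symm ≪≫ (Scheme.Modules.pullback g).mapIso θ ≪≫ AmpleLib.pullO g⟩
    obtain ⟨t, ht⟩ := exists_genAt hL (g ξ)
    have htb : Function.Bijective fun a : Y.presheaf.stalk (g ξ) => a • t := by
      have := ht (g ξ) specializes_rfl
      rwa [TopCat.Presheaf.stalkSpecializes_refl] at this
    let s : Cyc.secFibre L (g ξ) := (1 : Y.presheaf.stalk (g ξ)) • mkF L (g ξ) t
    have hs : s ≠ 0 := fun e => by
      have := (smul_mkF_eq_zero_iff htb (1 : Y.presheaf.stalk (g ξ))).1 e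
      exact one_ne_zero ((map_one (Y.residue (g ξ)).hom).symm.trans this)
    have hLX := AmpleLib.isInvertible_pullback g hL
    have hs' : pullFib g L ξ s ≠ 0 := pullFib_ne_zero g L hL hs
    obtain ⟨fX, eX⟩ := pairing_step k hδX hLX (AmpleLib.isInvertible_pullback g (hM 0)) hθ' ξ hξ
      (pullFib g L ξ s) hs' (fun i => (Scheme.Modules.pullback g).obj (M i.succ))
      fun i => AmpleLib.isInvertible_pullback g (hM i.succ)
    rw [Fin.prod_univ_succ, Fin.prod_univ_succ, eX]
    set P := fun y => IntLib.pairing k (IntLib.compMod y) (∏ i : Fin r, IntLib.dif (hM i.succ)) with hP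
    set D := fun x => Cyc.secDivFun δX ((Scheme.Modules.pullback g).obj L) ξ (pullFib g L ξ s) x with hD
    have hfD : (Function.support D).Finite :=
      ((secDivCycle hXs.2.2 hLX ξ (pullFib g L ξ s)).locallyFiniteSupport.finite_inter_support_of_isCompact
        isCompact_univ).subset fun x hx => ⟨trivial, hx⟩
    have hterm : ∀ x, D x * IntLib.pairing k (IntLib.compMod x)
        (∏ i : Fin r, IntLib.dif (AmpleLib.isInvertible_pullback g (hM i.succ))) =
        D x * (AlgebraicCycle.mapCoeff g δX δY x : ℤ) * P (g x) := fun x => by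
      by_cases hx : D x = 0
      · rw [hx, zero_mul, zero_mul, zero_mul]
      have h1 := (specializes_of_secDivFun_ne_zero hx).2
      rw [ih (fun i => M i.succ) (fun i => hM i.succ) x (by push_cast at hξ; omega), mul_assoc]
    rw [finsum_congr hterm]
    let S := hfD.toFinset
    rw [finsum_eq_sum_of_support_subset (s := S) _ fun x hx =>
      hfD.mem_toFinset.2 (left_ne_zero_of_mul (left_ne_zero_of_mul hx))]
    have key : ∀ y, ∑ x ∈ S with g x = y, D x * (AlgebraicCycle.mapCoeff g δX δY x : ℤ) =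
        (AlgebraicCycle.mapCoeff g δX δY ξ : ℤ) * Cyc.secDivFun δY L (g ξ) s y := fun y => by
      rw [← sum_secDivFun_pullFib g hXs hYs hd hL ξ s hs y]
      refine (finsum_mem_eq_sum_of_inter_support_eq _ ?_).symm
      ext x
      constructor
      · rintro ⟨h1, h2⟩
        exact ⟨Finset.mem_coe.2 (Finset.mem_filter.2 ⟨hfD.mem_toFinset.2 (left_ne_zero_of_mul h2), h1⟩), h2⟩
      · rintro ⟨h1, h2⟩
        exact ⟨(Finset.mem_filter.1 (Finset.mem_coe.1 h1)).2, h2⟩
    rw [← Finset.sum_fiberwise_of_maps_to (t := S.image g) (g := g) fun x hx => Finset.mem_image_of_mem _ hx,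
      Finset.sum_congr rfl fun y _ => show ∑ x ∈ S with g x = y, D x * (AlgebraicCycle.mapCoeff g δX δY x : ℤ) * P (g x) =
          (AlgebraicCycle.mapCoeff g δX δY ξ : ℤ) * (Cyc.secDivFun δY L (g ξ) s y * P y) by
        rw [← mul_assoc, ← key y, Finset.sum_mul]
        exact Finset.sum_congr rfl fun x hx => by rw [(Finset.mem_filter.1 hx).2],
      ← Finset.mul_sum]
    by_cases hc : AlgebraicCycle.mapCoeff g δX δY ξ = 0
    · rw [hc, Nat.cast_zero, zero_mul, zero_mul]
    have hξY : δY (g ξ) = ((r + 1 : ℕ) : ℤ) := by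
      rw [AlgebraicCycle.mapCoeff] at hc
      split_ifs at hc with h
      · exact h.symm.trans hξ
      · exact absurd rfl hc
    obtain ⟨fY, eY⟩ := pairing_step k hδY hL (hM 0) hθ (g ξ) hξY s hs (fun i => M i.succ) fun i => hM i.succ
    rw [eY]
    refine congrArg _ (finsum_eq_sum_of_support_subset _ fun y hy => ?_).symm
    have h0 := key y
    by_contra hne
    rw [Finset.sum_eq_zero fun x hx => absurd (Finset.mem_coe.2 (Finset.mem_image.2
      ⟨x, (Finset.mem_filter.1 hx).1, (Finset.mem_filter.1 hx).2⟩)) hne] at h0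
    exact mul_ne_zero (Int.natCast_ne_zero.2 hc) (left_ne_zero_of_mul hy) h0.symm

end Groth.Agent.CycLib
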