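import Groth.Agent.CycLib.NefPull
import Groth.Agent.S1585
import Groth.Agent.S17276
import Groth.Agent.FinBirLib.Smooth
import Groth.Agent.DimLiftLib.Basic

/-! # Nefness tested on regular curves -/

set_option autoImplicit false
set_option backward.isDefEq.respectTransparency false
set_option linter.style.haveILetI false

universe u

open CategoryTheory CategoryTheory.Limits AlgebraicGeometry TopologicalSpace

noncomputable section

namespace Groth.Agent.CycLib

variable (k : Type u) [Field k]

/-- A regular complete curve over a given point of dimension one. -/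
theorem exists_regular_curve {X : Scheme.{u}} [X.Over (Spec (CommRingCat.of k))]
    [IsProper (X ↘ Spec (CommRingCat.of k))] {δ : X → ℤ}
    (hδ : Cyc.DeltaCompat (X ↘ Spec (CommRingCat.of k)) δ (fun _ => 0)) (x : X) (hx : δ x = 1) :
    ∃ (N : Scheme.{u}) (_ : N.Over (Spec (CommRingCat.of k))) (_ : IsProper (N ↘ Spec (CommRingCat.of k)))
      (_ : IsIntegral N) (g : N ⟶ X),
      g ≫ (X ↘ Spec (CommRingCat.of k)) = N ↘ Spec (CommRingCat.of k) ∧ g (genericPoint N) = x ∧
      topologicalKrullDim N = 1 ∧ ∀ y : N, IsRegularLocalRing (N.presheaf.stalk y) := by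
  let D := Scheme.IdealSheafData.vanishingIdeal (⟨closure {x}, isClosed_closure⟩ : TopologicalSpace.Closeds X)
  have hD : (D.support : Set X) = closure {x} := by
    rw [Scheme.IdealSheafData.coe_support_vanishingIdeal]
    rfl
  haveI : IsIntegral D.subscheme := CurveLib.isIntegral_vanishingIdeal isClosed_closure isIrreducible_singleton.closure
  let Z := D.subscheme
  have hι : D.subschemeι (genericPoint Z) = x := by
    have h1 : IsGenericPoint (D.subschemeι (genericPoint Z)) (closure (D.subschemeι '' Set.univ)) :=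
      (genericPoint_spec Z).image D.subschemeι.continuous
    rw [Set.image_univ, Scheme.IdealSheafData.range_subschemeι, hD, closure_closure] at h1
    exact h1.eq isGenericPoint_closure
  letI : Z.Over (Spec (CommRingCat.of k)) := ⟨D.subschemeι ≫ (X ↘ Spec (CommRingCat.of k))⟩
  haveI : IsProper (Z ↘ Spec (CommRingCat.of k)) :=
    inferInstanceAs (IsProper (D.subschemeι ≫ (X ↘ Spec (CommRingCat.of k))))
  haveI : QuasiCompact (Z.fromSpecStalk (genericPoint Z)) := inferInstance
  haveI : QuasiSeparated (Z.fromSpecStalk (genericPoint Z)) := inferInstance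
  obtain ⟨hfin, hdom, ⟨V, hV, hi⟩, hint, hnor⟩ := S1585.result k Z
  haveI := hfin
  haveI := hdom
  haveI := hint
  haveI := hi
  let ν := Curv2.normalizationι Z
  let N := Curv2.normalization Z
  letI : N.Over (Spec (CommRingCat.of k)) := ⟨ν ≫ (Z ↘ Spec (CommRingCat.of k))⟩
  haveI : IsProper (N ↘ Spec (CommRingCat.of k)) := inferInstanceAs (IsProper (ν ≫ (Z ↘ Spec (CommRingCat.of k))))
  haveI := EulerIneqLib.isNoetherian_proper (X := N) k
  haveI := EulerIneqLib.isNoetherian_proper (X := Z) k
  haveI : Surjective ν := ⟨fun z => by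
    have h1 : Set.range ν = Set.univ := by
      rw [← ν.denseRange.closure_eq, (ν.isClosedMap.isClosed_range).closure_eq]
    exact h1.symm.subset (Set.mem_univ z)⟩
  obtain ⟨δZ, hδZ⟩ := exists_delta k Z
  obtain ⟨δN, hδN⟩ := exists_delta k N
  have hZ1 : δZ (genericPoint Z) = 1 := by
    refine delta_eq_of_dim k hδZ (genericPoint Z) (t := 1) ?_
    have h1 : topologicalKrullDim (closure ({x} : Set X)) = ((1 : ℕ) : WithBot ℕ∞) := dim_closure_eq k hδ x hx
    rw [← hD, ← Scheme.IdealSheafData.range_subschemeι,
      ← (D.subschemeι.isEmbedding.toHomeomorph).isHomeomorph.topologicalKrullDim_eq] at h1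
    rw [genericPoint_spec Z, (Homeomorph.Set.univ Z).isHomeomorph.topologicalKrullDim_eq]
    exact h1
  obtain ⟨y, hy, hy1, -⟩ := exists_finite_point ν (deltaCompat_of_over k rfl hδN hδZ) (genericPoint Z)
  have hgen : y = genericPoint N := by
    have hη : ν (genericPoint N) = genericPoint Z := by
      have h1 : IsGenericPoint (ν (genericPoint N)) (closure (ν '' Set.univ)) := (genericPoint_spec N).image ν.continuous
      rw [Set.image_univ, ν.denseRange.closure_eq] at h1
      exact h1.eq (genericPoint_spec Z)
    have hmem : genericPoint Z ∈ V := (genericPoint_spec Z).mem_open_set_iff V.2 |>.2 (by simpa using hV)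
    have := (ν ∣_ V).homeomorph.injective (a₁ := ⟨y, show ν y ∈ V by rw [hy]; exact hmem⟩)
      (a₂ := ⟨genericPoint N, show ν (genericPoint N) ∈ V by rw [hη]; exact hmem⟩)
      (Subtype.ext (by
        rw [Scheme.Hom.homeomorph_apply, Scheme.Hom.homeomorph_apply]
        exact (morphismRestrict_base_coe ν V ⟨y, by show ν y ∈ V; rw [hy]; exact hmem⟩).trans ((hy.trans hη.symm).trans
          (morphismRestrict_base_coe ν V ⟨genericPoint N, by show ν (genericPoint N) ∈ V; rw [hη]; exact hmem⟩).symm)))
    exact congrArg Subtype.val this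
  subst hgen
  rw [hZ1] at hy1
  have hdim : topologicalKrullDim N = 1 := by
    have h1 := dim_closure_eq k hδN (genericPoint N) (t := 1) hy1
    rw [genericPoint_spec N, (Homeomorph.Set.univ N).isHomeomorph.topologicalKrullDim_eq] at h1
    exact h1
  refine ⟨N, inferInstance, inferInstance, inferInstance, ν ≫ D.subschemeι, Category.assoc _ _ _, ?_, hdim, fun z => ?_⟩
  · exact (congrArg D.subschemeι hy).trans hι
  haveI := (hnor z).1
  haveI := (hnor z).2
  haveI : Ring.KrullDimLE 1 (N.presheaf.stalk z) := by
    rw [Ring.krullDimLE_iff, ringKrullDim_stalk_eq_coheight]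
    refine le_trans (Order.coheight_le_krullDim _) ?_
    rw [← DimLiftLib.topologicalKrullDim_eq, hdim]
    rfl
  exact FinBirLib.isRegularLocalRing_of_normal_dimLE_one _

/-- The degree of a line bundle on a complete curve is minus its pairing at the generic point. -/
theorem deg_eq_neg_pairing_generic {X : Scheme.{u}} [X.Over (Spec (CommRingCat.of k))]
    [IsProper (X ↘ Spec (CommRingCat.of k))] [IsIntegral X] (hdim : topologicalKrullDim X = 1)
    {δ : X → ℤ} (hδ : Cyc.DeltaCompat (X ↘ Spec (CommRingCat.of k)) δ (fun _ => 0))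
    {L : X.Modules} (hL : PicF.IsInvertible L) :
    δ (genericPoint X) = 1 ∧
      Curv2.deg k X L 1 = - IntLib.pairing k (IntLib.compMod (genericPoint X)) (IntLib.dif hL) := by
  haveI := EulerIneqLib.isNoetherian_proper (X := X) k
  have hη : δ (genericPoint X) = 1 := by
    refine delta_eq_of_dim k hδ _ (t := 1) ?_
    rw [genericPoint_spec X, (Homeomorph.Set.univ X).isHomeomorph.topologicalKrullDim_eq, hdim]
    rfl
  refine ⟨hη, ?_⟩
  let e : (Scheme.Modules.pushforward (𝟙 X)).obj (Coh.structureModule X) ≅ Coh.structureModule X :=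
    (Scheme.Modules.pushforwardId X).app _
  have hpc : DevLib.IsPiece (genericPoint X) ((Scheme.Modules.pushforward (𝟙 X)).obj (Coh.structureModule X)) :=
    DevLib.isPiece_pushUnit (𝟙 X)
  set Q := (Scheme.Modules.pushforward (𝟙 X)).obj (Coh.structureModule X)
  have hd : topologicalKrullDim (CohB1.support Q) ≤ ((1 : ℕ) : WithBot ℕ∞) :=
    (topologicalKrullDim_subspace_le X _).trans (by rw [hdim]; exact le_rfl)
  have h := (pairing_eq_finsum k hδ (fun _ : Fin 1 => L) (fun _ => hL) hpc.coh hd).2
  rw [Fin.prod_univ_one, finsum_eq_single _ (genericPoint X) fun z hz => ?_, IntLib.pairing_iso k e,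
    IntLib.pairing_dif, ← CurveLib.euler_iso (K := k) (AmpleLib.unitL L).symm] at h
  · have hc : Cyc.sheafFun δ (1 : ℕ) Q (genericPoint X) = 1 := by
      rw [Cyc.sheafFun, if_pos (by exact hη)]
      haveI := hpc.simple
      rw [Module.length_eq_one]
      rfl
    rw [hc, one_mul] at h
    show Curv2.euler k X L - (1 : ℕ) * Curv2.euler k X (Coh.structureModule X) = _
    rw [← h]
    push_cast
    ring
  · by_cases hzd : δ z = 1
    · have := ((isSetup_of_field k δ hδ).2.2 (genericPoint X) z (genericPoint_specializes z) (Ne.symm hz)).1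
      omega
    · rw [Cyc.sheafFun, if_neg (by exact hzd), zero_mul]

/-- Transport of non-negative degree along a generically finite map from a complete curve. -/
theorem pairing_nonpos_of_deg {X N : Scheme.{u}} [X.Over (Spec (CommRingCat.of k))]
    [IsProper (X ↘ Spec (CommRingCat.of k))] [N.Over (Spec (CommRingCat.of k))]
    [IsProper (N ↘ Spec (CommRingCat.of k))] [IsIntegral N] (hdim : topologicalKrullDim N = 1)
    (g : N ⟶ X) (hg : g ≫ (X ↘ Spec (CommRingCat.of k)) = N ↘ Spec (CommRingCat.of k))
    {δ : X → ℤ} (hδ : Cyc.DeltaCompat (X ↘ Spec (CommRingCat.of k)) δ (fun _ => 0))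
    (hx : δ (g (genericPoint N)) = 1) {L : X.Modules} (hL : PicF.IsInvertible L)
    (hdeg : 0 ≤ Curv2.deg k N ((Scheme.Modules.pullback g).obj L) 1) :
    IntLib.pairing k (IntLib.compMod (g (genericPoint N))) (IntLib.dif hL) ≤ 0 := by
  haveI : IsProper g := by
    haveI : IsProper (g ≫ (X ↘ Spec (CommRingCat.of k))) := hg ▸ inferInstance
    exact IsProper.of_comp g (X ↘ Spec (CommRingCat.of k))
  haveI := EulerIneqLib.isNoetherian_proper (X := X) k
  obtain ⟨δN, hδN⟩ := exists_delta k N
  obtain ⟨hη, hD⟩ := deg_eq_neg_pairing_generic k hdim hδN (AmpleLib.isInvertible_pullback g hL)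
  have h := pairing_pullback k hg hδN hδ 1 (fun _ : Fin 1 => L) (fun _ => hL) (genericPoint N) (by rw [hη]; rfl)
  rw [Fin.prod_univ_one, Fin.prod_univ_one] at h
  have hc : AlgebraicCycle.mapCoeff g δN δ (genericPoint N) ≠ 0 := by
    obtain ⟨n, hn, e⟩ := deltaCompat_of_over k hg hδN hδ (genericPoint N)
    have hn0 : n = 0 := by omega
    subst hn0
    rw [AlgebraicCycle.mapCoeff, if_pos (hη.trans hx.symm)]
    have hfin := finite_residue_of_trdeg_zero g (genericPoint N) (hn.trans Nat.cast_zero)
    letI := (g.residueFieldMap (genericPoint N)).hom.toAlgebra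
    haveI : Module.Finite (X.residueField (g (genericPoint N))) (N.residueField (genericPoint N)) := hfin
    exact Module.finrank_pos.ne'
  rw [hD] at hdeg
  refine nonpos_of_mul_nonpos_right (a := (AlgebraicCycle.mapCoeff g δN δ (genericPoint N) : ℤ)) ?_
    (by exact_mod_cast Nat.pos_of_ne_zero hc)
  rw [← h]
  linarith

/-- Epimorphisms pull back. -/
theorem exists_epi_comp {N C X : Scheme.{u}} (h : N ⟶ C) (f : C ⟶ X) {E : X.Modules} {M : C.Modules}
    (q : (Scheme.Modules.pullback f).obj E ⟶ M) [Epi q] :
    ∃ q' : (Scheme.Modules.pullback (h ≫ f)).obj E ⟶ (Scheme.Modules.pullback h).obj M, Epi q' := by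
  haveI : Epi ((Scheme.Modules.pullback h).map q) :=
    haveI := (Scheme.Modules.pullbackPushforwardAdjunction h).leftAdjoint_preservesColimits
    inferInstance
  exact ⟨((Scheme.Modules.pullbackComp h f).app E).inv ≫ (Scheme.Modules.pullback h).map q, inferInstance⟩

end Groth.Agent.CycLib
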