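import Groth.Agent.CycLib.DivPull
import Groth.Agent.CatLib.Basic

/-! # Dimension functions and heights -/

set_option autoImplicit false
set_option backward.isDefEq.respectTransparency false
set_option linter.style.haveILetI false

universe u

open CategoryTheory AlgebraicGeometry

noncomputable section

namespace Groth.Agent.CycLib

variable {X : Scheme.{u}} {δ : X → ℤ} (hδ : Cyc.IsDimFun X δ) {x : X}
include hδ

theorem delta_fromSpecStalk_lt {P Q : PrimeSpectrum (X.presheaf.stalk x)} (h : P < Q) :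
    δ (X.fromSpecStalk x Q) < δ (X.fromSpecStalk x P) :=
  (hδ _ _ ((fromSpecStalk_specializes_iff P Q).2 h.le) ((X.fromSpecStalk x).isEmbedding.injective.ne h.ne)).1

/-- The coheight of a prime of a local ring is a difference of dimensions. -/
theorem coheight_eq_delta (Q : PrimeSpectrum (X.presheaf.stalk x)) :
    δ x ≤ δ (X.fromSpecStalk x Q) ∧ Order.coheight Q = ((δ (X.fromSpecStalk x Q) - δ x).toNat : ℕ∞) := by
  have hle : ∀ P : PrimeSpectrum (X.presheaf.stalk x), δ x ≤ δ (X.fromSpecStalk x P) := fun P =>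
    delta_le hδ (fromSpecStalk_specializes P)
  refine ⟨hle Q, ?_⟩
  generalize hD : (δ (X.fromSpecStalk x Q) - δ x).toNat = D
  induction D using Nat.strong_induction_on generalizing Q with | _ D ih => ?_
  let m : PrimeSpectrum (X.presheaf.stalk x) := IsLocalRing.closedPoint _
  have hQm : Q ≤ m := IsLocalRing.le_maximalIdeal Q.2.ne_top
  rcases hQm.eq_or_lt with rfl | hlt
  · rw [Scheme.fromSpecStalk_closedPoint, sub_self] at hD
    subst hD
    exact Order.coheight_eq_zero.2 fun P _ => IsLocalRing.le_maximalIdeal P.2.ne_top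
  have hlt' : ∀ P, Q < P → (δ (X.fromSpecStalk x P) - δ x).toNat < D := fun P hP => by
    have := delta_fromSpecStalk_lt hδ hP
    have := hle P
    omega
  refine le_antisymm (Order.coheight_le_coe_iff.2 fun P hP => ?_) ?_
  · rw [ih _ (hlt' P hP) P rfl]
    exact_mod_cast hlt' P hP
  obtain ⟨z, ⟨Q', hQ', rfl⟩, hmax⟩ := Int.exists_greatest_of_bdd
    (P := fun z => ∃ P, Q < P ∧ δ (X.fromSpecStalk x P) = z)
    ⟨δ (X.fromSpecStalk x Q), fun z ⟨P, hP, e⟩ => e ▸ (delta_fromSpecStalk_lt hδ hP).le⟩ ⟨_, m, hlt, rfl⟩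
  have himm := (hδ (X.fromSpecStalk x Q) (X.fromSpecStalk x Q') ((fromSpecStalk_specializes_iff Q Q').2 hQ'.le)
    ((X.fromSpecStalk x).isEmbedding.injective.ne hQ'.ne)).2 fun w hw1 hw2 => by
    obtain ⟨P, rfl⟩ := exists_fromSpecStalk (hw2.trans (fromSpecStalk_specializes Q'))
    by_contra hcon
    push Not at hcon
    have hQP : Q < P := lt_of_le_of_ne ((fromSpecStalk_specializes_iff Q P).1 hw1) fun e => hcon.1 (by rw [e])
    have hPQ' : P < Q' := lt_of_le_of_ne ((fromSpecStalk_specializes_iff P Q').1 hw2) fun e => hcon.2 (by rw [e])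
    have := delta_fromSpecStalk_lt hδ hPQ'
    have := hmax _ ⟨P, hQP, rfl⟩
    omega
  have h2 := Order.coheight_add_one_le hQ'
  rw [ih _ (hlt' Q' hQ') Q' rfl] at h2
  refine le_trans ?_ h2
  have := hle Q'
  exact_mod_cast (show D ≤ (δ (X.fromSpecStalk x Q') - δ x).toNat + 1 by omega)

/-- The dimension of the local ring of a closed irreducible subset. -/
theorem ringKrullDim_locQuot {ξ : X} (h : ξ ⤳ x) :
    δ x ≤ δ ξ ∧ ringKrullDim (Cyc.LocQuot x ξ h) = ((δ ξ - δ x).toNat : WithBot ℕ∞) := by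
  obtain ⟨h1, h2⟩ := coheight_eq_delta hδ (⟨RingHom.ker (Cyc.specMap x ξ h), inferInstance⟩ :
    PrimeSpectrum (X.presheaf.stalk x))
  rw [fromSpecStalk_ker h] at h1 h2
  refine ⟨h1, ?_⟩
  rw [show ringKrullDim (Cyc.LocQuot x ξ h) = _ from
    CatLib.ringKrullDim_quotient_eq_coheight (⟨RingHom.ker (Cyc.specMap x ξ h), inferInstance⟩ :
      PrimeSpectrum (X.presheaf.stalk x)), h2]
  rfl

end Groth.Agent.CycLib
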