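import Groth.Agent.CycLib.Frac

/-! # Principal divisors and rational equivalence -/

set_option autoImplicit false
set_option backward.isDefEq.respectTransparency false
set_option linter.style.haveILetI false

universe u

open CategoryTheory AlgebraicGeometry TopologicalSpace Filter
open scoped Topology

noncomputable section

namespace Groth.Agent.CycLib

variable {X : Scheme.{u}} {δ : X → ℤ}

theorem divFun_of {ξ x : X} (h : ξ ⤳ x) (hd : δ x + 1 = δ ξ) (f : X.residueField ξ) :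
    Cyc.divFun δ ξ f x = Cyc.ordAt x ξ h f := dif_pos ⟨h, hd⟩

theorem specializes_of_divFun_ne_zero {ξ x : X} {f : X.residueField ξ} (h : Cyc.divFun δ ξ f x ≠ 0) :
    ξ ⤳ x ∧ δ x + 1 = δ ξ := by
  by_contra hc
  exact h (dif_neg hc)

theorem delta_le (hδ : Cyc.IsDimFun X δ) {x y : X} (h : x ⤳ y) : δ y ≤ δ x := by
  rcases eq_or_ne x y with rfl | hne
  · exact le_rfl
  · exact (hδ x y h hne).1.le

theorem eq_or_eq_of_between (hδ : Cyc.IsDimFun X δ) {ξ z x : X} (h₁ : ξ ⤳ z) (h₂ : z ⤳ x) (hd : δ x + 1 = δ ξ) :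
    z = ξ ∨ z = x := by
  by_contra hc
  obtain ⟨hc₁, hc₂⟩ := not_or.1 hc
  have := (hδ _ _ h₁ (Ne.symm hc₁)).1
  have := (hδ _ _ h₂ hc₂).1
  omega

variable [IsLocallyNoetherian X]

/-- A rational function has finitely many zeros and poles on an affine open. -/
theorem finite_inter_support_divFun (hδ : Cyc.IsDimFun X δ) (ξ : X) (f : X.residueField ξ) {U : X.Opens}
    (hU : IsAffineOpen U) : ((U : Set X) ∩ Function.support (Cyc.divFun δ ξ f)).Finite := by
  by_cases hξ : ξ ∈ U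
  swap
  · refine Set.Finite.subset Set.finite_empty fun x hx => hξ ?_
    exact (specializes_of_divFun_ne_zero hx.2).1.mem_open U.2 hx.1
  rcases eq_or_ne f 0 with rfl | hf
  · refine Set.Finite.subset Set.finite_empty fun x hx => hx.2 ?_
    obtain ⟨h, hd⟩ := specializes_of_divFun_ne_zero hx.2
    rw [divFun_of h hd, ordAt_zero hδ h hd]
  obtain ⟨a, b, hb, hab⟩ := exists_fraction_affine (specializes_rfl (x := ξ)) hU hξ f
  have hb' : Cyc.specMap ξ ξ specializes_rfl (X.presheaf.germ U ξ hξ b) ≠ 0 := by rwa [specMap_germ _ hξ hξ]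
  have ha' : Cyc.specMap ξ ξ specializes_rfl (X.presheaf.germ U ξ hξ a) ≠ 0 := fun e => hf (by rw [hab, e, zero_div])
  rw [specMap_germ _ hξ hξ] at ha'
  haveI : IsNoetherianRing Γ(X, U) := IsLocallyNoetherian.component_noetherian ⟨U, hU⟩
  set J : Ideal Γ(X, U) := (hU.primeIdealOf ⟨ξ, hξ⟩).asIdeal ⊔ Ideal.span {a * b}
  refine Set.Finite.subset
    ((J.finite_minimalPrimes_of_isNoetherianRing Γ(X, U)).preimage (f := PrimeSpectrum.asIdeal)
      (fun p _ q _ e => PrimeSpectrum.ext e) |>.image fun q => hU.fromSpec q) fun x ⟨hxU, hxs⟩ => ?_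
  obtain ⟨h, hd⟩ := specializes_of_divFun_ne_zero hxs
  let P := hU.primeIdealOf ⟨x, hxU⟩
  let Pξ := hU.primeIdealOf ⟨ξ, hξ⟩
  have hPx : hU.fromSpec P = x := hU.fromSpec_primeIdealOf ⟨x, hxU⟩
  have hPξ : hU.fromSpec Pξ = ξ := hU.fromSpec_primeIdealOf ⟨ξ, hξ⟩
  have hemb := hU.fromSpec.isEmbedding
  refine ⟨P, ?_, hPx⟩
  have hle : Pξ.asIdeal ≤ P.asIdeal := (PrimeSpectrum.le_iff_specializes Pξ P).2
    (hemb.isInducing.specializes_iff.1 (by rw [hPx, hPξ]; exact h))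
  have hmem : a * b ∈ P.asIdeal := by
    by_contra hnot
    letI : Algebra Γ(X, U) (X.presheaf.stalk x) := (X.presheaf.germ U x hxU).hom.toAlgebra
    haveI := hU.isLocalization_stalk ⟨x, hxU⟩
    have hu : ∀ c : Γ(X, U), c ∉ P.asIdeal → Cyc.ordAt x ξ h (Cyc.specMap x ξ h (X.presheaf.germ U x hxU c)) = 0 :=
      fun c hc => ordAt_specMap_unit hδ h hd
        (IsLocalization.map_units (X.presheaf.stalk x) (⟨c, hc⟩ : P.asIdeal.primeCompl))
    have hua := hu a fun e => hnot (Ideal.mul_mem_right _ _ e)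
    have hub := hu b fun e => hnot (Ideal.mul_mem_left _ _ e)
    have ha₂ : Cyc.specMap x ξ h (X.presheaf.germ U x hxU a) ≠ 0 := by rwa [specMap_germ h hxU hξ]
    have hb₂ : Cyc.specMap x ξ h (X.presheaf.germ U x hxU b) ≠ 0 := by rwa [specMap_germ h hxU hξ]
    refine hxs ?_
    rw [divFun_of h hd, hab, specMap_germ _ hξ hξ, specMap_germ _ hξ hξ, ← specMap_germ h hxU hξ a,
      ← specMap_germ h hxU hξ b, div_eq_mul_inv, ordAt_mul hδ h hd ha₂ (inv_ne_zero hb₂),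
      ordAt_inv hδ h hd hb₂, hua, hub, neg_zero, add_zero]
  have hnotξ : a * b ∉ Pξ.asIdeal := by
    letI : Algebra Γ(X, U) (X.presheaf.stalk ξ) := (X.presheaf.germ U ξ hξ).hom.toAlgebra
    haveI := hU.isLocalization_stalk ⟨ξ, hξ⟩
    intro hm
    rcases Pξ.2.mem_or_mem hm with h' | h'
    · refine ha' ?_
      have : X.presheaf.germ U ξ hξ a ∈ IsLocalRing.maximalIdeal (X.presheaf.stalk ξ) :=
        (IsLocalization.AtPrime.to_map_mem_maximal_iff (X.presheaf.stalk ξ) Pξ.asIdeal a).2 h'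
      exact (IsLocalRing.residue_eq_zero_iff _).2 this
    · refine hb ?_
      have : X.presheaf.germ U ξ hξ b ∈ IsLocalRing.maximalIdeal (X.presheaf.stalk ξ) :=
        (IsLocalization.AtPrime.to_map_mem_maximal_iff (X.presheaf.stalk ξ) Pξ.asIdeal b).2 h'
      exact (IsLocalRing.residue_eq_zero_iff _).2 this
  refine ⟨⟨P.2, sup_le hle ((Ideal.span_singleton_le_iff_mem _).2 hmem)⟩, fun Q ⟨hQ, hJQ⟩ hQP => ?_⟩
  let q : PrimeSpectrum Γ(X, U) := ⟨Q, hQ⟩
  have h1 : hU.fromSpec Pξ ⤳ hU.fromSpec q :=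
    ((PrimeSpectrum.le_iff_specializes Pξ q).1 (le_sup_left.trans hJQ)).map hU.fromSpec.continuous
  have h2 : hU.fromSpec q ⤳ hU.fromSpec P := ((PrimeSpectrum.le_iff_specializes q P).1 hQP).map hU.fromSpec.continuous
  rw [hPξ] at h1
  rw [hPx] at h2
  rcases eq_or_eq_of_between hδ h1 h2 hd with e | e
  · have e' : q = Pξ := hemb.injective (e.trans hPξ.symm)
    exact absurd ((congrArg PrimeSpectrum.asIdeal e').le (hJQ (Ideal.mem_sup_right (Ideal.subset_span rfl)))) hnotξ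
  · exact (congrArg PrimeSpectrum.asIdeal (hemb.injective (e.trans hPx.symm) : q = P)).ge

omit [IsLocallyNoetherian X] in
theorem exists_affine (x : X) : ∃ U : X.Opens, IsAffineOpen U ∧ x ∈ U := by
  obtain ⟨U, hU, hx, -⟩ := exists_isAffineOpen_mem_and_subset (x := x) (U := ⊤) trivial
  exact ⟨U, hU, hx⟩

/-- A locally finite family of points with rational functions on their closures. -/
structure Fam (δ : X → ℤ) (k : ℤ) where
  ι : Type u
  ξ : ι → X
  f : ∀ i, X.residueField (ξ i)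
  hξ : ∀ i, δ (ξ i) = k + 1
  hf : ∀ i, f i ≠ 0
  fin : ∀ x : X, ∃ U : Set X, IsOpen U ∧ x ∈ U ∧ {i | (closure {ξ i} ∩ U).Nonempty}.Finite

variable {k : ℤ}

omit [IsLocallyNoetherian X] in
theorem ratEquivZero_iff (α : AlgebraicCycle X ℤ) :
    Cyc.RatEquivZero δ k α ↔ ∃ F : Fam δ k, ∀ x, α x = ∑ᶠ i, Cyc.divFun δ (F.ξ i) (F.f i) x :=
  ⟨fun ⟨ι, ξ, f, h1, h2, h3, h4⟩ => ⟨⟨ι, ξ, f, h1, h2, h3⟩, h4⟩,
    fun ⟨F, h⟩ => ⟨F.ι, F.ξ, F.f, F.hξ, F.hf, F.fin, h⟩⟩

omit [IsLocallyNoetherian X] in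
theorem Fam.finite_support (F : Fam δ k) (x : X) :
    (Function.support fun i => Cyc.divFun δ (F.ξ i) (F.f i) x).Finite := by
  obtain ⟨U, -, hxU, hfin⟩ := F.fin x
  exact hfin.subset fun i hi => ⟨x, specializes_iff_mem_closure.1 (specializes_of_divFun_ne_zero hi).1, hxU⟩

omit [IsLocallyNoetherian X] in
/-- Only finitely many members of a family meet a quasi-compact open. -/
theorem Fam.finite_mem (F : Fam δ k) {U : X.Opens} (hU : IsCompact (U : Set X)) : {i | F.ξ i ∈ U}.Finite := by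
  choose V hVo hxV hVfin using F.fin
  obtain ⟨s, hs⟩ := hU.elim_finite_subcover V hVo fun x _ => Set.mem_iUnion.2 ⟨x, hxV x⟩
  refine ((s.finite_toSet.biUnion fun x _ => hVfin x)).subset fun i hi => ?_
  obtain ⟨x, hx, hix⟩ := Set.mem_iUnion₂.1 (hs hi)
  exact Set.mem_biUnion hx ⟨F.ξ i, subset_closure rfl, hix⟩

/-- The cycle of a family. -/
def Fam.cycle (hδ : Cyc.IsDimFun X δ) (F : Fam δ k) : AlgebraicCycle X ℤ where
  toFun x := ∑ᶠ i, Cyc.divFun δ (F.ξ i) (F.f i) x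
  supportWithinDomain' := Set.subset_univ _
  supportLocallyFiniteWithinDomain' z _ := by
    obtain ⟨U, hU, hz⟩ := exists_affine z
    refine ⟨U, U.2.mem_nhds hz, ((F.finite_mem hU.isCompact).biUnion fun i _ =>
      finite_inter_support_divFun hδ (F.ξ i) (F.f i) hU).subset fun x ⟨hxU, hx⟩ => ?_⟩
    obtain ⟨i, hi⟩ : ∃ i, Cyc.divFun δ (F.ξ i) (F.f i) x ≠ 0 := by
      by_contra hall
      push Not at hall
      exact hx (by simp [hall])
    exact Set.mem_biUnion (show i ∈ {i | F.ξ i ∈ U} from (specializes_of_divFun_ne_zero hi).1.mem_open U.2 hxU)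
      ⟨hxU, hi⟩

theorem Fam.ratEquivZero (hδ : Cyc.IsDimFun X δ) (F : Fam δ k) : Cyc.RatEquivZero δ k (F.cycle hδ) :=
  (ratEquivZero_iff _).2 ⟨F, fun _ => rfl⟩

/-- The family with one member. -/
def Fam.single {ξ : X} (hξ : δ ξ = k + 1) {f : X.residueField ξ} (hf : f ≠ 0) : Fam δ k where
  ι := PUnit
  ξ _ := ξ
  f _ := f
  hξ _ := hξ
  hf _ := hf
  fin x := ⟨Set.univ, isOpen_univ, trivial, Set.toFinite _⟩

omit [IsLocallyNoetherian X] in
theorem ratEquivZero_zero : Cyc.RatEquivZero δ k (0 : AlgebraicCycle X ℤ) :=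
  (ratEquivZero_iff _).2 ⟨⟨PEmpty, PEmpty.elim, fun i => i.elim, fun i => i.elim, fun i => i.elim,
    fun x => ⟨Set.univ, isOpen_univ, trivial, Set.toFinite _⟩⟩, fun x => by simp [finsum_of_isEmpty]⟩

omit [IsLocallyNoetherian X] in
theorem ratEquivZero_add {α β : AlgebraicCycle X ℤ} (hα : Cyc.RatEquivZero δ k α) (hβ : Cyc.RatEquivZero δ k β) :
    Cyc.RatEquivZero δ k (α + β) := by
  obtain ⟨F, hF⟩ := (ratEquivZero_iff _).1 hα
  obtain ⟨G, hG⟩ := (ratEquivZero_iff _).1 hβ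
  refine (ratEquivZero_iff _).2 ⟨⟨F.ι ⊕ G.ι, Sum.elim F.ξ G.ξ, fun i => match i with
    | .inl i => F.f i
    | .inr i => G.f i, fun i => ?_, fun i => ?_, fun x => ?_⟩, fun x => ?_⟩
  · cases i
    exacts [F.hξ _, G.hξ _]
  · cases i
    exacts [F.hf _, G.hf _]
  · obtain ⟨U, hUo, hxU, hU⟩ := F.fin x
    obtain ⟨V, hVo, hxV, hV⟩ := G.fin x
    refine ⟨U ∩ V, hUo.inter hVo, ⟨hxU, hxV⟩, ((hU.image Sum.inl).union (hV.image Sum.inr)).subset ?_⟩
    rintro (i | i) ⟨y, hy, hyU, hyV⟩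
    exacts [Or.inl ⟨i, ⟨y, hy, hyU⟩, rfl⟩, Or.inr ⟨i, ⟨y, hy, hyV⟩, rfl⟩]
  · show α x + β x = _
    rw [hF, hG]
    classical
    let s := (F.finite_support x).toFinset
    let t := (G.finite_support x).toFinset
    rw [finsum_eq_sum_of_support_subset _ (s := s) (by simp [s]), finsum_eq_sum_of_support_subset _ (s := t) (by simp [t])]
    symm
    rw [finsum_eq_sum_of_support_subset _ (s := s.disjSum t) ?_]
    · rw [Finset.sum_disjSum]
      rfl
    · rintro (i | i) hi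
      · simpa [s] using hi
      · simpa [t] using hi

theorem ratEquivZero_neg (hδ : Cyc.IsDimFun X δ) {α : AlgebraicCycle X ℤ} (hα : Cyc.RatEquivZero δ k α) :
    Cyc.RatEquivZero δ k (-α) := by
  obtain ⟨F, hF⟩ := (ratEquivZero_iff _).1 hα
  refine (ratEquivZero_iff _).2 ⟨⟨F.ι, F.ξ, fun i => (F.f i)⁻¹, F.hξ, fun i => inv_ne_zero (F.hf i), F.fin⟩, fun x => ?_⟩
  show -α x = _
  rw [hF, ← finsum_neg_distrib]
  refine finsum_congr fun i => ?_
  by_cases h : F.ξ i ⤳ x ∧ δ x + 1 = δ (F.ξ i)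
  · rw [divFun_of h.1 h.2, divFun_of h.1 h.2, ordAt_inv hδ h.1 h.2 (F.hf i)]
  · rw [Cyc.divFun, Cyc.divFun, dif_neg h, dif_neg h, neg_zero]

theorem ratEquivZero_sub (hδ : Cyc.IsDimFun X δ) {α β : AlgebraicCycle X ℤ} (hα : Cyc.RatEquivZero δ k α)
    (hβ : Cyc.RatEquivZero δ k β) : Cyc.RatEquivZero δ k (α - β) := by
  rw [sub_eq_add_neg]
  exact ratEquivZero_add hα (ratEquivZero_neg hδ hβ)

theorem ratEquiv_symm (hδ : Cyc.IsDimFun X δ) {α β : AlgebraicCycle X ℤ} (h : Cyc.RatEquiv δ k α β) :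
    Cyc.RatEquiv δ k β α := by
  have := ratEquivZero_neg hδ h
  rwa [neg_sub] at this

omit [IsLocallyNoetherian X] in
theorem ratEquiv_trans {α β γ : AlgebraicCycle X ℤ} (h₁ : Cyc.RatEquiv δ k α β) (h₂ : Cyc.RatEquiv δ k β γ) :
    Cyc.RatEquiv δ k α γ := by
  have := ratEquivZero_add h₁ h₂
  rwa [sub_add_sub_cancel] at this

/-- The subgroup of cycles rationally equivalent to zero. -/
def ratZero (hδ : Cyc.IsDimFun X δ) (k : ℤ) : AddSubgroup (AlgebraicCycle X ℤ) where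
  carrier := {α | Cyc.RatEquivZero δ k α}
  add_mem' := ratEquivZero_add
  zero_mem' := ratEquivZero_zero
  neg_mem' := ratEquivZero_neg hδ

theorem ratEquivZero_zsmul (hδ : Cyc.IsDimFun X δ) {α : AlgebraicCycle X ℤ} (hα : Cyc.RatEquivZero δ k α) (n : ℤ) :
    Cyc.RatEquivZero δ k (n • α) :=
  (ratZero hδ k).zsmul_mem hα n

end Groth.Agent.CycLib
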