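import Groth.Agent.CycLib.PushEquiv
import Groth.Agent.S6482
import Groth.Agent.WeilCohLib.FixedPts

/-! # Cycles along envelopes -/

set_option autoImplicit false
set_option backward.isDefEq.respectTransparency false
set_option linter.style.haveILetI false

universe u

open CategoryTheory CategoryTheory.Limits AlgebraicGeometry TopologicalSpace

noncomputable section

namespace Groth.Agent.CycLib

variable {X Y : Scheme.{u}}

/-- A point of `Y ×_X Y` over two given points, the second of which is rational over the base. -/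
theorem exists_pair_point (f : Y ⟶ X) {y y' : Y} (e : f y' = f y)
    (h : Function.Surjective (f.residueFieldMap y').hom) :
    ∃ z : ↥(pullback f f), pullback.fst f f z = y ∧ pullback.snd f f z = y' ∧
      Function.Surjective ((pullback.fst f f).residueFieldMap z).hom := by
  haveI : IsIso (f.residueFieldMap y') :=
    (ConcreteCategory.isIso_iff_bijective _).mpr ⟨(f.residueFieldMap y').hom.injective, h⟩
  have hk : ∀ z : X, z = f y' → ∃ k : Spec (X.residueField z) ⟶ Y, k ≫ f = X.fromSpecResidueField z ∧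
      ∀ p, k p = y' := by
    rintro _ rfl
    refine ⟨inv (Spec.map (f.residueFieldMap y')) ≫ Y.fromSpecResidueField y', ?_, fun p => ?_⟩
    · rw [Category.assoc, IsIso.inv_comp_eq]
      exact (Scheme.Hom.SpecMap_residueFieldMap_fromSpecResidueField f y').symm
    · rw [Scheme.Hom.comp_apply]
      exact Scheme.fromSpecResidueField_apply _ _
  obtain ⟨k, hk, hky⟩ := hk (f y) e.symm
  let q : Spec (Y.residueField y) ⟶ pullback f f :=
    pullback.lift (Y.fromSpecResidueField y) (Spec.map (f.residueFieldMap y) ≫ k) (by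
      rw [Category.assoc, hk]
      exact (Scheme.Hom.SpecMap_residueFieldMap_fromSpecResidueField f y).symm)
  let t : ↥(Spec (Y.residueField y)) := IsLocalRing.closedPoint (Y.residueField y)
  have hq : q ≫ pullback.fst f f = Y.fromSpecResidueField y := pullback.lift_fst _ _ _
  have hq' : q ≫ pullback.snd f f = Spec.map (f.residueFieldMap y) ≫ k := pullback.lift_snd _ _ _
  refine ⟨q t, ?_, ?_, ?_⟩
  · rw [← Scheme.Hom.comp_apply, hq]
    exact Scheme.fromSpecResidueField_apply _ _
  · rw [← Scheme.Hom.comp_apply, hq', Scheme.Hom.comp_apply]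
    exact hky _
  · have h1 : ∀ r : Spec (Y.residueField y) ⟶ Y, r = Y.fromSpecResidueField y →
        Function.Surjective (r.residueFieldMap t).hom := by
      rintro _ rfl
      intro b
      obtain ⟨b, rfl⟩ := IsLocalRing.residue_surjective b
      obtain ⟨a, ha⟩ := (Y.fromSpecResidueField y).stalkMap_surjective t b
      exact ⟨IsLocalRing.residue _ a, by rw [← ha]; rfl⟩
    have h2 := h1 _ hq
    rw [Scheme.residueFieldMap_comp] at h2
    intro b
    obtain ⟨a, ha⟩ := h2 ((q.residueFieldMap t).hom b)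
    exact ⟨a, (q.residueFieldMap t).hom.injective ha⟩

/-- The norm along a trivial residue field extension. -/
theorem normGen_residueFieldMap (f : Y ⟶ X) (y : Y) (h : Function.Surjective (f.residueFieldMap y).hom)
    (g : X.residueField (f y)) : Cyc.normGen f y (f.residueFieldMap y g) = g := by
  have h1 := S6482.residueDegree_eq_one f y h
  letI := (f.residueFieldMap y).hom.toAlgebra
  show Algebra.norm (X.residueField (f y)) (algebraMap (X.residueField (f y)) (Y.residueField y) g) = g
  rw [Algebra.norm_algebraMap]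
  rw [show Module.finrank (X.residueField (f y)) (Y.residueField y) = 1 from h1, pow_one]

variable (f : Y ⟶ X) [IsProper f] {δY : Y → ℤ} {δ : X → ℤ} {k : ℤ}

/-- The push forward of the cycle of a family. -/
theorem map_cycle [IsLocallyNoetherian Y] (hY : Cyc.IsSetup Y δY) (hX : Cyc.IsSetup X δ)
    (hδ : Cyc.DeltaCompat f δY δ) (F : Fam δY k) (x : X) :
    AlgebraicCycle.map f δY δ (F.cycle hY.2.2) x =
      ∑ᶠ j, if δY (F.ξ j) = δ (f (F.ξ j)) then Cyc.divFun δ (f (F.ξ j)) (Cyc.normGen f (F.ξ j) (F.f j)) x else 0 := by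
  classical
  obtain ⟨V, hV, hy⟩ := exists_affine x
  have hc0 : IsCompact ((f ⁻¹ᵁ V : Y.Opens) : Set Y) := f.isCompact_preimage hV.isCompact
  let J := (F.finite_mem hc0).toFinset
  have hJ : ∀ j y, f y = x → Cyc.divFun δY (F.ξ j) (F.f j) y ≠ 0 → j ∈ J := fun j y hy' hne => by
    refine (F.finite_mem hc0).mem_toFinset.2 ?_
    exact ((specializes_of_divFun_ne_zero hne).1.map f.continuous).mem_open V.2 (by rw [hy']; exact hy)
  let c : F.ι → AlgebraicCycle Y ℤ := fun j => (Fam.single (F.hξ j) (F.hf j)).cycle hY.2.2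
  have hc : ∀ j y, c j y = Cyc.divFun δY (F.ξ j) (F.f j) y := fun j y =>
    finsum_unique fun _ : PUnit => Cyc.divFun δY (F.ξ j) (F.f j) y
  let s := J.biUnion fun j => (finite_window f (c j) x).toFinset
  have hs : ∀ j ∈ J, ∀ y, f y = x → c j y ≠ 0 → y ∈ s := fun j hj y hy' h =>
    Finset.mem_biUnion.2 ⟨j, hj, (finite_window f (c j) x).mem_toFinset.2 ⟨hy', h⟩⟩
  have hα : ∀ y, f y = x → F.cycle hY.2.2 y = ∑ j ∈ J, c j y := fun y hy' => by
    show ∑ᶠ j, Cyc.divFun δY (F.ξ j) (F.f j) y = _
    rw [finsum_eq_sum_of_support_subset _ (s := J) fun j hj => hJ j y hy' hj]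
    simp only [hc]
  have hsα : ∀ y, f y = x → F.cycle hY.2.2 y ≠ 0 → y ∈ s := fun y hy' h => by
    rw [hα y hy'] at h
    obtain ⟨j, hj, hne⟩ := Finset.exists_ne_zero_of_sum_ne_zero h
    exact hs j hj y hy' hne
  rw [map_apply_eq_sum f _ x s hsα]
  have e1 : ∀ y ∈ s, (f ⁻¹' {x}).indicator (fun y => F.cycle hY.2.2 y * (AlgebraicCycle.mapCoeff f δY δ y : ℤ)) y =
      ∑ j ∈ J, (f ⁻¹' {x}).indicator (fun y => c j y * (AlgebraicCycle.mapCoeff f δY δ y : ℤ)) y := fun y _ => by
    by_cases hy' : y ∈ f ⁻¹' {x}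
    · simp only [Set.indicator_of_mem hy']
      rw [hα y hy', Finset.sum_mul]
    · simp only [Set.indicator_of_notMem hy', Finset.sum_const_zero]
  rw [Finset.sum_congr rfl e1, Finset.sum_comm]
  have e2 : ∀ j ∈ J, ∑ y ∈ s, (f ⁻¹' {x}).indicator (fun y => c j y * (AlgebraicCycle.mapCoeff f δY δ y : ℤ)) y =
      if δY (F.ξ j) = δ (f (F.ξ j)) then Cyc.divFun δ (f (F.ξ j)) (Cyc.normGen f (F.ξ j) (F.f j)) x else 0 :=
    fun j hj => by
      rw [← map_apply_eq_sum f (c j) x s (hs j hj), AlgebraicCycle.map, Function.locallyFinsupp.map_apply,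
        finsum_mem_congr rfl (fun y _ => by rw [hc]), sum_divFun f hY hX hδ _ _ (F.hf j) x]
  rw [Finset.sum_congr rfl e2, finsum_eq_sum_of_support_subset]
  intro j hj
  rw [Function.mem_support] at hj
  split_ifs at hj with h
  · refine (F.finite_mem hc0).mem_toFinset.2 ?_
    exact (specializes_of_divFun_ne_zero hj).1.mem_open V.2 hy
  · exact absurd rfl hj

end Groth.Agent.CycLib
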