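import Groth.Agent.CurveLib.StalkDim
import Groth.Agent.CurveLib.Deg
import Groth.Agent.CycLib.Frac
import Mathlib.AlgebraicGeometry.AlgebraicCycle.Basic

/-! # Euler characteristic of a module with finite support through lengths and residue degrees -/

set_option autoImplicit false
set_option backward.isDefEq.respectTransparency false
set_option linter.style.haveILetI false

universe u

open CategoryTheory CategoryTheory.Limits AlgebraicGeometry TopologicalSpace Opposite
open Groth.Agent.PullbackMod

noncomputable section

namespace Groth.Agent.CycLib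

theorem finrank_eq_length_mul_aux (K : Type u) [Field K] {R : Type u} [CommRing R] [IsLocalRing R] [Algebra K R]
    {M : Type u} [AddCommGroup M] [Module R M] (hM : IsFiniteLength R M) :
    ∀ [Module K M] [IsScalarTower K R M] [Module.Finite K M], Module.finrank K M =
      (Module.length R M).toNat * Module.finrank K (R ⧸ IsLocalRing.maximalIdeal R) := by
  induction hM with
  | of_subsingleton => intros; simp [Module.finrank_zero_of_subsingleton]
  | @of_simple_quotient M _ _ N _ hN ih =>
    intros
    haveI : Module.Finite K N := Module.Finite.of_injective (N.subtype.restrictScalars K) Subtype.val_injective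
    obtain ⟨I, hI, ⟨e⟩⟩ := (isSimpleModule_iff_quot_maximal (R := R) (M := M ⧸ N)).1 inferInstance
    obtain rfl := IsLocalRing.eq_maximalIdeal hI
    have h1 := (N.restrictScalars K).finrank_quotient_add_finrank
    have h2 : Module.finrank K (M ⧸ N.restrictScalars K) = Module.finrank K (R ⧸ IsLocalRing.maximalIdeal R) :=
      ((Submodule.Quotient.restrictScalarsEquiv K N) ≪≫ₗ e.restrictScalars K).finrank_eq
    have h3 : Module.length R M = Module.length R N + 1 := by
      rw [Module.length_eq_add_of_exact N.subtype N.mkQ N.injective_subtype N.mkQ_surjective (LinearMap.exact_subtype_mkQ N),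
        Module.length_eq_one R (M ⧸ N)]
    have h4 : Module.length R N ≠ ⊤ := Module.length_ne_top_iff.2 hN
    rw [h3, ENat.toNat_add h4 ENat.one_ne_top, ENat.toNat_one, add_mul, one_mul, ← ih, ← h2, ← h1, add_comm]
    rfl

/-- `dim_k M = length_R M · dim_k (R/m)`. -/
theorem finrank_eq_length_mul (K : Type u) [Field K] {R : Type u} [CommRing R] [IsLocalRing R] [Algebra K R]
    (M : Type u) [AddCommGroup M] [Module R M] [Module K M] [IsScalarTower K R M] [Module.Finite K M] :
    Module.finrank K M =
      (Module.length R M).toNat * Module.finrank K (R ⧸ IsLocalRing.maximalIdeal R) :=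
  finrank_eq_length_mul_aux K (isFiniteLength_iff_isNoetherian_isArtinian.2
    ⟨isNoetherian_of_tower K inferInstance, isArtinian_of_tower K inferInstance⟩)

variable {k : Type u} [Field k] {X : Scheme.{u}} [X.Over (Spec (CommRingCat.of k))]

/-- The residue degree through the structure map. -/
theorem residueDegree_eq (x : X) :
    (X ↘ Spec (CommRingCat.of k)).residueDegree x =
      (letI : Algebra k (X.presheaf.stalk x) :=
        ((X.presheaf.germ ⊤ x trivial).hom.comp (Coh.toGlobal (X ↘ Spec (CommRingCat.of k)))).toAlgebra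
      Module.finrank k (X.presheaf.stalk x ⧸ IsLocalRing.maximalIdeal (X.presheaf.stalk x))) := by
  set c := X ↘ Spec (CommRingCat.of k) with hc
  letI : Algebra k (X.presheaf.stalk x) := ((X.presheaf.germ ⊤ x trivial).hom.comp (Coh.toGlobal c)).toAlgebra
  let ψ : k →+* (Spec (CommRingCat.of k)).residueField (c x) :=
    ((Spec (CommRingCat.of k)).evaluation ⊤ (c x) trivial).hom.comp (Scheme.ΓSpecIso (CommRingCat.of k)).inv.hom
  have hψ : Function.Surjective ψ := fun z => by
    obtain ⟨a, b, hb, hz⟩ := exists_fraction_affine (specializes_rfl (x := c x)) (isAffineOpen_top _)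
      (U := (⊤ : (Spec (CommRingCat.of k)).Opens)) trivial z
    refine ⟨(Scheme.ΓSpecIso (CommRingCat.of k)).hom a / (Scheme.ΓSpecIso (CommRingCat.of k)).hom b, ?_⟩
    have e : ∀ w, ψ ((Scheme.ΓSpecIso (CommRingCat.of k)).hom w) =
        (Spec (CommRingCat.of k)).residue (c x) ((Spec (CommRingCat.of k)).presheaf.germ ⊤ (c x) trivial w) := fun w => by
      show (Spec (CommRingCat.of k)).evaluation ⊤ (c x) trivial ((Scheme.ΓSpecIso (CommRingCat.of k)).inv _) = _
      rw [Iso.hom_inv_id_apply]
      rfl
    have hm : c x ∈ (⊤ : (Spec (CommRingCat.of k)).Opens) := trivial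
    rw [map_div₀, e, e, hz, specMap_germ _ hm hm, specMap_germ _ hm hm]
  letI a₁ := (c.residueFieldMap x).hom.toAlgebra
  letI a₂ : Algebra k (X.residueField x) :=
    ((X.residue x).hom.comp ((X.presheaf.germ ⊤ x trivial).hom.comp (Coh.toGlobal c))).toAlgebra
  have h1 : Module.finrank k (X.residueField x) =
      Module.finrank ((Spec (CommRingCat.of k)).residueField (c x)) (X.residueField x) := by
    refine Algebra.finrank_eq_of_equiv_equiv (RingEquiv.ofBijective ψ ⟨ψ.injective, hψ⟩) (RingEquiv.refl _) ?_
    refine RingHom.ext fun r => ?_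
    exact ConcreteCategory.congr_hom (Scheme.evaluation_naturality c (V := ⊤) x trivial)
      ((Scheme.ΓSpecIso (CommRingCat.of k)).inv r)
  refine h1.symm.trans (LinearEquiv.finrank_eq ?_)
  exact
    { AddEquiv.refl (X.residueField x) with
      map_smul' := fun r z => by
        obtain ⟨w, rfl⟩ := Ideal.Quotient.mk_surjective (I := IsLocalRing.maximalIdeal (X.presheaf.stalk x)) z
        rfl }

variable [IsProper (X ↘ Spec (CommRingCat.of k))]

/-- The Euler characteristic of a module supported in a closed set of dimension zero. -/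
theorem euler_eq_finsum {Q : X.Modules} (hQc : Coh.IsCoh Q) {C : Set X} (hC : IsClosed C)
    (hQ : CohB1.support Q ⊆ C) (hd : topologicalKrullDim C ≤ 0) :
    Curv2.euler k X Q = ∑ᶠ x : X, ((X ↘ Spec (CommRingCat.of k)).residueDegree x : ℤ) *
      ((Module.length (X.presheaf.stalk x) (Q.presheaf.stalk x)).toNat : ℤ) := by
  haveI := EulerIneqLib.isNoetherian_proper (X := X) k
  haveI : Fintype C := (CurveLib.finite_of_dim_le_zero hC hd).fintype
  haveI := EulerIneqLib.finite_HH (k := k) hQc 0
  obtain ⟨a⟩ := CurveLib.exists_equiv_pi (k := k) hC hQ hd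
  classical
  haveI : ∀ x : C, Module.Finite k (CurveLib.KStalk k Q x.1) := fun x =>
    Module.Finite.of_surjective ((LinearMap.proj x).comp a.toLinearMap) fun v => ⟨a.symm (Pi.single x v), by
      simp only [LinearMap.comp_apply, LinearEquiv.coe_coe, LinearEquiv.apply_symm_apply, LinearMap.proj_apply,
        Pi.single_eq_same]⟩
  rw [CurveLib.euler_of_dim_le_zero hC hQ hd, a.finrank_eq, Module.finrank_pi_fintype,
    finsum_eq_sum_of_support_subset (s := C.toFinset), Nat.cast_sum, ← Finset.sum_set_coe]
  swap
  · intro x hx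
    rw [Set.coe_toFinset]
    refine hQ fun hsub => (right_ne_zero_of_mul hx) ?_
    haveI : Subsingleton (Q.presheaf.stalk x) := hsub
    rw [Module.length_eq_zero]
    rfl
  refine Finset.sum_congr rfl fun x _ => ?_
  letI : Algebra k (X.presheaf.stalk x.1) :=
    ((X.presheaf.germ ⊤ x.1 trivial).hom.comp (Coh.toGlobal (X ↘ Spec (CommRingCat.of k)))).toAlgebra
  letI : Module (X.presheaf.stalk x.1) (CurveLib.KStalk k Q x.1) :=
    inferInstanceAs (Module (X.presheaf.stalk x.1) (Q.presheaf.stalk x.1))
  haveI : IsScalarTower k (X.presheaf.stalk x.1) (CurveLib.KStalk k Q x.1) :=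
    IsScalarTower.of_algebraMap_smul fun _ _ => rfl
  rw [finrank_eq_length_mul k (R := X.presheaf.stalk x.1) (CurveLib.KStalk k Q x.1), residueDegree_eq, mul_comm,
    Nat.cast_mul]
  rfl

end Groth.Agent.CycLib
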