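import Groth.Agent.CycLib.IntStep
import Groth.Agent.CycLib.EulerPts
import Groth.Agent.HilbLib.Positive

/-! # Intersection numbers through iterated divisors of rational sections -/

set_option autoImplicit false
set_option backward.isDefEq.respectTransparency false
set_option linter.style.haveILetI false

universe u

open CategoryTheory CategoryTheory.Limits AlgebraicGeometry TopologicalSpace
open Groth.Agent.PullbackMod

noncomputable section

namespace Groth.Agent.CycLib

variable {X : Scheme.{u}} {δ : X → ℤ} (k : Type u) [Field k] [X.Over (Spec (CommRingCat.of k))]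
  [IsProper (X ↘ Spec (CommRingCat.of k))]

theorem support_eq_of_iso {A B : X.Modules} (e : A ≅ B) : CohB1.support A = CohB1.support B := by
  ext x
  exact not_congr (Equiv.ofBijective _ (HilbLib.stalkLin_bijective_of_iso e x)).subsingleton_congr

/-- The intersection number is the pairing, for a module whose support has dimension `≤ d`. -/
theorem intNum_eq_pairing {d r : ℕ} {F : X.Modules} (hF : Coh.IsCoh F)
    (hd : topologicalKrullDim (CohB1.support F) ≤ (d : WithBot ℕ∞)) (M : Fin r → X.Modules)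
    (hM : ∀ i, PicF.IsInvertible (M i)) :
    FGA.intNum k X d M F = IntLib.pairing k F (∏ i, IntLib.dif (hM i)) := by
  classical
  haveI := EulerIneqLib.isNoetherian_proper (X := X) k
  rw [IntLib.pairing_prod]
  refine Finset.sum_congr rfl fun I _ => ?_
  congr 1
  obtain ⟨G, hG, hGe⟩ := (∏ i ∈ I, IntLib.inv' (hM i)).2
  have hmk : IntLib.mk (CohB1.tensorMod (FGA.tensorList ((I.sort (· ≤ ·)).map M)) F) =
      IntLib.mk (CohB1.tensorMod F G) := by
    rw [IntLib.mk_tensor, IntLib.mk_tensor, IntLib.mk_finset_list, mul_comm, hGe, Submonoid.coe_finsetProd]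
    rfl
  obtain ⟨e⟩ := IntLib.mk_eq_mk.1 hmk
  have hsup : CohB1.support (CohB1.tensorMod (FGA.tensorList ((I.sort (· ≤ ·)).map M)) F) ⊆ CohB1.support F :=
    ((support_eq_of_iso e).trans (HilbLib.support_tensor hG F)).le
  exact (CurveLib.euler_eq_sum _ (d + 1) fun p hp =>
    CurveLib.subsingleton_HH_of_support _ (DevLib.isClosed_support hF) hsup hd (by omega)).symm

variable (hδ : Cyc.DeltaCompat (X ↘ Spec (CommRingCat.of k)) δ (fun _ => 0))
include hδ

theorem dim_support_compMod_le (x : X) {t : ℕ} (h : δ x = t) :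
    topologicalKrullDim (CohB1.support (IntLib.compMod x)) ≤ (t : WithBot ℕ∞) := by
  haveI := EulerIneqLib.isNoetherian_proper (X := X) k
  exact (Topology.IsEmbedding.inclusion fun y hy => specializes_iff_mem_closure.1
    ((IntLib.isPiece_compMod x).supp y hy)).isInducing.topologicalKrullDim_le.trans (dim_closure_eq k hδ x h).le

/-- The Euler characteristic of the closure of a closed point. -/
theorem pairing_compMod_one {x : X} (h : δ x = 0) :
    IntLib.pairing k (IntLib.compMod x) 1 = ((X ↘ Spec (CommRingCat.of k)).residueDegree x : ℤ) := by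
  haveI := EulerIneqLib.isNoetherian_proper (X := X) k
  have hpc := IntLib.isPiece_compMod x
  rw [IntLib.pairing_one, euler_eq_finsum hpc.coh isClosed_closure
    (fun y hy => specializes_iff_mem_closure.1 (hpc.supp y hy))
    (by rw [dim_closure_eq k hδ x (t := 0) h]; exact le_rfl), finsum_eq_single _ x fun y hy => ?_]
  · haveI := hpc.simple
    rw [Module.length_eq_one]
    simp
  refine mul_eq_zero_of_right _ ?_
  haveI : Subsingleton ((IntLib.compMod x).presheaf.stalk y) := by
    refine not_not.1 fun hy' => ?_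
    have h1 := ((isSetup_of_field k δ hδ).2.2 x y (hpc.supp y hy') (Ne.symm hy)).1
    obtain ⟨t, ht, -⟩ := delta_dim k δ hδ y
    omega
  simp [Module.length_eq_zero]

theorem finite_support_c1Cap {L : X.Modules} (hL : PicF.IsInvertible L) (a : X → ℤ) (ha : (Function.support a).Finite)
    (s : (ξ : X) → Cyc.secFibre L ξ) : (Function.support (Cyc.c1CapFun δ L a s)).Finite := by
  haveI := EulerIneqLib.isNoetherian_proper (X := X) k
  let α : AlgebraicCycle X ℤ :=
    { toFun := a
      supportWithinDomain' := Set.subset_univ _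
      supportLocallyFiniteWithinDomain' := fun z _ => ⟨Set.univ, Filter.univ_mem, ha.subset Set.inter_subset_right⟩ }
  exact ((c1Cycle (isSetup_of_field k δ hδ).2.2 hL α s).locallyFiniteSupport.finite_inter_support_of_isCompact
    isCompact_univ).subset fun x hx => ⟨trivial, hx⟩

/-- Iterated divisors of rational sections compute intersection numbers. -/
theorem pairing_chain : ∀ (d : ℕ) (L M : Fin d → X.Modules) (_ : ∀ i, PicF.IsInvertible (L i))
    (hM : ∀ i, PicF.IsInvertible (M i)) (_ : ∀ i, Nonempty (CohB1.tensorMod (M i) (L i) ≅ Coh.structureModule X))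
    (s : (i : Fin d) → (ξ : X) → Cyc.secFibre (L i) ξ) (_ : ∀ i ξ, s i ξ ≠ 0) (γ : ℕ → X → ℤ)
    (_ : (Function.support (γ 0)).Finite) (_ : ∀ ξ, γ 0 ξ ≠ 0 → δ ξ = d)
    (_ : ∀ (i : ℕ) (h : i < d), γ (i + 1) = Cyc.c1CapFun δ (L ⟨i, h⟩) (γ i) (s ⟨i, h⟩)),
    (Function.support (γ d)).Finite ∧ (∀ ξ, γ d ξ ≠ 0 → δ ξ = 0) ∧
    ∑ᶠ ξ, γ 0 ξ * IntLib.pairing k (IntLib.compMod ξ) (∏ i, IntLib.dif (hM i)) =
      ∑ᶠ ξ, γ d ξ * IntLib.pairing k (IntLib.compMod ξ) 1
  | 0, L, M, _, hM, _, s, _, γ, hf, h0, _ => ⟨hf, fun ξ h => by simpa using h0 ξ h, by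
      simp only [Finset.univ_eq_empty, Finset.prod_empty]⟩
  | d + 1, L, M, hL, hM, hLM, s, hs, γ, hf, h0, hγ => by
    classical
    have h1 : γ 1 = Cyc.c1CapFun δ (L 0) (γ 0) (s 0) := hγ 0 (Nat.succ_pos d)
    have hf1 : (Function.support (γ 1)).Finite := h1 ▸ finite_support_c1Cap k hδ (hL 0) _ hf (s 0)
    have hd1 : ∀ ξ, γ 1 ξ ≠ 0 → δ ξ = d := fun ξ hξ => by
      by_contra hne
      refine hξ (h1 ▸ c1CapFun_eq_zero_of_ne (k := (d : ℤ)) (fun η hη => ?_) (s 0) hne)
      by_contra h
      exact hη (by rw [h0 η h]; push_cast; rfl)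
    obtain ⟨hfd, hdd, he⟩ := pairing_chain d (fun i => L i.succ) (fun i => M i.succ) (fun i => hL i.succ)
      (fun i => hM i.succ) (fun i => hLM i.succ) (fun i => s i.succ) (fun i => hs i.succ) (fun n => γ (n + 1))
      hf1 hd1 (fun i h => hγ (i + 1) (Nat.succ_lt_succ h))
    refine ⟨hfd, hdd, Eq.trans ?_ he⟩
    set P := fun x => IntLib.pairing k (IntLib.compMod x) (∏ i : Fin d, IntLib.dif (hM i.succ)) with hP
    have hstep : ∀ ξ ∈ hf.toFinset, (Function.support fun x => Cyc.secDivFun δ (L 0) ξ (s 0 ξ) x * P x).Finite ∧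
        IntLib.pairing k (IntLib.compMod ξ) (∏ i, IntLib.dif (hM i)) =
          ∑ᶠ x, Cyc.secDivFun δ (L 0) ξ (s 0 ξ) x * P x := fun ξ hξ => by
      rw [Fin.prod_univ_succ]
      exact pairing_step k hδ (hL 0) (hM 0) (hLM 0) ξ (h0 ξ (hf.mem_toFinset.1 hξ)) (s 0 ξ) (hs 0 ξ)
        (fun i => M i.succ) (fun i => hM i.succ)
    rw [finsum_eq_sum_of_support_subset (s := hf.toFinset) _ fun ξ h =>
      hf.mem_toFinset.2 (left_ne_zero_of_mul h)]
    calc ∑ ξ ∈ hf.toFinset, γ 0 ξ * IntLib.pairing k (IntLib.compMod ξ) (∏ i, IntLib.dif (hM i))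
        = ∑ ξ ∈ hf.toFinset, ∑ᶠ x, γ 0 ξ * (Cyc.secDivFun δ (L 0) ξ (s 0 ξ) x * P x) :=
          Finset.sum_congr rfl fun ξ hξ => by rw [(hstep ξ hξ).2, mul_finsum]
      _ = ∑ᶠ x, ∑ ξ ∈ hf.toFinset, γ 0 ξ * (Cyc.secDivFun δ (L 0) ξ (s 0 ξ) x * P x) :=
          (finsum_sum_comm _ (fun x ξ => γ 0 ξ * (Cyc.secDivFun δ (L 0) ξ (s 0 ξ) x * P x)) fun ξ hξ =>
            (hstep ξ hξ).1.subset fun x hx => right_ne_zero_of_mul hx).symm
      _ = ∑ᶠ x, γ 1 x * P x := finsum_congr fun x => by
          rw [h1, Cyc.c1CapFun, finsum_eq_sum_of_support_subset (s := hf.toFinset) _ fun ξ h =>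
            hf.mem_toFinset.2 (left_ne_zero_of_mul h), Finset.sum_mul]
          exact Finset.sum_congr rfl fun ξ _ => (mul_assoc _ _ _).symm

end Groth.Agent.CycLib
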