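import Groth.Agent.CycLib.IntPull
import Groth.Agent.IntLib.Coeff
import Groth.Agent.WeilCohLib.Geom
import Groth.Agent.ProperFin.Chow

/-! # Intersection numbers on integral closed subschemes -/

set_option autoImplicit false
set_option backward.isDefEq.respectTransparency false
set_option linter.style.haveILetI false

universe u

open CategoryTheory CategoryTheory.Limits AlgebraicGeometry TopologicalSpace
open Groth.Agent.PullbackMod

noncomputable section

namespace Groth.Agent.CycLib

variable (k : Type u) [Field k] {X : Scheme.{u}} [X.Over (Spec (CommRingCat.of k))]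
  [IsProper (X ↘ Spec (CommRingCat.of k))] {δ : X → ℤ}
  (hδ : Cyc.DeltaCompat (X ↘ Spec (CommRingCat.of k)) δ (fun _ => 0))
include hδ

/-- The intersection number on an integral closed subscheme through its generic point. -/
theorem pairing_quot_integral (Z : X.IdealSheafData) [IsIntegral Z.subscheme] {d : ℕ}
    (hd : topologicalKrullDim (Z.support : Set X) ≤ (d : WithBot ℕ∞)) (M : Fin d → X.Modules)
    (hM : ∀ i, PicF.IsInvertible (M i)) :
    δ (Z.subschemeι (genericPoint Z.subscheme)) ≤ d ∧
    IntLib.pairing k (ClSub.quotMod Z) (∏ i, IntLib.dif (hM i)) =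
      (if δ (Z.subschemeι (genericPoint Z.subscheme)) = d then (1 : ℤ) else 0) *
        IntLib.pairing k (IntLib.compMod (Z.subschemeι (genericPoint Z.subscheme))) (∏ i, IntLib.dif (hM i)) := by
  haveI := EulerIneqLib.isNoetherian_proper (X := X) k
  haveI := isLocallyNoetherian_closed Z.subschemeι
  set ξ := Z.subschemeι (genericPoint Z.subscheme) with hξ
  have hpc : DevLib.IsPiece ξ (ClSub.quotMod Z) := DevLib.isPiece_pushUnit Z.subschemeι
  have hsup : CohB1.support (ClSub.quotMod Z) ⊆ (Z.support : Set X) := fun x hx => by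
    have := IntLib.support_pushforward_subset Z.subschemeι _ hx
    rwa [Scheme.IdealSheafData.range_subschemeι] at this
  have hdq := (Topology.IsEmbedding.inclusion hsup).isInducing.topologicalKrullDim_le.trans hd
  have hle : δ ξ ≤ d := by
    obtain ⟨t, ht, htd⟩ := delta_dim k δ hδ ξ
    have h1 : topologicalKrullDim (closure ({ξ} : Set X)) ≤ (d : WithBot ℕ∞) :=
      (Topology.IsEmbedding.inclusion (closure_minimal (Set.singleton_subset_iff.2 (by
        rw [← Scheme.IdealSheafData.range_subschemeι]; exact Set.mem_range_self _))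
        Z.support.isClosed)).isInducing.topologicalKrullDim_le.trans hd
    rw [htd] at h1
    rw [ht]
    exact_mod_cast h1
  refine ⟨hle, ?_⟩
  rw [(pairing_eq_finsum k hδ M hM hpc.coh hdq).2, finsum_eq_single _ ξ fun x hx => ?_]
  · congr 1
    rw [Cyc.sheafFun]
    split_ifs
    · haveI := hpc.simple
      rw [Module.length_eq_one]
      rfl
    · rfl
  by_contra hne
  have h1 := left_ne_zero_of_mul hne
  unfold Cyc.sheafFun at h1
  split_ifs at h1 with hxd
  · have hxs : ξ ⤳ x := by
      refine hpc.supp x fun hsub => h1 ?_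
      haveI : Subsingleton ((ClSub.quotMod Z).presheaf.stalk x) := hsub
      simp [Module.length_eq_zero]
    have := ((isSetup_of_field k δ hδ).2.2 ξ x hxs (Ne.symm hx)).1
    omega
  · exact h1 rfl

omit hδ [IsProper (X ↘ Spec (CommRingCat.of k))] in
theorem residueDegree_eq_mapCoeff {Y : Scheme.{u}} (g : X ⟶ Y) {δY : Y → ℤ}
    (hg : Cyc.DeltaCompat g δ δY) (x : X) :
    g.residueDegree x = AlgebraicCycle.mapCoeff g δ δY x := by
  rw [AlgebraicCycle.mapCoeff]
  split_ifs with h
  · rfl
  obtain ⟨n, hn, e⟩ := hg x
  letI := (g.residueFieldMap x).hom.toAlgebra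
  unfold Scheme.Hom.residueDegree
  refine Module.finrank_of_not_finite fun hfin => h ?_
  haveI := hfin
  haveI : Algebra.IsAlgebraic (Y.residueField (g x)) (X.residueField x) := Algebra.IsAlgebraic.of_finite _ _
  have h0 : ((n : ℕ) : Cardinal.{u}) = 0 := hn.symm.trans trdeg_eq_zero
  rw [Nat.cast_eq_zero] at h0
  omega

omit [Field k] [X.Over (Spec (CommRingCat.of k))] [IsProper (X ↘ Spec (CommRingCat.of k))] hδ in
theorem residueDegree_closedImmersion {Z : Scheme.{u}} (i : Z ⟶ X) [IsClosedImmersion i] (z : Z) :
    i.residueDegree z = 1 :=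
  WeilCohLib.residueDegree_eq_one_of_surjective i z fun w => by
    obtain ⟨w, rfl⟩ := IsLocalRing.residue_surjective (R := Z.presheaf.stalk z) w
    obtain ⟨w, rfl⟩ := i.stalkMap_surjective z w
    exact ⟨X.residue (i z) w, congrArg (fun φ => φ w) (Scheme.residue_residueFieldMap i z)⟩

end Groth.Agent.CycLib
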