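import Groth.Agent.CycLib.IntPull
import Groth.Agent.S1898
import Groth.Agent.RpushLib.Finite

/-! # Intersection numbers against direct images -/

set_option autoImplicit false
set_option backward.isDefEq.respectTransparency false
set_option linter.style.haveILetI false

universe u

open CategoryTheory CategoryTheory.Limits AlgebraicGeometry TopologicalSpace

noncomputable section

namespace Groth.Agent.CycLib

theorem support_push_subset {X Y : Scheme.{u}} (g : X ⟶ Y) [UniversallyClosed g] {F : X.Modules}
    (hF : IsClosed (CohB1.support F)) :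
    CohB1.support ((Scheme.Modules.pushforward g).obj F) ⊆ g '' CohB1.support F := fun y hy => by
  by_contra h
  refine hy ⟨fun a b => ?_⟩
  suffices H : ∀ a : ((Scheme.Modules.pushforward g).obj F).presheaf.stalk y, a = 0 by rw [H a, H b]
  intro a
  obtain ⟨U, hyU, s, rfl⟩ := TopCat.Presheaf.exists_germ_eq ((Scheme.Modules.pushforward g).obj F).presheaf a
  let V : Y.Opens := U ⊓ ⟨(g '' CohB1.support F)ᶜ, (g.isClosedMap _ hF).isOpen_compl⟩
  have hyV : y ∈ V := ⟨hyU, h⟩
  rw [← TopCat.Presheaf.germ_res_apply ((Scheme.Modules.pushforward g).obj F).presheaf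
    (homOfLE (inf_le_left : V ≤ U)) y hyV s]
  refine (congrArg _ ?_).trans (map_zero _)
  refine DevLib.eq_zero_of_forall_germ (M := F) (V := g ⁻¹ᵁ V) _ fun x hx => ?_
  haveI : Subsingleton (F.presheaf.stalk x) := not_not.1 fun hx' => hx.2 ⟨x, hx', rfl⟩
  exact Subsingleton.elim _ _

variable (k : Type u) [Field k]

theorem dim_le_of_delta_le {X : Scheme.{u}} [X.Over (Spec (CommRingCat.of k))]
    [LocallyOfFiniteType (X ↘ Spec (CommRingCat.of k))] {δ : X → ℤ}
    (hδ : Cyc.DeltaCompat (X ↘ Spec (CommRingCat.of k)) δ (fun _ => 0)) {C : Set X} (hC : IsClosed C) {r : ℕ}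
    (h : ∀ x ∈ C, δ x ≤ r) : topologicalKrullDim C ≤ (r : WithBot ℕ∞) := by
  refine IntLib.dim_le_of_lt (by
    by_contra hlt
    obtain ⟨p, hp, hp'⟩ := (HilbLib.not_dim_lt_iff hC (r + 1)).1 hlt
    have key : ∀ i : Fin (r + 1 + 1), ((i : ℕ) : ℤ) ≤ δ (p i) := by
      intro i
      induction i using Fin.induction with
      | zero =>
        obtain ⟨t, ht, -⟩ := delta_dim k δ hδ (p 0)
        rw [ht]
        simp
      | succ i ih =>
        obtain ⟨h1, h2⟩ := hp' _ _ (Fin.castSucc_lt_succ (i := i))
        have := ((isSetup_of_field k δ hδ).2.2 _ _ h1 (Ne.symm h2)).1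
        simp only [Fin.val_succ, Fin.val_castSucc] at ih ⊢
        push_cast
        omega
    have := key (Fin.last _)
    have := h _ (hp (Fin.last _))
    simp only [Fin.val_last] at *
    push_cast at *
    omega)

/-- The projection formula for intersection numbers. -/
theorem intNum_pull_eq_intNum_push {X Y : Scheme.{u}} [X.Over (Spec (CommRingCat.of k))]
    [Y.Over (Spec (CommRingCat.of k))] [IsProper (X ↘ Spec (CommRingCat.of k))]
    [IsProper (Y ↘ Spec (CommRingCat.of k))] {g : X ⟶ Y}
    (hg : g ≫ (Y ↘ Spec (CommRingCat.of k)) = X ↘ Spec (CommRingCat.of k)) {r : ℕ} (M : Fin r → Y.Modules)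
    (hM : ∀ i, PicF.IsInvertible (M i)) {F : X.Modules} (hF : Coh.IsCoh F)
    (hr : topologicalKrullDim (CohB1.support F) ≤ (r : WithBot ℕ∞)) :
    IntLib.pairing k F (∏ i, IntLib.dif (AmpleLib.isInvertible_pullback g (hM i))) =
      IntLib.pairing k ((Coh.push g).obj F) (∏ i, IntLib.dif (hM i)) := by
  classical
  haveI : IsProper g := by
    haveI : IsProper (g ≫ (Y ↘ Spec (CommRingCat.of k))) := hg ▸ inferInstance
    exact IsProper.of_comp g (Y ↘ Spec (CommRingCat.of k))
  haveI := EulerIneqLib.isNoetherian_proper (X := X) k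
  haveI := EulerIneqLib.isNoetherian_proper (X := Y) k
  obtain ⟨δX, hδX⟩ := exists_delta k X
  obtain ⟨δY, hδY⟩ := exists_delta k Y
  have hd := deltaCompat_of_over k hg hδX hδY
  have hXs := isSetup_of_field k δX hδX
  have hYs := isSetup_of_field k δY hδY
  haveI := hF.1
  have hFc := DevLib.isClosed_support hF
  have hdim : ∀ x : X, Nontrivial (F.presheaf.stalk x) → δX x ≤ r := fun x hx => by
    obtain ⟨t, ht, htd⟩ := delta_dim k δX hδX x
    have h1 : topologicalKrullDim (closure ({x} : Set X)) ≤ (r : WithBot ℕ∞) :=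
      (Topology.IsEmbedding.inclusion (closure_minimal (Set.singleton_subset_iff.2
        (show x ∈ CohB1.support F from not_subsingleton_iff_nontrivial.2 hx)) hFc)).isInducing.topologicalKrullDim_le.trans hr
    rw [htd] at h1
    rw [ht]
    exact_mod_cast h1
  have hfin : (Function.support (Cyc.sheafFun δX r F)).Finite :=
    (DegDevLib.finite_top_points hFc hr).subset fun x hx => by
      rw [Function.mem_support, Cyc.sheafFun] at hx
      split_ifs at hx with h2
      · refine ⟨fun hsub => hx ?_, dim_closure_eq k hδX x h2⟩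
        haveI : Subsingleton (F.presheaf.stalk x) := hsub
        simp [Module.length_eq_zero]
      · exact absurd rfl hx
  let α : AlgebraicCycle X ℤ :=
    { toFun := Cyc.sheafFun δX r F
      supportWithinDomain' := Set.subset_univ _
      supportLocallyFiniteWithinDomain' := fun z _ => ⟨Set.univ, Filter.univ_mem, hfin.subset Set.inter_subset_right⟩ }
  have hmap := S1898.result X Y δX δY hXs hYs g hd r F hF hdim α rfl
  have hG : Coh.IsCoh ((Coh.push g).obj F) := RpushLib.isCoh_push g hF
  have hdG : topologicalKrullDim (CohB1.support ((Coh.push g).obj F)) ≤ (r : WithBot ℕ∞) :=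
    (Topology.IsEmbedding.inclusion (support_push_subset g hFc)).isInducing.topologicalKrullDim_le.trans
      (dim_le_of_delta_le k hδY (g.isClosedMap _ hFc) (fun y ⟨x, hx, hxy⟩ => by
        obtain ⟨n, -, e⟩ := hd x
        have := hdim x (not_subsingleton_iff_nontrivial.1 hx)
        rw [hxy] at e
        omega))
  rw [(pairing_eq_finsum k hδX _ (fun i => AmpleLib.isInvertible_pullback g (hM i)) hF hr).2,
    (pairing_eq_finsum k hδY M hM hG hdG).2, ← hmap]
  set P := fun y => IntLib.pairing k (IntLib.compMod y) (∏ i, IntLib.dif (hM i)) with hP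
  let S := hfin.toFinset
  have hS : ∀ y x, g x = y → α x ≠ 0 → x ∈ S := fun y x _ h => hfin.mem_toFinset.2 h
  rw [finsum_eq_sum_of_support_subset (s := S) _ fun x hx => hfin.mem_toFinset.2 (left_ne_zero_of_mul hx),
    finsum_eq_sum_of_support_subset (s := S.image g) _ fun y hy => by
      have h := left_ne_zero_of_mul hy
      rw [map_apply_eq_sum g α y S (hS y)] at h
      obtain ⟨x, hx, hne⟩ := Finset.exists_ne_zero_of_sum_ne_zero h
      exact Finset.mem_image.2 ⟨x, hx, by_contra fun h' => hne (Set.indicator_of_notMem (s := g ⁻¹' {y}) h' _)⟩,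
    ← Finset.sum_fiberwise_of_maps_to (t := S.image g) (g := g) fun x hx => Finset.mem_image_of_mem _ hx]
  refine Finset.sum_congr rfl fun y _ => ?_
  rw [map_apply_eq_sum g α y S (hS y), Finset.sum_mul, Finset.sum_filter]
  refine Finset.sum_congr rfl fun x _ => ?_
  by_cases hxy : g x = y
  · rw [if_pos hxy, Set.indicator_of_mem (show x ∈ g ⁻¹' {y} from hxy)]
    show Cyc.sheafFun δX r F x * _ = Cyc.sheafFun δX r F x * _ * _
    by_cases h : δX x = r
    · rw [pairing_pullback k hg hδX hδY r M hM x h, hxy, mul_assoc]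
    · rw [Cyc.sheafFun, if_neg h, zero_mul, zero_mul, zero_mul]
  · rw [if_neg hxy, Set.indicator_of_notMem (show x ∉ g ⁻¹' {y} from hxy), zero_mul]

end Groth.Agent.CycLib
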