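import Groth.Agent.CycLib.TameF
import Groth.Agent.CycLib.NormDiv
import Groth.Agent.CycLib.DegSec
import Groth.Agent.CycLib.DivPull
import Groth.Agent.S6459
import Groth.Agent.S1851
import Groth.Agent.S5090

/-! # The key lemma at a point of codimension two -/

set_option autoImplicit false
set_option backward.isDefEq.respectTransparency false
set_option linter.style.haveILetI false

universe u

open CategoryTheory AlgebraicGeometry TopologicalSpace

noncomputable section

namespace Groth.Agent.CycLib

/-- Orders in isomorphic pairs. -/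
theorem ordFrac_equiv {R R' K K' : Type u} [CommRing R] [IsDomain R] [IsNoetherianRing R] [Ring.KrullDimLE 1 R]
    [CommRing R'] [IsDomain R'] [IsNoetherianRing R'] [Ring.KrullDimLE 1 R'] [Field K] [Algebra R K] [IsFractionRing R K]
    [Field K'] [Algebra R' K'] [IsFractionRing R' K'] (φ : R ≃+* R') (ψ : K →+* K')
    (hψ : ∀ a, algebraMap R' K' (φ a) = ψ (algebraMap R K a)) (z : K) :
    CycAlg.ordFrac R' K' (ψ z) = CycAlg.ordFrac R K z := by
  obtain ⟨a, b, hb, rfl⟩ := IsFractionRing.div_surjective (A := R) z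
  rcases eq_or_ne a 0 with rfl | ha
  · rw [map_zero, zero_div, map_zero, ordFrac_zero, ordFrac_zero]
  have hb' := nonZeroDivisors.ne_zero hb
  rw [map_div₀, ← hψ, ← hψ, OrdDet.ordFrac_div _ _ (φ.map_ne_zero_iff.2 ha) (φ.map_ne_zero_iff.2 hb'),
    OrdDet.ordFrac_div _ _ ha hb', TameLib.ord_ringEquiv, TameLib.ord_ringEquiv]

variable {X : Scheme.{u}} [IsIntegral X] {δ : X → ℤ}

theorem krullDimLE_stalk (hX : Cyc.IsSetup X δ) {ξ : X} (hξ : δ ξ = δ (genericPoint X) - 1) :
    Ring.KrullDimLE 1 (X.presheaf.stalk ξ) :=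
  Ring.krullDimLE_iff.2 ((Groth.Agent.S6459.result X δ hX ξ).2 hξ).le

theorem sp_injective {ξ x : X} (h : ξ ⤳ x) : Function.Injective (X.presheaf.stalkSpecializes h) := by
  intro a b e
  refine IsFractionRing.injective (X.presheaf.stalk x) X.functionField ?_
  have key : ∀ w, algebraMap (X.presheaf.stalk x) X.functionField w =
      X.presheaf.stalkSpecializes (genericPoint_specializes ξ) (X.presheaf.stalkSpecializes h w) := fun w => by
    rw [← ConcreteCategory.comp_apply, TopCat.Presheaf.stalkSpecializes_comp]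
    rfl
  rw [key, key, e]

theorem sp_ne_zero {ξ x : X} (h : ξ ⤳ x) {a : X.presheaf.stalk x} (ha : a ≠ 0) :
    X.presheaf.stalkSpecializes h a ≠ 0 :=
  fun e => ha (sp_injective h (e.trans (map_zero _).symm))

theorem ringKrullDim_stalk_eq_two (hX : Cyc.IsSetup X δ) {x : X} (hx : δ x + 2 = δ (genericPoint X)) :
    ringKrullDim (X.presheaf.stalk x) = 2 := by
  have hη : ∀ z : X, genericPoint X ⤳ z := fun z => genericPoint_specializes z
  have hne : genericPoint X ≠ x := fun e => by rw [e] at hx; omega
  rw [ringKrullDim_stalk_eq_coheight, show (2 : WithBot ℕ∞) = (((2 : ℕ) : ℕ∞) : WithBot ℕ∞) from rfl, WithBot.coe_inj]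
  refine le_antisymm (Order.coheight_le_coe_iff.2 fun z hz => ?_) ?_
  · have hlt := (hX.2.2 _ _ hz.1 fun e => hz.2 (by rw [e])).1
    have hle := delta_le hX.2.2 (hη z)
    refine (show Order.coheight z < ((2 : ℕ) : ℕ∞) from lt_of_le_of_lt ((Order.coheight_le_coe_iff (n := 1)).2
      fun w hw => ?_) (by exact_mod_cast Nat.lt_succ_self 1))
    have hlt' := (hX.2.2 _ _ hw.1 fun e => hw.2 (by rw [e])).1
    by_cases hwη : w = genericPoint X
    · rw [hwη, Order.coheight_eq_zero.2 (show IsMax (genericPoint X) from fun v _ => hη v)]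
      exact_mod_cast Nat.one_pos
    · have := (hX.2.2 _ _ (hη w) (Ne.symm hwη)).1
      omega
  · obtain ⟨z, hz1, hz2, hzη, hzx⟩ : ∃ z : X, genericPoint X ⤳ z ∧ z ⤳ x ∧ z ≠ genericPoint X ∧ z ≠ x := by
      by_contra hnone
      have := (hX.2.2 _ _ (hη x) hne).2 fun z h1 h2 => or_iff_not_imp_left.2 fun h3 => by_contra fun h4 =>
        hnone ⟨z, h1, h2, h3, h4⟩
      omega
    have h1 : x < z := ⟨hz2, fun h' : x ⤳ z => hzx ((hz2.antisymm h').eq)⟩
    have h2 : z < genericPoint X := ⟨hz1, fun h' : z ⤳ genericPoint X => hzη ((h'.antisymm hz1).eq)⟩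
    have e1 : (1 : ℕ∞) ≤ Order.coheight z := Order.one_le_iff_pos.2 (pos_iff_ne_zero.2 fun h0 =>
      (Order.coheight_eq_zero.1 h0).not_lt h2)
    calc ((2 : ℕ) : ℕ∞) = 1 + 1 := by norm_num
      _ ≤ Order.coheight z + 1 := add_le_add e1 le_rfl
      _ ≤ Order.coheight x := Order.coheight_add_one_le h1

open Classical in
/-- The order along `ξ ⤳ x` of the tame symbol at `ξ` of two germs at `x`. -/
def tameOrd (δ : X → ℤ) (x : X) (a b : X.presheaf.stalk x) (ξ : X) : ℤ :=
  if h : ξ ⤳ x ∧ δ x + 1 = δ ξ then Cyc.ordAt x ξ h.1 (CycAlg.tameSymbol (X.presheaf.stalk ξ)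
    (X.presheaf.stalkSpecializes h.1 a) (X.presheaf.stalkSpecializes h.1 b)) else 0

theorem sum_tameOrd (hX : Cyc.IsSetup X δ) {x : X} (hx : δ x + 2 = δ (genericPoint X))
    {a b : X.presheaf.stalk x} (ha : a ≠ 0) (hb : b ≠ 0) :
    ∑ᶠ ξ : X, tameOrd δ x a b ξ = 0 ∧ (Function.support (tameOrd δ x a b)).Finite := by
  classical
  haveI := hX.1
  have hδ := hX.2.2
  let j := X.fromSpecStalk x
  have hj : Function.Injective j := j.isEmbedding.injective
  have hht : ∀ q : PrimeSpectrum (X.presheaf.stalk x), δ x + 1 = δ (j q) ↔ q.asIdeal.height = 1 := fun q => by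
    have h := fromSpecStalk_specializes q
    letI := (X.presheaf.stalkSpecializes h).hom.toAlgebra
    haveI := S5090.isLocalization_stalkSpecializes h
    have hker : q.asIdeal = (IsLocalRing.maximalIdeal (X.presheaf.stalk (j q))).comap
        (algebraMap (X.presheaf.stalk x) (X.presheaf.stalk (j q))) := by
      rw [← ker_specMap_eq q h]
      ext w
      exact IsLocalRing.residue_eq_zero_iff _
    have e := IsLocalization.AtPrime.ringKrullDim_eq_height
      ((IsLocalRing.maximalIdeal (X.presheaf.stalk (j q))).comap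
        (algebraMap (X.presheaf.stalk x) (X.presheaf.stalk (j q)))) (X.presheaf.stalk (j q))
    rw [← hker] at e
    rw [show δ x + 1 = δ (j q) ↔ δ (j q) = δ (genericPoint X) - 1 by omega, ← S6459.result X δ hX (j q), e,
      show (1 : WithBot ℕ∞) = ((1 : ℕ∞) : WithBot ℕ∞) from rfl, WithBot.coe_inj]
  have hterm : ∀ q : PrimeSpectrum (X.presheaf.stalk x), q.asIdeal.height = 1 →
      tameOrd δ x a b (j q) = CycAlg.ordFrac (X.presheaf.stalk x ⧸ q.asIdeal) q.asIdeal.ResidueField
        (CycAlg.tameSymbol (Localization.AtPrime q.asIdeal) (algebraMap _ (Localization.AtPrime q.asIdeal) a)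
          (algebraMap _ (Localization.AtPrime q.asIdeal) b)) := fun q hq => by
    have hd := (hht q).2 hq
    have h := fromSpecStalk_specializes q
    haveI := krullDimLE_stalk hX (ξ := j q) (by omega)
    haveI : Ring.KrullDimLE 1 (Localization.AtPrime q.asIdeal) := Ring.krullDimLE_iff.2 (by
      rw [IsLocalization.AtPrime.ringKrullDim_eq_height q.asIdeal, hq]
      rfl)
    letI := (X.presheaf.stalkSpecializes h).hom.toAlgebra
    have hker : q.asIdeal = (IsLocalRing.maximalIdeal (X.presheaf.stalk (j q))).comap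
        (algebraMap (X.presheaf.stalk x) (X.presheaf.stalk (j q))) := by
      rw [← ker_specMap_eq q h]
      ext w
      exact IsLocalRing.residue_eq_zero_iff _
    haveI : IsLocalization.AtPrime (X.presheaf.stalk (j q)) q.asIdeal := by
      have hcongr : ∀ (P P' : Ideal (X.presheaf.stalk x)) [P.IsPrime] [P'.IsPrime], P = P' →
          IsLocalization.AtPrime (X.presheaf.stalk (j q)) P → IsLocalization.AtPrime (X.presheaf.stalk (j q)) P' := by
        intro P P' _ _ e hP; subst e; exact hP
      exact hcongr _ _ hker.symm (S5090.isLocalization_stalkSpecializes h)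
    let e := IsLocalization.algEquiv q.asIdeal.primeCompl (Localization.AtPrime q.asIdeal) (X.presheaf.stalk (j q))
    letI aloc : Algebra (Localization.AtPrime q.asIdeal) (X.presheaf.stalk (j q)) := e.toRingEquiv.toRingHom.toAlgebra
    haveI : IsLocalHom (algebraMap (Localization.AtPrime q.asIdeal) (X.presheaf.stalk (j q))) :=
      ⟨fun w hw => by
        have h2 : IsUnit (e.symm (e w)) := (hw : IsUnit (e w)).map e.symm
        rwa [AlgEquiv.symm_apply_apply] at h2⟩
    let el : Localization.AtPrime q.asIdeal ≃ₗ[Localization.AtPrime q.asIdeal] X.presheaf.stalk (j q) :=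
      { e.toRingEquiv.toAddEquiv with map_smul' := fun r z => map_mul e r z }
    haveI : Module.Flat (Localization.AtPrime q.asIdeal) (X.presheaf.stalk (j q)) := Module.Flat.of_linearEquiv el.symm
    have hmax : (IsLocalRing.maximalIdeal (Localization.AtPrime q.asIdeal)).map
        (algebraMap (Localization.AtPrime q.asIdeal) (X.presheaf.stalk (j q))) = IsLocalRing.maximalIdeal _ := by
      have hb : Function.Bijective (algebraMap (Localization.AtPrime q.asIdeal) (X.presheaf.stalk (j q))) := e.bijective
      exact IsLocalRing.eq_maximalIdeal (Ideal.IsMaximal.map_bijective _ hb (IsLocalRing.maximalIdeal.isMaximal _))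
    have he : ∀ w, algebraMap (Localization.AtPrime q.asIdeal) (X.presheaf.stalk (j q))
        (algebraMap (X.presheaf.stalk x) (Localization.AtPrime q.asIdeal) w) = X.presheaf.stalkSpecializes h w :=
      fun w => e.commutes w
    have hflat := TameLib.tameSymbol_flat (A := Localization.AtPrime q.asIdeal) (A' := X.presheaf.stalk (j q))
      (algebraMap _ (Localization.AtPrime q.asIdeal) a) (algebraMap _ (Localization.AtPrime q.asIdeal) b)
      (mem_nonZeroDivisors_of_ne_zero ((map_ne_zero_iff _ (IsLocalization.injective (Localization.AtPrime q.asIdeal)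
        q.asIdeal.primeCompl_le_nonZeroDivisors)).2 ha))
      (mem_nonZeroDivisors_of_ne_zero ((map_ne_zero_iff _ (IsLocalization.injective (Localization.AtPrime q.asIdeal)
        q.asIdeal.primeCompl_le_nonZeroDivisors)).2 hb))
    rw [hmax, he, he, show Module.length (X.presheaf.stalk (j q))
      (X.presheaf.stalk (j q) ⧸ IsLocalRing.maximalIdeal (X.presheaf.stalk (j q))) = 1 from
        (haveI := (isSimpleModule_iff_isCoatom (R := X.presheaf.stalk (j q))).2
          (IsLocalRing.maximalIdeal.isMaximal (X.presheaf.stalk (j q))).out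
         Module.length_eq_one _ _), ENat.toNat_one, pow_one] at hflat
    rw [tameOrd, dif_pos ⟨h, hd⟩, ← hflat]
    haveI : Ring.KrullDimLE 1 (Cyc.LocQuot x (j q) h) := krullDimLE_locQuot hδ h hd
    haveI := isFractionRing_locQuot h
    let φ : (X.presheaf.stalk x ⧸ q.asIdeal) ≃+* Cyc.LocQuot x (j q) h :=
      Ideal.quotEquivOfEq (ker_specMap_eq q h).symm
    haveI : Ring.KrullDimLE 1 (X.presheaf.stalk x ⧸ q.asIdeal) := Ring.krullDimLE_iff.2
      ((ringKrullDim_eq_of_ringEquiv φ).le.trans (Ring.krullDimLE_iff.1 inferInstance))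
    let ψ : q.asIdeal.ResidueField →+* X.residueField (j q) :=
      IsLocalRing.ResidueField.map (algebraMap (Localization.AtPrime q.asIdeal) (X.presheaf.stalk (j q)))
    refine ordFrac_equiv (K' := X.residueField (j q)) φ ψ (fun c => ?_) _
    obtain ⟨c, rfl⟩ := Ideal.Quotient.mk_surjective c
    show Cyc.specMap x (j q) h c = IsLocalRing.ResidueField.map (algebraMap (Localization.AtPrime q.asIdeal)
      (X.presheaf.stalk (j q))) (IsLocalRing.residue _ (algebraMap (X.presheaf.stalk x) _ c))
    rw [IsLocalRing.ResidueField.map_residue, he]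
    rfl
  have hsub : Function.support (tameOrd δ x a b) ⊆ j '' {q | q.asIdeal ∈ (Ideal.span {a * b}).minimalPrimes} := by
    intro ξ hξ
    rw [Function.mem_support, tameOrd] at hξ
    split_ifs at hξ with hh
    swap
    · exact absurd rfl hξ
    obtain ⟨q, rfl⟩ := exists_fromSpecStalk hh.1
    refine ⟨q, ?_, rfl⟩
    have hq1 := (hht q).1 hh.2
    have hd : δ x + 1 = δ (j q) := hh.2
    haveI := krullDimLE_stalk hX (ξ := j q) (by omega)
    have hmem : Ideal.span {a * b} ≤ q.asIdeal := by
      rw [Ideal.span_singleton_le_iff_mem]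
      by_contra hnot
      apply hξ
      have hu : ∀ w, w ∉ q.asIdeal → IsUnit (X.presheaf.stalkSpecializes hh.1 w) := fun w hw => by
        by_contra hnu
        refine hw ?_
        rw [← ker_specMap_eq q hh.1]
        exact (IsLocalRing.residue_eq_zero_iff _).2 hnu
      rw [TameLib.tameSymbol_eq_one_of_units (hu a fun h' => hnot (q.asIdeal.mul_mem_right b h'))
        (hu b fun h' => hnot (q.asIdeal.mul_mem_left a h'))]
      exact ordAt_one hδ hh.1 hh.2
    obtain ⟨p, hp, hle⟩ := Ideal.exists_minimalPrimes_le hmem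
    haveI := hp.1.1
    have : p = q.asIdeal := by
      refine (eq_or_lt_of_le hle).resolve_right fun hlt => ?_
      have h1 := Ideal.height_strict_mono_of_isPrime_of_isPrime hlt
      rw [hq1, ENat.lt_one_iff_eq_zero, Ideal.height_eq_zero_iff, IsDomain.minimalPrimes_eq_singleton_bot] at h1
      have h2 : a * b ∈ p := hp.1.2 (Ideal.mem_span_singleton_self _)
      rw [show p = ⊥ from h1, Submodule.mem_bot] at h2
      exact mul_ne_zero ha hb h2
    exact show q.asIdeal ∈ (Ideal.span {a * b}).minimalPrimes from this ▸ hp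
  have hfin : (Function.support (tameOrd δ x a b)).Finite :=
    ((((Ideal.span {a * b}).finite_minimalPrimes_of_isNoetherianRing _).preimage
      (fun q _ q' _ e => PrimeSpectrum.ext e)).image j).subset hsub
  refine ⟨?_, hfin⟩
  have main := Groth.Agent.S1851.result (X.presheaf.stalk x) (ringKrullDim_stalk_eq_two hX hx) a b
    (mem_nonZeroDivisors_of_ne_zero ha) (mem_nonZeroDivisors_of_ne_zero hb)
  refine Eq.trans ?_ main
  rw [← finsum_mem_univ (fun ξ => tameOrd δ x a b ξ),
    finsum_mem_inter_support_eq (tameOrd δ x a b) Set.univ (Set.range j) (by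
      rw [Set.univ_inter, Set.inter_eq_right.2 (hsub.trans (Set.image_subset_range _ _))]),
    finsum_mem_range hj]
  refine finsum_congr fun q => ?_
  rw [finsum_eq_if]
  split_ifs with hq
  · exact hterm q hq
  · exact dif_neg fun hh => hq ((hht q).1 hh.2)

end Groth.Agent.CycLib
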