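import Groth.Agent.CycLib.DegSec
import Groth.Agent.CycLib.C1Cycle
import Groth.Agent.CycLib.TameStalk
import Groth.Agent.CycLib.FieldSetup
import Groth.Agent.CycLib.PushRat
import Groth.Agent.CycLib.Proj
import Groth.Agent.CycLib.SheafPush
import Groth.Agent.IntLib.Push
import Groth.Agent.IntLib.Decomp
import Groth.Agent.DegDevLib.Dim
import Groth.Agent.AmpleLib.Pullback
import Groth.Agent.AmpleLib.Tensor

/-! # One step of an intersection number through the divisor of a rational section -/

set_option autoImplicit false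
set_option backward.isDefEq.respectTransparency false
set_option linter.style.haveILetI false

universe u

open CategoryTheory CategoryTheory.Limits AlgebraicGeometry TopologicalSpace
open Groth.Agent.PullbackMod

noncomputable section

namespace Groth.Agent.CycLib

variable {X : Scheme.{u}} {δ : X → ℤ}

/-- The stalk of a cokernel. -/
theorem length_stalk_coker {A B : X.Modules} (r : A ⟶ B) [Mono r] (x : X) :
    Module.length (X.presheaf.stalk x) ((cokernel r).presheaf.stalk x) =
      Module.length (X.presheaf.stalk x) (B.presheaf.stalk x ⧸ LinearMap.range (stalkLin r x)) := by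
  let π := stalkLin (cokernel.π r) x
  have hker : LinearMap.ker π = LinearMap.range (stalkLin r x) := by
    ext z
    exact (DevLib.coker_exact r x z).trans (by simp [LinearMap.mem_range])
  exact ((π.quotKerEquivOfSurjective (DevLib.coker_surjective r x)).symm ≪≫ₗ
    Submodule.quotEquivOfEq _ _ hker).length_eq

theorem pushStalk_natural {Z : Scheme.{u}} (i : Z ⟶ X) {M N : Z.Modules} (φ : M ⟶ N) (z : Z)
    (a : ((Scheme.Modules.pushforward i).obj M).presheaf.stalk (i z)) :
    DCohLib.pushStalk i N z (stalkLin ((Scheme.Modules.pushforward i).map φ) (i z) a) =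
      stalkLin φ z (DCohLib.pushStalk i M z a) := by
  obtain ⟨U, hU, m, rfl⟩ := TopCat.Presheaf.exists_germ_eq ((Scheme.Modules.pushforward i).obj M).presheaf a
  rw [stalkLin_germ]
  refine (DCohLib.pushStalk_germ i N z hU _).trans ?_
  rw [DCohLib.pushStalk_germ i M z hU m, stalkLin_germ]
  rfl

/-- Cokernels of direct images along closed immersions. -/
theorem length_coker_push {Z : Scheme.{u}} (i : Z ⟶ X) [IsClosedImmersion i] {M N : Z.Modules} (φ : M ⟶ N) [Mono φ]
    [Mono ((Scheme.Modules.pushforward i).map φ)] (z : Z) :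
    Module.length (X.presheaf.stalk (i z)) ((cokernel ((Scheme.Modules.pushforward i).map φ)).presheaf.stalk (i z)) =
      Module.length (Z.presheaf.stalk z) ((cokernel φ).presheaf.stalk z) := by
  rw [length_stalk_coker, length_stalk_coker]
  letI := (i.stalkMap z).hom.toAlgebra
  letI := Module.compHom (N.presheaf.stalk z) (i.stalkMap z).hom
  haveI : IsScalarTower (X.presheaf.stalk (i z)) (Z.presheaf.stalk z) (N.presheaf.stalk z) := .of_algebraMap_smul fun _ _ => rfl
  let e : ((Scheme.Modules.pushforward i).obj N).presheaf.stalk (i z) ≃ₗ[X.presheaf.stalk (i z)] N.presheaf.stalk z :=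
    LinearEquiv.ofBijective
      ({ toFun := DCohLib.pushStalk i N z
         map_add' := map_add _
         map_smul' := fun a z' => DCohLib.pushStalk_smul i N z a z' } :
        ((Scheme.Modules.pushforward i).obj N).presheaf.stalk (i z) →ₗ[X.presheaf.stalk (i z)] N.presheaf.stalk z)
      (DCohLib.bijective_pushStalk i N z)
  have hmap : (LinearMap.range (stalkLin ((Scheme.Modules.pushforward i).map φ) (i z))).map e.toLinearMap =
      (LinearMap.range (stalkLin φ z)).restrictScalars (X.presheaf.stalk (i z)) := by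
    ext b
    simp only [Submodule.mem_map, LinearMap.mem_range, Submodule.restrictScalars_mem]
    constructor
    · rintro ⟨_, ⟨a, rfl⟩, rfl⟩
      exact ⟨_, (pushStalk_natural i φ z a).symm⟩
    · rintro ⟨a, rfl⟩
      obtain ⟨a, rfl⟩ := (DCohLib.bijective_pushStalk i M z).2 a
      exact ⟨_, ⟨a, rfl⟩, pushStalk_natural i φ z a⟩
  rw [(Submodule.Quotient.equiv _ _ e hmap).length_eq,
    (Submodule.Quotient.restrictScalarsEquiv (X.presheaf.stalk (i z)) (LinearMap.range (stalkLin φ z))).length_eq]
  exact Module.length_eq_of_surjective (i.stalkMap_surjective z)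

/-- The colengths of two comparisons of a module with the structure sheaf and an invertible module. -/
theorem length_coker_sub [IsIntegral X] {L I : X.Modules} (p : I ⟶ Coh.structureModule X) (q : I ⟶ L) [Mono p] [Mono q]
    [IsLocallyNoetherian X] (hI : Coh.IsCoh I) (hps : Function.Surjective (stalkLin p (genericPoint X)))
    {e : L.presheaf.stalk (genericPoint X)} (he : Function.Bijective fun r : X.presheaf.stalk (genericPoint X) => r • e)
    (hγ : ∀ (r : X.presheaf.stalk (genericPoint X)) (z : I.presheaf.stalk (genericPoint X)),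
      stalkLin p (genericPoint X) z = r • ParaFLib.oneG (genericPoint X) → stalkLin q (genericPoint X) z = r • e)
    (x : X) [Ring.KrullDimLE 1 (X.presheaf.stalk x)] (h : genericPoint X ⤳ x) (t : L.presheaf.stalk x)
    (ht : Function.Bijective fun r : X.presheaf.stalk x => r • t)
    (htη : Function.Bijective fun r : X.presheaf.stalk (genericPoint X) => r • L.presheaf.stalkSpecializes h t)
    (φ : X.functionField) (het : e = φ • L.presheaf.stalkSpecializes h t) :
    Module.length (X.presheaf.stalk x) ((cokernel q).presheaf.stalk x) ≠ ⊤ ∧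
    Module.length (X.presheaf.stalk x) ((cokernel p).presheaf.stalk x) ≠ ⊤ ∧
    ((Module.length (X.presheaf.stalk x) ((cokernel q).presheaf.stalk x)).toNat : ℤ) -
      ((Module.length (X.presheaf.stalk x) ((cokernel p).presheaf.stalk x)).toNat : ℤ) =
      CycAlg.ordFrac (X.presheaf.stalk x) X.functionField φ := by
  let εO := LinearEquiv.ofBijective (LinearMap.toSpanSingleton (X.presheaf.stalk x) _ (ParaFLib.oneG x))
    (ParaFLib.bijective_oneG x)
  let εL := LinearEquiv.ofBijective (LinearMap.toSpanSingleton (X.presheaf.stalk x) _ t) ht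
  let f : I.presheaf.stalk x →ₗ[X.presheaf.stalk x] X.presheaf.stalk x := εO.symm.toLinearMap.comp (stalkLin p x)
  let g : I.presheaf.stalk x →ₗ[X.presheaf.stalk x] X.presheaf.stalk x := εL.symm.toLinearMap.comp (stalkLin q x)
  have hlen : ∀ {N : X.Modules} (r : I ⟶ N) [Mono r] (ε : X.presheaf.stalk x ≃ₗ[X.presheaf.stalk x] N.presheaf.stalk x),
      Module.length (X.presheaf.stalk x) ((cokernel r).presheaf.stalk x) = Module.length (X.presheaf.stalk x)
        (X.presheaf.stalk x ⧸ LinearMap.range (ε.symm.toLinearMap.comp (stalkLin r x))) := fun {N} r _ ε => by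
    rw [length_stalk_coker]
    refine (Submodule.Quotient.equiv _ _ ε.symm ?_).length_eq
    exact (LinearMap.range_comp _ _).symm
  rw [hlen q εL, hlen p εO]
  let sp := X.presheaf.stalkSpecializes h
  have hsp : ∀ i, sp (g i) = sp (f i) * φ := fun i => by
    have hfi : stalkLin p x i = f i • ParaFLib.oneG x := (εO.apply_symm_apply _).symm
    have hgi : stalkLin q x i = g i • t := (εL.apply_symm_apply _).symm
    have h3 := hγ (sp (f i)) (I.presheaf.stalkSpecializes h i) (by
      rw [← stalkSpecializes_stalkLin p h, hfi, RefOne.stalkSpecializes_smul, stalkSpecializes_oneG])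
    rw [← stalkSpecializes_stalkLin q h, hgi, RefOne.stalkSpecializes_smul, het, ← mul_smul] at h3
    exact htη.1 h3
  have hinj : Function.Injective sp := IsFractionRing.injective (X.presheaf.stalk x) X.functionField
  have hfg : ∀ i j, g i * f j = f i * g j := fun i j => hinj (by
    rw [map_mul, map_mul, hsp, hsp]
    ring)
  have hφ : φ ≠ 0 := fun h0 => by
    rw [h0, zero_smul] at het
    refine (one_ne_zero (α := X.functionField)) (he.1 ?_)
    show (1 : X.functionField) • e = (0 : X.functionField) • e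
    rw [het, smul_zero, smul_zero]
  obtain ⟨i, hi⟩ : ∃ i, f i ≠ 0 := by
    by_contra! hzero
    haveI hsub : Subsingleton (I.presheaf.stalk x) := subsingleton_of_forall_eq 0 fun i =>
      (PullbackMod.mono_iff_stalk p).1 inferInstance x (εO.symm.injective ((hzero i).trans (map_zero f).symm))
    have hη : genericPoint X ∉ CohB1.support I := fun hmem =>
      (h.mem_closed (DevLib.isClosed_support hI) hmem) hsub
    haveI : Subsingleton (I.presheaf.stalk (genericPoint X)) := not_not.1 hη
    obtain ⟨z, hz⟩ := hps (ParaFLib.oneG (genericPoint X))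
    rw [Subsingleton.elim z 0, map_zero] at hz
    refine (one_ne_zero (α := X.functionField)) ((ParaFLib.bijective_oneG (genericPoint X)).1 ?_)
    show (1 : X.functionField) • ParaFLib.oneG _ = (0 : X.functionField) • ParaFLib.oneG _
    rw [← hz, smul_zero, smul_zero]
  have hgi : g i ≠ 0 := fun h0 => by
    have := hsp i
    rw [h0, map_zero] at this
    exact mul_ne_zero ((map_ne_zero_iff sp.hom hinj).2 hi) hφ this.symm
  have fin : ∀ (r : I.presheaf.stalk x →ₗ[X.presheaf.stalk x] X.presheaf.stalk x), r i ≠ 0 →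
      Module.length (X.presheaf.stalk x) (X.presheaf.stalk x ⧸ LinearMap.range r) ≠ ⊤ := fun r hr =>
    ne_top_of_le_ne_top (Ring.ord_ne_top (mem_nonZeroDivisors_of_ne_zero hr))
      (Module.length_le_of_surjective (Submodule.factor ((Ideal.span_singleton_le_iff_mem _).2 ⟨i, rfl⟩))
        (Submodule.factor_surjective _))
  refine ⟨fin g hgi, fin f hi, ?_⟩
  rw [length_range_sub (K := X.functionField) f g hfg hi hgi]
  refine congrArg _ ?_
  rw [div_eq_iff ((map_ne_zero_iff _ (IsFractionRing.injective _ X.functionField)).2 hi)]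
  exact (hsp i).trans (mul_comm _ _)

theorem exists_push_frac_aux (hX : Cyc.IsSetup X δ) {Z : Scheme.{u}} (i : Z ⟶ X) [IsClosedImmersion i] [IsIntegral Z]
    {L : X.Modules} (hL : PicF.IsInvertible L) (ξ : X) (hgen : i (genericPoint Z) = ξ)
    (s : Cyc.secFibre L ξ) (hs : s ≠ 0) :
    ∃ (I : X.Modules) (p : I ⟶ (Scheme.Modules.pushforward i).obj (Coh.structureModule Z))
      (q : I ⟶ CohB1.tensorMod ((Scheme.Modules.pushforward i).obj (Coh.structureModule Z)) L),
      Coh.IsCoh I ∧ Mono p ∧ Mono q ∧
      Subsingleton ((cokernel p).presheaf.stalk ξ) ∧ Subsingleton ((cokernel q).presheaf.stalk ξ) ∧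
      ∀ x, δ x + 1 = δ ξ → ((Module.length (X.presheaf.stalk x) ((cokernel q).presheaf.stalk x)).toNat : ℤ) -
        ((Module.length (X.presheaf.stalk x) ((cokernel p).presheaf.stalk x)).toNat : ℤ) =
          Cyc.secDivFun δ L ξ s x := by
  haveI := hX.1
  subst hgen
  haveI := isLocallyNoetherian_closed i
  have hδZ := isDimFun_closed i hX.2.2
  have hLZ : PicF.IsInvertible ((Scheme.Modules.pullback i).obj L) := AmpleLib.isInvertible_pullback i hL
  obtain ⟨τ, hτ⟩ := ParaFLib.exists_stalk_gen hLZ (genericPoint Z)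
  obtain ⟨a, ha⟩ := exists_smul_mkF hτ (pullFib i L _ s)
  have ha0 : a ≠ 0 := fun e => pullFib_ne_zero i L hL hs (by rw [ha, e, zero_smul])
  let e := a • τ
  have he : Function.Bijective fun r : Z.presheaf.stalk (genericPoint Z) => r • e := by
    have : (fun r : Z.presheaf.stalk (genericPoint Z) => r • e) =
        (fun r => r • τ) ∘ (Equiv.mulRight₀ (G₀ := Z.functionField) a ha0) := funext fun r => (mul_smul r a τ).symm
    rw [this]
    exact hτ.comp (Equiv.mulRight₀ (G₀ := Z.functionField) a ha0).bijective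
  have hem : pullFib i L _ s = mkF _ _ e := by
    rw [ha, mkF, mkF, Submodule.Quotient.mk_smul]
  obtain ⟨I, p, q, hI, hp, hq, hps, hqs, hγ⟩ := exists_frac_of hLZ e he
  haveI := hp
  haveI := hq
  let iso : (Scheme.Modules.pushforward i).obj ((Scheme.Modules.pullback i).obj L) ≅
      CohB1.tensorMod ((Scheme.Modules.pushforward i).obj (Coh.structureModule Z)) L :=
    ((Scheme.Modules.pushforward i).mapIso (AmpleLib.unitL _)).symm ≪≫
      (DCohLib.projIso i (Coh.structureModule Z) L).symm
  haveI hmp : Mono ((Scheme.Modules.pushforward i).map p) := inferInstance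
  haveI hmq : Mono ((Scheme.Modules.pushforward i).map q) := inferInstance
  let p' := (Scheme.Modules.pushforward i).map p
  let q' := (Scheme.Modules.pushforward i).map q ≫ iso.hom
  have hcq : ∀ x, Module.length (X.presheaf.stalk x) ((cokernel q').presheaf.stalk x) =
      Module.length (X.presheaf.stalk x) ((cokernel ((Scheme.Modules.pushforward i).map q)).presheaf.stalk x) := fun x =>
    length_stalk_iso (cokernelCompIsIso ((Scheme.Modules.pushforward i).map q) iso.hom) x
  have hzero : ∀ {N : Z.Modules} (r : I ⟶ N) [Mono r] [Mono ((Scheme.Modules.pushforward i).map r)],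
      Function.Surjective (stalkLin r (genericPoint Z)) →
      Module.length (X.presheaf.stalk (i (genericPoint Z)))
        ((cokernel ((Scheme.Modules.pushforward i).map r)).presheaf.stalk (i (genericPoint Z))) = 0 := fun r _ _ hrs => by
    rw [length_coker_push i r, Module.length_eq_zero_iff]
    exact DevLib.subsingleton_coker r hrs
  refine ⟨_, p', q', DevLib.isCoh_pushforward_closed i hI, hmp, inferInstance,
    Module.length_eq_zero_iff.1 (hzero p hps), Module.length_eq_zero_iff.1 ((hcq _).trans (hzero q hqs)), fun x hd => ?_⟩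
  rw [hcq]
  by_cases hx : x ∈ Set.range i
  swap
  · have z : ∀ {M N : Z.Modules} (r : M ⟶ N) [Mono ((Scheme.Modules.pushforward i).map r)],
        Subsingleton ((cokernel ((Scheme.Modules.pushforward i).map r)).presheaf.stalk x) := fun {M N} r _ => by
      haveI := DCohLib.subsingleton_stalk_pushforward i N x hx
      exact DevLib.subsingleton_coker _ fun b => ⟨0, Subsingleton.elim _ _⟩
    haveI := z p
    haveI := z q
    rw [show Cyc.secDivFun δ L (i (genericPoint Z)) s x = 0 from
      dif_neg fun h' => hx (mem_range_of_specializes i h'.1)]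
    simp [p', Module.length_eq_zero]
  obtain ⟨z, rfl⟩ := hx
  rw [length_coker_push i q, length_coker_push i p, secDivFun_closed i hX.2.2 hL (genericPoint Z) z s, hem]
  have hd' : (fun z => δ (i z)) z + 1 = (fun z => δ (i z)) (genericPoint Z) := hd
  have h := genericPoint_specializes z
  obtain ⟨t, ht⟩ := exists_genAt hLZ z
  have htx : Function.Bijective fun r : Z.presheaf.stalk z => r • t := by
    have := ht z specializes_rfl
    rwa [TopCat.Presheaf.stalkSpecializes_refl] at this
  obtain ⟨φ, hφ⟩ := (ht _ h).2 e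
  change φ • _ = e at hφ
  haveI := krullDimLE_locQuot hδZ h hd'
  haveI := isFractionRing_locQuot h
  let ε : Z.presheaf.stalk z ≃+* Cyc.LocQuot z (genericPoint Z) h :=
    RingEquiv.ofBijective (Ideal.Quotient.mk _)
      ⟨(RingHom.injective_iff_ker_eq_bot _).2 (by rw [Ideal.mk_ker, ker_specMap_generic z h]), Ideal.Quotient.mk_surjective⟩
  haveI : Ring.KrullDimLE 1 (Z.presheaf.stalk z) := Ring.krullDimLE_iff.2
    ((ringKrullDim_eq_of_ringEquiv ε).le.trans (Ring.krullDimLE_iff.1 inferInstance))
  rw [(length_coker_sub p q hI hps he hγ z h t htx (ht _ h) φ hφ.symm).2.2,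
    secDivFun_of (δ := fun z => δ (i z)) h hd', ← hφ, mkF, Submodule.Quotient.mk_smul,
    secOrdAt_eq hδZ h hd' htx (ht _ h), Cyc.ordAt]
  exact (ordFrac_equiv (K := Z.functionField) ε (Z.residue (genericPoint Z)).hom
    (fun c => algebraMap_locQuot h c) φ).symm

/-- The divisor of a rational section as a difference of two cokernels on the closure of a point. -/
theorem exists_push_frac (hX : Cyc.IsSetup X δ) {L : X.Modules} (hL : PicF.IsInvertible L) (ξ : X)
    (s : Cyc.secFibre L ξ) (hs : s ≠ 0) :
    ∃ (I : X.Modules) (p : I ⟶ IntLib.compMod ξ) (q : I ⟶ CohB1.tensorMod (IntLib.compMod ξ) L),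
      Coh.IsCoh I ∧ Mono p ∧ Mono q ∧
      Subsingleton ((cokernel p).presheaf.stalk ξ) ∧ Subsingleton ((cokernel q).presheaf.stalk ξ) ∧
      ∀ x, δ x + 1 = δ ξ → ((Module.length (X.presheaf.stalk x) ((cokernel q).presheaf.stalk x)).toNat : ℤ) -
        ((Module.length (X.presheaf.stalk x) ((cokernel p).presheaf.stalk x)).toNat : ℤ) =
          Cyc.secDivFun δ L ξ s x := by
  haveI : IsIntegral (Scheme.IdealSheafData.vanishingIdeal
      (⟨closure {ξ}, isClosed_closure⟩ : TopologicalSpace.Closeds X)).subscheme :=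
    CurveLib.isIntegral_vanishingIdeal isClosed_closure isIrreducible_singleton.closure
  exact exists_push_frac_aux hX (Scheme.IdealSheafData.vanishingIdeal
    (⟨closure {ξ}, isClosed_closure⟩ : TopologicalSpace.Closeds X)).subschemeι hL ξ (by
    have hr : Set.range (Scheme.IdealSheafData.vanishingIdeal
        (⟨closure {ξ}, isClosed_closure⟩ : TopologicalSpace.Closeds X)).subschemeι = closure {ξ} := by
      rw [Scheme.IdealSheafData.range_subschemeι, Scheme.IdealSheafData.coe_support_vanishingIdeal]
      rfl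
    have h1 := (genericPoint_spec (Scheme.IdealSheafData.vanishingIdeal
      (⟨closure {ξ}, isClosed_closure⟩ : TopologicalSpace.Closeds X)).subscheme).image
        (Scheme.IdealSheafData.vanishingIdeal
      (⟨closure {ξ}, isClosed_closure⟩ : TopologicalSpace.Closeds X)).subschemeι.continuous
    rw [Set.image_univ, hr, closure_closure] at h1
    exact h1.eq isGenericPoint_closure) s hs

variable (k : Type u) [Field k] [X.Over (Spec (CommRingCat.of k))] [IsProper (X ↘ Spec (CommRingCat.of k))]

variable (hδ : Cyc.DeltaCompat (X ↘ Spec (CommRingCat.of k)) δ (fun _ => 0))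
include hδ

theorem dim_closure_eq (x : X) {t : ℕ} (h : δ x = t) : topologicalKrullDim (closure ({x} : Set X)) = t := by
  obtain ⟨t', ht', hd⟩ := delta_dim k δ hδ x
  rw [hd, show t' = t by omega]

theorem delta_eq_of_dim (x : X) {t : ℕ} (h : topologicalKrullDim (closure ({x} : Set X)) = t) : δ x = t := by
  obtain ⟨t', ht', hd⟩ := delta_dim k δ hδ x
  have := hd.symm.trans h
  rw [ht', show t' = t by exact_mod_cast this]

/-- The intersection number through the points of the top dimension of the support. -/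
theorem pairing_eq_finsum {r : ℕ} (M : Fin r → X.Modules) (hM : ∀ i, PicF.IsInvertible (M i)) {F : X.Modules}
    (hF : Coh.IsCoh F) (hd : topologicalKrullDim (CohB1.support F) ≤ (r : WithBot ℕ∞)) :
    (Function.support fun x => Cyc.sheafFun δ r F x *
      IntLib.pairing k (IntLib.compMod x) (∏ i, IntLib.dif (hM i))).Finite ∧
    IntLib.pairing k F (∏ i, IntLib.dif (hM i)) =
      ∑ᶠ x, Cyc.sheafFun δ r F x * IntLib.pairing k (IntLib.compMod x) (∏ i, IntLib.dif (hM i)) := by
  classical
  haveI := EulerIneqLib.isNoetherian_proper (X := X) k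
  have hfin := DegDevLib.finite_top_points (DevLib.isClosed_support hF) hd
  have hsub : (Function.support fun x => Cyc.sheafFun δ r F x *
      IntLib.pairing k (IntLib.compMod x) (∏ i, IntLib.dif (hM i))) ⊆ hfin.toFinset := fun x hx => by
    have h1 := left_ne_zero_of_mul hx
    unfold Cyc.sheafFun at h1
    split_ifs at h1 with h2
    · refine hfin.mem_toFinset.2 ⟨fun hsub => h1 ?_, dim_closure_eq k hδ x h2⟩
      haveI : Subsingleton (F.presheaf.stalk x) := hsub
      simp [Module.length_eq_zero]
    · exact absurd rfl h1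
  refine ⟨hfin.toFinset.finite_toSet.subset hsub, ?_⟩
  rw [finsum_eq_sum_of_support_subset _ hsub,
    (IntLib.pairing_decomp k M hM hF hd hfin.toFinset fun ξ => hfin.mem_toFinset).2]
  refine Finset.sum_congr rfl fun x hx => ?_
  rw [Cyc.sheafFun, if_pos (delta_eq_of_dim k hδ x (hfin.mem_toFinset.1 hx).2)]

/-- The step, for any coherent module on the closure of a point. -/
theorem pairing_step_aux {L M₀ : X.Modules} (hL : PicF.IsInvertible L) (hM₀ : PicF.IsInvertible M₀)
    (hLM : Nonempty (CohB1.tensorMod M₀ L ≅ Coh.structureModule X)) (ξ : X) {r : ℕ} (hξ : δ ξ = ((r + 1 : ℕ) : ℤ))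
    (s : Cyc.secFibre L ξ) (M : Fin r → X.Modules) (hM : ∀ i, PicF.IsInvertible (M i))
    {C : X.Modules} (hCc : Coh.IsCoh C) (hsC : ∀ y ∈ CohB1.support C, ξ ⤳ y)
    {I : X.Modules} (p : I ⟶ C) (q : I ⟶ CohB1.tensorMod C L) (hI : Coh.IsCoh I) (hp : Mono p) (hq : Mono q)
    (hpξ : Subsingleton ((cokernel p).presheaf.stalk ξ)) (hqξ : Subsingleton ((cokernel q).presheaf.stalk ξ))
    (hdiff : ∀ x, δ x + 1 = δ ξ → ((Module.length (X.presheaf.stalk x) ((cokernel q).presheaf.stalk x)).toNat : ℤ) -
        ((Module.length (X.presheaf.stalk x) ((cokernel p).presheaf.stalk x)).toNat : ℤ) =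
          Cyc.secDivFun δ L ξ s x) :
    (Function.support fun x => Cyc.secDivFun δ L ξ s x *
      IntLib.pairing k (IntLib.compMod x) (∏ i, IntLib.dif (hM i))).Finite ∧
    IntLib.pairing k C (IntLib.dif hM₀ * ∏ i, IntLib.dif (hM i)) =
      ∑ᶠ x, Cyc.secDivFun δ L ξ s x * IntLib.pairing k (IntLib.compMod x) (∏ i, IntLib.dif (hM i)) := by
  classical
  haveI := EulerIneqLib.isNoetherian_proper (X := X) k
  set z := ∏ i, IntLib.dif (hM i) with hz
  have hCL : Coh.IsCoh (CohB1.tensorMod C L) := CurveLib.isCoh_tmod hCc (CurveLib.isCoh_of_isInvertible hL)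
  have hsCL : ∀ y ∈ CohB1.support (CohB1.tensorMod C L), ξ ⤳ y := fun y hy => hsC y (by
    rwa [show CohB1.support (CohB1.tensorMod C L) = CohB1.support C from HilbLib.support_tensor hL C] at hy)
  haveI := hp
  haveI := hq
  have hcl := dim_closure_eq k hδ ξ hξ
  have small : ∀ {N : X.Modules} (f : I ⟶ N) [Mono f], Coh.IsCoh N → (∀ y ∈ CohB1.support N, ξ ⤳ y) →
      Subsingleton ((cokernel f).presheaf.stalk ξ) →
      Coh.IsCoh (cokernel f) ∧ topologicalKrullDim (CohB1.support (cokernel f)) ≤ (r : WithBot ℕ∞) := fun f _ hN hsN hξ' => by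
    have hQ := (QCohLib.isCoh_kernel_cokernel f hI hN).2
    refine ⟨hQ, IntLib.dim_le_of_lt (HilbLib.dim_lt_of_notMem (DevLib.isClosed_support hQ)
      (fun y hy => specializes_iff_mem_closure.1 (hsN y (DevLib.support_coker_subset f hy))) (fun h => h hξ')
      (by rw [hcl]; exact_mod_cast Nat.lt_succ_self (r + 1)))⟩
  obtain ⟨hA, hdA⟩ := small p hCc hsC hpξ
  obtain ⟨hB, hdB⟩ := small q hCL hsCL hqξ
  obtain ⟨fA, eA⟩ := pairing_eq_finsum k hδ M hM hA hdA
  obtain ⟨fB, eB⟩ := pairing_eq_finsum k hδ M hM hB hdB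
  have hterm : ∀ x, Cyc.sheafFun δ r (cokernel q) x * IntLib.pairing k (IntLib.compMod x) z -
      Cyc.sheafFun δ r (cokernel p) x * IntLib.pairing k (IntLib.compMod x) z =
      Cyc.secDivFun δ L ξ s x * IntLib.pairing k (IntLib.compMod x) z := fun x => by
    rw [← sub_mul]
    congr 1
    unfold Cyc.sheafFun
    by_cases hx : δ x = r
    · rw [if_pos hx, if_pos hx]
      exact hdiff x (by rw [hx, hξ]; push_cast; ring)
    · rw [if_neg hx, if_neg hx, sub_zero]
      by_contra h
      have := (specializes_of_secDivFun_ne_zero (Ne.symm h)).2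
      exact hx (by omega)
  refine ⟨(fB.union fA).subset fun x hx => ?_, ?_⟩
  · by_contra h
    simp only [Set.mem_union, Function.mem_support, not_or, not_not] at h
    refine hx ?_
    show Cyc.secDivFun δ L ξ s x * _ = 0
    rw [← hterm, h.1, h.2, sub_zero]
  rw [← finsum_congr hterm, finsum_sub_distrib fB fA, ← eB, ← eA]
  have h1 := IntLib.pairing_coker k p hI hCc z
  have h2 := IntLib.pairing_coker k q hI hCL z
  have h3 : IntLib.pairing k (CohB1.tensorMod C L) z =
      IntLib.pairing k C (MonoidAlgebra.of ℤ _ (IntLib.inv' hL) * z) := (IntLib.pairing_of_mul k C hL z).symm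
  obtain ⟨eML⟩ := hLM
  have hml : MonoidAlgebra.of ℤ (IntLib.Inv X) (IntLib.inv' hM₀) * MonoidAlgebra.of ℤ _ (IntLib.inv' hL) = 1 := by
    rw [← map_mul, show IntLib.inv' hM₀ * IntLib.inv' hL = 1 from Subtype.ext
      ((IntLib.mk_tensor M₀ L).symm.trans ((IntLib.mk_congr eML).trans IntLib.mk_structureModule)), map_one]
  have hkill : IntLib.pairing k C ((MonoidAlgebra.of ℤ _ (IntLib.inv' hL)) *
      (IntLib.dif hM₀ * (IntLib.dif hM₀ * z))) = 0 := by
    have := IntLib.pairing_mul_prod_eq_zero k hCc (r := r + 2)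
      (lt_of_le_of_lt ((Topology.IsEmbedding.inclusion (fun y hy => specializes_iff_mem_closure.1 (hsC y hy) :
        CohB1.support C ⊆ closure {ξ})).isInducing.topologicalKrullDim_le.trans hcl.le)
        (by exact_mod_cast Nat.lt_succ_self (r + 1))) (Fin.cons M₀ (Fin.cons M₀ M))
      (Fin.cases hM₀ (Fin.cases hM₀ hM)) (MonoidAlgebra.of ℤ _ (IntLib.inv' hL))
    rw [Fin.prod_univ_succ, Fin.prod_univ_succ] at this
    exact this
  have expand : MonoidAlgebra.of ℤ (IntLib.Inv X) (IntLib.inv' hL) * (IntLib.dif hM₀ * (IntLib.dif hM₀ * z)) =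
      (MonoidAlgebra.of ℤ _ (IntLib.inv' hL) * z - z) - IntLib.dif hM₀ * z := by
    simp only [IntLib.dif]
    linear_combination ((-2 : IntLib.PicRing X) * z + MonoidAlgebra.of ℤ _ (IntLib.inv' hM₀) * z) * hml
  rw [expand, map_sub, map_sub, ← h3, h2, h1] at hkill
  linarith

/-- The step: cutting with one invertible module. -/
theorem pairing_step {L M₀ : X.Modules} (hL : PicF.IsInvertible L) (hM₀ : PicF.IsInvertible M₀)
    (hLM : Nonempty (CohB1.tensorMod M₀ L ≅ Coh.structureModule X)) (ξ : X) {r : ℕ} (hξ : δ ξ = ((r + 1 : ℕ) : ℤ))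
    (s : Cyc.secFibre L ξ) (hs : s ≠ 0) (M : Fin r → X.Modules) (hM : ∀ i, PicF.IsInvertible (M i)) :
    (Function.support fun x => Cyc.secDivFun δ L ξ s x *
      IntLib.pairing k (IntLib.compMod x) (∏ i, IntLib.dif (hM i))).Finite ∧
    IntLib.pairing k (IntLib.compMod ξ) (IntLib.dif hM₀ * ∏ i, IntLib.dif (hM i)) =
      ∑ᶠ x, Cyc.secDivFun δ L ξ s x * IntLib.pairing k (IntLib.compMod x) (∏ i, IntLib.dif (hM i)) := by
  haveI := EulerIneqLib.isNoetherian_proper (X := X) k
  obtain ⟨I, p, q, hI, hp, hq, hpξ, hqξ, hdiff⟩ := exists_push_frac (isSetup_of_field k δ hδ) hL ξ s hs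
  exact pairing_step_aux k hδ hL hM₀ hLM ξ hξ s M hM (IntLib.isPiece_compMod ξ).coh (IntLib.isPiece_compMod ξ).supp
    p q hI hp hq hpξ hqξ hdiff

end Groth.Agent.CycLib
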