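import Groth.Agent.OrdDet.Lattice
import Groth.Agent.S6320
import Groth.Agent.CycLib.DivPull

/-! # Orders of norms -/

set_option autoImplicit false
set_option backward.isDefEq.respectTransparency false
set_option linter.style.haveILetI false

universe u

open IsLocalRing nonZeroDivisors

noncomputable section

namespace Groth.Agent.CycLib

variable {A : Type u} [CommRing A] [IsDomain A] [IsNoetherianRing A] [Ring.KrullDimLE 1 A]
  {C : Type u} [CommRing C] [IsDomain C] [Algebra A C] [Module.Finite A C]
  {K : Type u} [Field K] [Algebra A K] [IsFractionRing A K]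
  {L : Type u} [Field L] [Algebra C L] [IsFractionRing C L] [Algebra K L] [Algebra A L]
  [IsScalarTower A K L] [IsScalarTower A C L] [FiniteDimensional K L]

/-- The order of a norm is a colength. -/
theorem ordFrac_norm {c : C} (hc : c ≠ 0) :
    Module.length A (C ⧸ Ideal.span {c}) ≠ ⊤ ∧
      ((Module.length A (C ⧸ Ideal.span {c})).toNat : ℤ) =
        CycAlg.ordFrac A K (Algebra.norm K (algebraMap C L c)) := by
  haveI : FaithfulSMul A C := (faithfulSMul_iff_algebraMap_injective A C).2 fun a b e => by
    have := congrArg (algebraMap C L) e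
    rw [← IsScalarTower.algebraMap_apply, ← IsScalarTower.algebraMap_apply, IsScalarTower.algebraMap_apply A K L,
      IsScalarTower.algebraMap_apply A K L] at this
    exact IsFractionRing.injective A K ((algebraMap K L).injective this)
  haveI : Algebra.IsAlgebraic A C := Algebra.IsIntegral.isAlgebraic
  let g : C →ₐ[A] L := IsScalarTower.toAlgHom A C L
  let M : Submodule A L := LinearMap.range g.toLinearMap
  have hfg : M.FG := by
    rw [show M = Submodule.map g.toLinearMap ⊤ from (Submodule.map_top _).symm]
    exact Module.Finite.fg_top.map _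
  have hspan : Submodule.span K (M : Set L) = ⊤ := by
    refine eq_top_iff.2 fun z _ => ?_
    obtain ⟨a, b, hb, rfl⟩ := IsFractionRing.div_surjective (A := C) z
    obtain ⟨c', d, hd, e⟩ := Algebra.IsAlgebraic.exists_smul_eq_mul A a (nonZeroDivisors.ne_zero hb)
    have hb0 : algebraMap C L b ≠ 0 := IsFractionRing.to_map_ne_zero_of_mem_nonZeroDivisors hb
    have hd0 : algebraMap A K d ≠ 0 := fun h => hd (IsFractionRing.injective A K (h.trans (map_zero _).symm))
    have : algebraMap C L a / algebraMap C L b = (algebraMap A K d)⁻¹ • g c' := by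
      rw [div_eq_iff hb0, Algebra.smul_def, map_inv₀, mul_assoc, ← IsScalarTower.algebraMap_apply,
        eq_inv_mul_iff_mul_eq₀ (by rw [IsScalarTower.algebraMap_apply A K L]; exact fun h => hd0 ((algebraMap K L).injective (h.trans (map_zero _).symm)))]
      have e' := congrArg (algebraMap C L) e
      rw [Algebra.smul_def, map_mul, map_mul, ← IsScalarTower.algebraMap_apply] at e'
      rw [e', mul_comm]
      rfl
    rw [this]
    exact Submodule.smul_mem _ _ (Submodule.subset_span ⟨c', rfl⟩)
  have hc0 : algebraMap C L c ≠ 0 := fun h => hc (IsFractionRing.injective C L (h.trans (map_zero _).symm))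
  let φ : L ≃ₗ[K] L := LinearEquiv.ofBijective (Algebra.lmul K L (algebraMap C L c))
    ⟨fun x y hxy => mul_left_cancel₀ hc0 hxy, fun x => ⟨(algebraMap C L c)⁻¹ * x, mul_inv_cancel_left₀ hc0 x⟩⟩
  obtain ⟨-, h1, -, h3⟩ := OrdDet.latticeDist M hfg hspan φ
  set f := φ.toLinearMap.restrictScalars A with hf
  have hle : M.map f ≤ M := by
    rintro _ ⟨_, ⟨x, rfl⟩, rfl⟩
    exact ⟨c * x, map_mul g c x⟩
  rw [inf_eq_right.2 hle] at h1 h3
  rw [OrdDet.qlen_self, ENat.toNat_zero, Nat.cast_zero, sub_zero] at h3
  have hi : Function.Injective g.toLinearMap := IsFractionRing.injective C L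
  have hMf : M.map f = Submodule.map g.toLinearMap ((Ideal.span {c}).restrictScalars A) := by
    ext z
    constructor
    · rintro ⟨_, ⟨x, rfl⟩, rfl⟩
      exact ⟨c * x, Ideal.mem_span_singleton.2 ⟨x, rfl⟩, map_mul g c x⟩
    · rintro ⟨w, hw, rfl⟩
      obtain ⟨x, rfl⟩ := Ideal.mem_span_singleton.1 hw
      exact ⟨g x, ⟨x, rfl⟩, (map_mul g c x).symm⟩
  have hlen : OrdDet.qlen M (M.map f) = Module.length A (C ⧸ Ideal.span {c}) := by
    rw [hMf, show M = Submodule.map g.toLinearMap ⊤ from (Submodule.map_top _).symm, OrdDet.qlen_map _ hi,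
      OrdDet.qlen_top]
    exact (Submodule.Quotient.restrictScalarsEquiv A (Ideal.span {c})).length_eq
  rw [hlen] at h1 h3
  exact ⟨h1.ne, h3⟩

/-- The order of a norm is the weighted sum of the orders above. -/
theorem ordFrac_norm_eq_sum [IsLocalRing A] {c : C} (hc : c ≠ 0) :
    Finite (MaximalSpectrum C) ∧ CycAlg.ordFrac A K (Algebra.norm K (algebraMap C L c)) =
      ∑ᶠ n : MaximalSpectrum C, (Module.finrank (A ⧸ n.asIdeal.comap (algebraMap A C)) (C ⧸ n.asIdeal) : ℤ) *
        ((Ring.ord (Localization.AtPrime n.asIdeal) (algebraMap C (Localization.AtPrime n.asIdeal) c)).toNat : ℤ) := by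
  haveI : IsNoetherianRing C := IsNoetherianRing.of_finite A C
  have hover : ∀ n : MaximalSpectrum C, n.asIdeal.comap (algebraMap A C) = maximalIdeal A := fun n => by
    haveI := n.isMaximal
    exact eq_maximalIdeal (Ideal.isMaximal_comap_of_isIntegral_of_isMaximal n.asIdeal)
  haveI hfin : Finite (MaximalSpectrum C) := by
    haveI : Finite ((maximalIdeal A).map (algebraMap A C)).minimalPrimes :=
      (Ideal.finite_minimalPrimes_of_isNoetherianRing C _).to_subtype
    refine Finite.of_injective (β := ((maximalIdeal A).map (algebraMap A C)).minimalPrimes)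
      (fun n => ⟨n.asIdeal, ⟨⟨n.isMaximal.isPrime, Ideal.map_le_iff_le_comap.2 (hover n).ge⟩, fun R hR hRn => ?_⟩⟩)
      fun n n' e => MaximalSpectrum.ext (congrArg (fun R : ((maximalIdeal A).map (algebraMap A C)).minimalPrimes => R.1) e)
    haveI := hR.1
    have hR' : R.comap (algebraMap A C) = maximalIdeal A :=
      ((maximalIdeal.isMaximal A).eq_of_le (Ideal.IsPrime.ne_top inferInstance) (Ideal.map_le_iff_le_comap.1 hR.2)).symm
    haveI : (R.comap (algebraMap A C)).IsMaximal := hR' ▸ maximalIdeal.isMaximal A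
    exact ((Ideal.isMaximal_of_isIntegral_of_isMaximal_comap R ‹_›).eq_of_le n.isMaximal.ne_top hRn).ge
  refine ⟨hfin, ?_⟩
  obtain ⟨h1, h2⟩ := ordFrac_norm (A := A) (K := K) (L := L) hc
  have hM : IsFiniteLength C (C ⧸ Ideal.span {c}) := by
    have h := Module.length_ne_top_iff.1 h1
    rw [isFiniteLength_iff_isNoetherian_isArtinian] at h ⊢
    obtain ⟨hN, hA⟩ := h
    exact ⟨isNoetherian_of_tower A hN, isArtinian_of_tower A hA⟩
  have key := S6320.result (A := A) hover (fun n => by
      haveI : Module.Finite A (C ⧸ n.asIdeal) := inferInstance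
      exact Module.Finite.of_restrictScalars_finite A _ _) (C ⧸ Ideal.span {c}) hM
  have hord : ∀ n : MaximalSpectrum C,
      Module.length (Localization.AtPrime n.asIdeal) (LocalizedModule n.asIdeal.primeCompl (C ⧸ Ideal.span {c})) =
        Ring.ord (Localization.AtPrime n.asIdeal) (algebraMap C (Localization.AtPrime n.asIdeal) c) := fun n => by
    rw [length_localized_quot (S := Localization.AtPrime n.asIdeal), Ideal.map_span, Set.image_singleton]
    rfl
  simp only [hord] at key
  letI := Fintype.ofFinite (MaximalSpectrum C)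
  rw [finsum_eq_sum_of_fintype] at key ⊢
  rw [← h2, key, ENat.toNat_sum fun n _ htop => h1 (key.trans (top_le_iff.1
    (htop.symm.le.trans (Finset.single_le_sum (fun _ _ => bot_le) (Finset.mem_univ n))))), Nat.cast_sum]
  refine Finset.sum_congr rfl fun n _ => ?_
  rw [ENat.toNat_mul, ENat.toNat_coe, Nat.cast_mul]

end Groth.Agent.CycLib
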