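import Groth.Agent.CycLib.P1Sect
import Groth.Agent.CycLib.GysinSheaf
import Groth.Agent.CycLib.SetupLft
import Groth.Agent.CycLib.PushEquiv
import Groth.Agent.CycLib.C1Cycle
import Groth.Agent.WeilCohLib.Geom

/-! # The fibres over `0` and `∞` of a coherent module on the projective line -/

set_option autoImplicit false
set_option backward.isDefEq.respectTransparency false
set_option linter.style.haveILetI false

universe u

open CategoryTheory CategoryTheory.Limits AlgebraicGeometry TopologicalSpace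

noncomputable section

namespace Groth.Agent.CycLib.P1Rat

open scoped Classical

/-- The cycle of a coherent module with bounded support. -/
def sheafCycle {X : Scheme.{u}} [IsLocallyNoetherian X] {δ : X → ℤ} {k : ℤ} {F : X.Modules} (hF : Coh.IsCoh F) :
    AlgebraicCycle X ℤ where
  toFun := Cyc.sheafFun δ k F
  supportWithinDomain' := Set.subset_univ _
  supportLocallyFiniteWithinDomain' z _ := by
    haveI := hF.1
    obtain ⟨W, hW, hz⟩ := exists_affine z
    refine ⟨W, W.2.mem_nhds hz, (AssLib.finite_ass_affine hF hW).subset fun x ⟨hxW, hx⟩ => ⟨hxW, ?_⟩⟩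
    rw [Function.mem_support, Cyc.sheafFun] at hx
    split_ifs at hx with hk
    swap
    · exact absurd rfl hx
    have hn : (Module.length (X.presheaf.stalk x) (F.presheaf.stalk x)).toNat ≠ 0 := fun e => hx (by rw [e]; rfl)
    rw [ne_eq, ENat.toNat_eq_zero, not_or, Module.length_eq_zero_iff, not_subsingleton_iff_nontrivial, ← ne_eq,
      Module.length_ne_top_iff, AssLib.isFiniteLength_iff_minimal hF] at hn
    obtain ⟨y, hyx, hy⟩ := AssLib.exists_isAssPoint_of_nontrivial hn.1
    exact hn.2 y hy hyx ▸ hy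

variable {X : Scheme.{u}} {δ : X → ℤ} {δP : ↥(CohB1.ProjSpaceOver 1 X) → ℤ}

open P1Sect in
theorem delta_sect (hP : Cyc.DeltaCompat (CohB1.ProjSpaceOver.toBase 1 X) δP δ) (i : Fin (1 + 1)) (x : X) :
    δP (P1.sect X i x) = δ x ∧ CohB1.ProjSpaceOver.toBase 1 X (P1.sect X i x) = x ∧
      AlgebraicCycle.mapCoeff (CohB1.ProjSpaceOver.toBase 1 X) δP δ (P1.sect X i x) = 1 := by
  have he : CohB1.ProjSpaceOver.toBase 1 X (P1.sect X i x) = x := by
    rw [← Scheme.Hom.comp_apply, sect_toBase]; rfl
  have h1 := (WeilCohLib.residueDegree_of_comp_eq_id _ _ (sect_toBase i X) x).2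
  have hd : δP (P1.sect X i x) = δ x := by
    obtain ⟨n, hn, e⟩ := hP (P1.sect X i x)
    letI := ((CohB1.ProjSpaceOver.toBase 1 X).residueFieldMap (P1.sect X i x)).hom.toAlgebra
    haveI : Module.Finite (X.residueField (CohB1.ProjSpaceOver.toBase 1 X (P1.sect X i x)))
        ((CohB1.ProjSpaceOver 1 X).residueField (P1.sect X i x)) := by
      unfold Scheme.Hom.residueDegree at h1
      exact Module.finite_of_finrank_eq_succ (n := 0) h1
    haveI : Algebra.IsAlgebraic (X.residueField (CohB1.ProjSpaceOver.toBase 1 X (P1.sect X i x)))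
        ((CohB1.ProjSpaceOver 1 X).residueField (P1.sect X i x)) := Algebra.IsAlgebraic.of_finite _ _
    have h0 : ((n : ℕ) : Cardinal.{u}) = 0 := hn.symm.trans trdeg_eq_zero
    rw [Nat.cast_eq_zero] at h0
    rw [he] at e
    omega
  refine ⟨hd, he, ?_⟩
  rw [AlgebraicCycle.mapCoeff, if_pos (by rw [hd]; exact congrArg δ he.symm)]
  exact h1

open P1Sect in
/-- The fibres over `0` and `∞` of a coherent module on the projective line are rationally equivalent. -/
theorem ratEquiv_sect (hX : Cyc.IsSetup X δ) (hP : Cyc.DeltaCompat (CohB1.ProjSpaceOver.toBase 1 X) δP δ) {k : ℤ}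
    {F : (CohB1.ProjSpaceOver 1 X).Modules} (hF : Coh.IsCoh F)
    (hsupp : ∀ p : ↥(CohB1.ProjSpaceOver 1 X), Nontrivial (F.presheaf.stalk p) → δP p ≤ k + 1)
    (hemb : ∀ p : ↥(CohB1.ProjSpaceOver 1 X), Curv2.IsAssPoint F p →
      p ∉ Set.range ⇑(P1.sect X 0) ∪ Set.range ⇑(P1.sect X 1) ∨ δP p < k)
    (α β : AlgebraicCycle X ℤ) (hα : ⇑α = Cyc.sheafFun δ k ((Scheme.Modules.pullback (P1.sect X 0)).obj F))
    (hβ : ⇑β = Cyc.sheafFun δ k ((Scheme.Modules.pullback (P1.sect X 1)).obj F)) : Cyc.RatEquiv δ k α β := by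
  haveI := hX.1
  haveI := hF.1
  haveI : IsProper (CohB1.ProjSpaceOver.toBase 1 X) := MorphismProperty.pullback_snd _ _ inferInstance
  have hsP := isSetup_of_lft (CohB1.ProjSpaceOver.toBase 1 X) hX hP
  haveI := hsP.1
  have hδ := hsP.2.2
  have hL := isInvertible_lineBundle X
  let C : AlgebraicCycle (CohB1.ProjSpaceOver 1 X) ℤ := sheafCycle (δ := δP) (k := k + 1) hF
  have hC : C ∈ Cyc.Zk (CohB1.ProjSpaceOver 1 X) δP (k + 1) := fun x hx => if_neg hx
  have hw : ∀ ξ, ∃ w : Cyc.secFibre (lineBundle X) ξ, w ≠ 0 := fun ξ => by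
    obtain ⟨t, ht⟩ := exists_genAt hL ξ
    have ht' : Function.Bijective fun r : (CohB1.ProjSpaceOver 1 X).presheaf.stalk ξ => r • t := by
      have := ht ξ specializes_rfl
      rwa [TopCat.Presheaf.stalkSpecializes_refl] at this
    exact ⟨mkF _ ξ t, fun e => one_ne_zero (α := (CohB1.ProjSpaceOver 1 X).residueField ξ) (by
      rw [← map_one ((CohB1.ProjSpaceOver 1 X).residue ξ).hom]
      exact (smul_mkF_eq_zero_iff ht' 1).1 (by rw [one_smul]; exact e))⟩
  choose w hw using hw
  let γ : Fin (1 + 1) → AlgebraicCycle (CohB1.ProjSpaceOver 1 X) ℤ := fun j =>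
    c1Cycle hδ hL C (Cyc.gysinChoice (lineBundle X) (sectEq j X) w)
  have hrat : Cyc.RatEquiv δP k (γ 0) (γ 1) :=
    CycLib.ratEquiv_c1Cap hδ hL hC (gysinChoice_ne_zero hw) (gysinChoice_ne_zero hw) rfl rfl
  have key : ∀ (j : Fin (1 + 1)) (d : X),
      AlgebraicCycle.map (CohB1.ProjSpaceOver.toBase 1 X) δP δ (γ j) d =
        Cyc.sheafFun δ k ((Scheme.Modules.pullback (P1.sect X j)).obj F) d := by
    intro j d
    obtain ⟨h1, h2, h3⟩ := delta_sect hP j d
    rw [map_apply_eq_sum _ _ d {P1.sect X j d} fun x hx hne => ?_]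
    · rw [Finset.sum_singleton, Set.indicator_of_mem (show P1.sect X j d ∈ (CohB1.ProjSpaceOver.toBase 1 X) ⁻¹' {d} from h2),
        h3, Nat.cast_one, mul_one]
      show Cyc.c1CapFun δP (lineBundle X) (Cyc.sheafFun δP (k + 1) F) (Cyc.gysinChoice (lineBundle X) (sectEq j X) w) _ = _
      by_cases hd : δ d = k
      · rw [Cyc.sheafFun, if_pos hd]
        refine GysinSheaf.fibre_sum hsP hL (isZeroSchemeOf_sect j X) hF hsupp (fun x hx t f _ hf =>
          GysinSheaf.regular_of_assPoints (fun y hyx hy hz => ?_) t f hf) (h1.trans hd) w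
        have hyr : y ∈ Set.range (P1.sect X j) := by rw [(isZeroSchemeOf_sect j X).1]; exact hz
        have hky : k ≤ δP y := by
          by_cases he : y = x
          · rw [he]; exact hx
          · exact hx.trans (hδ y x hyx he).1.le
        rcases hemb y hy with h | h
        · refine h ?_
          fin_cases j
          · exact Or.inl hyr
          · exact Or.inr hyr
        · omega
      · rw [c1CapFun_eq_zero_of_ne (a := Cyc.sheafFun δP (k + 1) F) (fun ξ hξ => if_neg hξ) _ (by rw [h1]; exact hd),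
          Cyc.sheafFun, if_neg hd]
    · obtain ⟨ξ, hξ⟩ := exists_ne_zero_finsum hne
      obtain ⟨d', rfl⟩ := mem_range_of_gysin hδ hL (isZeroSchemeOf_sect j X) (right_ne_zero_of_mul hξ)
      rw [(delta_sect hP j d').2.1] at hx
      rw [hx]
      exact Finset.mem_singleton_self _
  have := ratEquiv_map (CohB1.ProjSpaceOver.toBase 1 X) hsP hX hP hrat
  convert this using 1
  · exact Function.locallyFinsuppWithin.ext fun d => (congrFun hα d).trans (key 0 d).symm
  · exact Function.locallyFinsuppWithin.ext fun d => (congrFun hβ d).trans (key 1 d).symm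

end Groth.Agent.CycLib.P1Rat
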