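import Groth.Prelude.Def_P1
import Groth.Agent.CycLib.ZeroPull
import Groth.Agent.CycLib.GysinPull
import Groth.Agent.RegIdealLib.Immersion
import Groth.Agent.AmpleEmb.Ratio

/-! # The sections at `0` and `∞` as zero schemes of the coordinates -/

set_option autoImplicit false
set_option backward.isDefEq.respectTransparency false
set_option linter.style.haveILetI false

universe u

open CategoryTheory CategoryTheory.Limits AlgebraicGeometry TopologicalSpace
open Groth.Agent.AmpleLib Groth.Agent.DCohLib Groth.Agent.ParaFLib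

noncomputable section

namespace Groth.Agent.CycLib.P1Sect

open AmpleEmb (stdOpen coordRatio coordForm coordSec)

variable (i : Fin (1 + 1))

/-- The ratio of the other coordinate. -/
def otherIdx : Fin (1 + 1) := 1 - i

theorem otherIdx_ne : otherIdx i ≠ i := by fin_cases i <;> decide

theorem eq_or_eq_otherIdx (a : Fin (1 + 1)) : a = i ∨ a = otherIdx i := by
  fin_cases i <;> fin_cases a <;> decide

/-- The coordinate ratio in the chart. -/
def uElem : HomogeneousLocalization.Away P1.grading.{u} (P1.T i) :=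
  HomogeneousLocalization.Away.mk _ (P1.X_mem i) 1 (P1.T (otherIdx i)) (by simpa using P1.X_mem (otherIdx i))

theorem evalAway_mk' (k : ℕ) (p : MvPolynomial (Fin (1 + 1)) P1.R0.{u}) (hp : p ∈ P1.grading (k • 1)) :
    P1.evalAway i (HomogeneousLocalization.Away.mk _ (P1.X_mem i) k p hp) =
      MvPolynomial.aeval (Pi.single i (1 : P1.R0.{u}) : Fin (1 + 1) → P1.R0) p := by
  have hu : IsUnit (MvPolynomial.aeval (Pi.single i (1 : P1.R0.{u}) : Fin (1 + 1) → P1.R0) (P1.T i)) := by simp
  have h := ProjMap.evalAway_mk (v := (Pi.single i (1 : P1.R0.{u}) : Fin (1 + 1) → P1.R0)) (P1.X_mem i) hu k p hp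
  simp only [P1.T, MvPolynomial.aeval_X, Pi.single_eq_same, one_pow, mul_one] at h
  exact h

theorem uElem_mem_ker : uElem.{u} i ∈ RingHom.ker (P1.evalAway.{u} i) := by
  rw [RingHom.mem_ker, uElem, evalAway_mk']
  simp [P1.T, Pi.single_eq_of_ne (otherIdx_ne i)]

/-- The kernel of evaluation is generated by the ratio. -/
theorem ker_evalAway : RingHom.ker (P1.evalAway.{u} i) = Ideal.span {uElem.{u} i} := by
  classical
  refine le_antisymm (fun x hx => ?_) ((Ideal.span_singleton_le_iff_mem _).2 (uElem_mem_ker i))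
  obtain ⟨k, p, hp, rfl⟩ := HomogeneousLocalization.Away.mk_surjective (𝒜 := P1.grading.{u}) (P1.X_mem i) x
  have hmon : ∀ m ∈ p.support, MvPolynomial.monomial m (p.coeff m) ∈ P1.grading.{u} (k • 1) := fun m hm =>
    (MvPolynomial.mem_homogeneousSubmodule _ _).2 (MvPolynomial.isHomogeneous_monomial _
      (by have := hp (MvPolynomial.mem_support_iff.1 hm); simpa [Finsupp.weight_apply, Finsupp.sum, Finsupp.degree] using this))
  have hsum : HomogeneousLocalization.Away.mk _ (P1.X_mem i) k p hp =
      ∑ m ∈ p.support.attach, HomogeneousLocalization.Away.mk _ (P1.X_mem i) k _ (hmon m.1 m.2) := by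
    refine HomogeneousLocalization.val_injective _ ?_
    simp only [← HomogeneousLocalization.algebraMap_apply, map_sum]
    simp only [HomogeneousLocalization.algebraMap_apply, HomogeneousLocalization.Away.val_mk]
    rw [← Localization.mk_sum]
    congr 1
    conv_lhs => rw [p.as_sum]
    rw [Finset.sum_attach p.support fun m => MvPolynomial.monomial m (p.coeff m)]
  have hdvd : ∀ (m : Fin (1 + 1) →₀ ℕ) (hm : m ∈ p.support), m (otherIdx i) ≠ 0 →
      HomogeneousLocalization.Away.mk _ (P1.X_mem i) k _ (hmon m hm) ∈ Ideal.span {uElem.{u} i} := by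
    intro m hm h0
    have hk : k = (k - 1) + 1 := by
      have h1 : m.degree = k • 1 := by
        have := hp (MvPolynomial.mem_support_iff.1 hm)
        simpa [Finsupp.weight_apply, Finsupp.sum, Finsupp.degree] using this
      have h2 : m (otherIdx i) ≤ m.degree := Finsupp.le_degree _ _
      simp only [smul_eq_mul, mul_one] at h1
      omega
    obtain ⟨m', rfl⟩ : ∃ m', m = m' + Finsupp.single (otherIdx i) 1 :=
      ⟨m - Finsupp.single (otherIdx i) 1,
        (tsub_add_cancel_of_le (Finsupp.single_le_iff.2 (Nat.one_le_iff_ne_zero.2 h0))).symm⟩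
    have hm' : MvPolynomial.monomial m' (p.coeff (m' + Finsupp.single (otherIdx i) 1)) ∈ P1.grading.{u} ((k - 1) • 1) := by
      refine (MvPolynomial.mem_homogeneousSubmodule _ _).2 (MvPolynomial.isHomogeneous_monomial _ ?_)
      have h1 : (m' + Finsupp.single (otherIdx i) 1).degree = k • 1 := by
        have := hp (MvPolynomial.mem_support_iff.1 hm)
        simpa [Finsupp.weight_apply, Finsupp.sum, Finsupp.degree] using this
      rw [map_add, Finsupp.degree_single] at h1
      simp only [smul_eq_mul, mul_one] at h1 ⊢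
      omega
    refine Ideal.mem_span_singleton'.2 ⟨HomogeneousLocalization.Away.mk _ (P1.X_mem i) (k - 1) _ hm', ?_⟩
    refine HomogeneousLocalization.val_injective _ ?_
    rw [HomogeneousLocalization.val_mul, uElem, HomogeneousLocalization.Away.val_mk, HomogeneousLocalization.Away.val_mk,
      HomogeneousLocalization.Away.val_mk, Localization.mk_mul]
    refine Localization.mk_eq_mk_iff.2 (Localization.r_iff_exists.2 ⟨1, ?_⟩)
    show (1 : MvPolynomial (Fin (1 + 1)) P1.R0.{u}) * (P1.T i ^ k * (MvPolynomial.monomial m' _ * P1.T (otherIdx i))) =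
      1 * (P1.T i ^ (k - 1) * P1.T i ^ 1 * MvPolynomial.monomial _ _)
    rw [one_mul, one_mul, ← pow_add, ← hk, MvPolynomial.monomial_add_single, pow_one]
  rw [hsum, ← Finset.sum_filter_add_sum_filter_not p.support.attach (fun m => m.1 (otherIdx i) ≠ 0)] at hx ⊢
  have h1 := Ideal.sum_mem _ fun m (hm : m ∈ p.support.attach.filter fun m => m.1 (otherIdx i) ≠ 0) =>
    hdvd m.1 m.2 (Finset.mem_filter.1 hm).2
  refine Ideal.add_mem _ h1 ?_
  rw [RingHom.mem_ker, map_add, RingHom.mem_ker.1 ((Ideal.span_singleton_le_iff_mem _).2 (uElem_mem_ker i) h1),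
    zero_add, map_sum] at hx
  have hdeg : ∀ m ∈ p.support, m (otherIdx i) = 0 → m = Finsupp.single i k := fun m hm h0 => by
    have h1 : m.degree = k • 1 := by
      have := hp (MvPolynomial.mem_support_iff.1 hm)
      simpa [Finsupp.weight_apply, Finsupp.sum, Finsupp.degree] using this
    simp only [smul_eq_mul, mul_one] at h1
    have h2 : m = Finsupp.single i (m i) := Finsupp.ext fun a => by
      rcases eq_or_eq_otherIdx i a with rfl | rfl
      · rw [Finsupp.single_eq_same]
      · rw [h0, Finsupp.single_eq_of_ne (otherIdx_ne i)]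
    rw [h2, Finsupp.degree_single] at h1
    rw [h2, h1]
  by_cases hne : (p.support.attach.filter fun m => ¬ m.1 (otherIdx i) ≠ 0).Nonempty
  · obtain ⟨m₀, hm₀⟩ := hne
    exfalso
    have hm0 : m₀.1 (otherIdx i) = 0 := not_not.1 (Finset.mem_filter.1 hm₀).2
    rw [Finset.sum_eq_single m₀ (fun m hm hmne => absurd (Subtype.ext ((hdeg m.1 m.2
      (not_not.1 (Finset.mem_filter.1 hm).2)).trans (hdeg m₀.1 m₀.2 hm0).symm)) hmne) (fun h => absurd hm₀ h),
      evalAway_mk'] at hx
    refine MvPolynomial.mem_support_iff.1 m₀.2 ?_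
    rw [MvPolynomial.aeval_monomial, hdeg m₀.1 m₀.2 hm0] at hx
    simp at hx
    rw [hdeg m₀.1 m₀.2 hm0]
    exact hx
  · rw [Finset.not_nonempty_iff_eq_empty.1 hne, Finset.sum_empty]
    exact Ideal.zero_mem _

theorem point_preimage : P1.point.{u} i ⁻¹ᵁ stdOpen 1 P1.R0 i = ⊤ := by
  refine eq_top_iff.2 fun x _ => ?_
  show P1.point i x ∈ stdOpen 1 P1.R0 i
  have h : P1.point i x ∈ (Proj.awayι P1.grading.{u} (P1.T i) (P1.X_mem i) one_pos).opensRange :=
    ⟨Spec.map (CommRingCat.ofHom (P1.evalAway i)) x, rfl⟩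
  rwa [Proj.opensRange_awayι] at h

instance : IsClosedImmersion (P1.point.{u} i) := by
  haveI : IsClosedImmersion (P1.point.{u} i ≫ CohB1.ProjSpace.toSpec 1 P1.R0) := by
    rw [specULiftZIsTerminal.hom_ext (P1.point.{u} i ≫ CohB1.ProjSpace.toSpec 1 P1.R0) (𝟙 _)]
    infer_instance
  exact IsClosedImmersion.of_comp (P1.point i) (CohB1.ProjSpace.toSpec 1 P1.R0)

theorem point_appLE : Proj.awayToSection P1.grading.{u} (P1.T i) ≫
    (P1.point i).appLE (stdOpen 1 P1.R0 i) ⊤ (point_preimage i).ge =
      CommRingCat.ofHom (P1.evalAway i) ≫ (Scheme.ΓSpecIso (CommRingCat.of P1.R0.{u})).inv := by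
  let e := Proj.basicOpenIsoSpec P1.grading.{u} (P1.T i) (P1.X_mem i) one_pos
  have h1 : (P1.point i).resLE (stdOpen 1 P1.R0 i) ⊤ (point_preimage i).ge =
      (⊤ : (Spec (CommRingCat.of P1.R0.{u})).Opens).ι ≫ Spec.map (CommRingCat.ofHom (P1.evalAway i)) ≫ e.inv := by
    rw [← cancel_mono (stdOpen 1 P1.R0 i).ι, Scheme.Hom.resLE_comp_ι, Category.assoc, Category.assoc]
    rfl
  haveI : IsIso (⊤ : (Spec (CommRingCat.of P1.R0.{u})).Opens).toSpecΓ := (isAffineOpen_top _).isoSpec.isIso_hom
  refine Spec.map_injective ((cancel_epi (⊤ : (Spec (CommRingCat.of P1.R0.{u})).Opens).toSpecΓ).1 ?_)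
  rw [Spec.map_comp, Scheme.Opens.toSpecΓ_SpecMap_appLE_assoc, h1, Category.assoc, Category.assoc, Spec.map_comp]
  have h2 : e.inv ≫ (stdOpen 1 P1.R0 i).toSpecΓ ≫ Spec.map (Proj.awayToSection P1.grading.{u} (P1.T i)) = 𝟙 _ :=
    e.inv_hom_id
  rw [h2, Category.comp_id, ← Category.assoc]
  congr 1
  rw [Scheme.Opens.toSpecΓ_top, Category.assoc, toSpecΓ_SpecMap_ΓSpecIso_inv, Category.comp_id]

theorem coordRatio_eq : coordRatio 1 P1.R0.{u} i (otherIdx i) = Proj.awayToSection P1.grading.{u} (P1.T i) (uElem i) :=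
  (ProjCoh.awayToSection_ratio _ (coordForm 1 P1.R0 i) (coordForm 1 P1.R0 (otherIdx i))).symm

theorem ker_point_app : RingHom.ker ((P1.point.{u} i).app (stdOpen 1 P1.R0 i)).hom =
    Ideal.span {coordRatio 1 P1.R0.{u} i (otherIdx i)} := by
  have hker : RingHom.ker ((P1.point.{u} i).app (stdOpen 1 P1.R0 i)).hom =
      RingHom.ker ((P1.point i).appLE (stdOpen 1 P1.R0 i) ⊤ (point_preimage i).ge).hom := by
    rw [Scheme.Hom.appLE, CommRingCat.hom_comp]
    refine (RingHom.ker_comp_of_injective _ ?_).symm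
    exact (ConcreteCategory.bijective_of_isIso ((Spec (CommRingCat.of P1.R0.{u})).presheaf.map
      (eqToHom (point_preimage i).symm).op)).1
  rw [hker, coordRatio_eq]
  let a2s := (Proj.basicOpenIsoAway P1.grading.{u} (P1.T i) (P1.X_mem i) one_pos).commRingCatIsoToRingEquiv
  refine Ideal.comap_injective_of_surjective a2s.toRingHom a2s.surjective |> fun _ => ?_
  refine le_antisymm (fun y hy => ?_) ((Ideal.span_singleton_le_iff_mem _).2 ?_)
  · obtain ⟨a, rfl⟩ := a2s.surjective y
    have h : (P1.point i).appLE (stdOpen 1 P1.R0 i) ⊤ (point_preimage i).ge (Proj.awayToSection P1.grading.{u} (P1.T i) a) =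
        (Scheme.ΓSpecIso (CommRingCat.of P1.R0.{u})).inv (P1.evalAway i a) := congr($(point_appLE i) a)
    have hy' : (P1.point i).appLE (stdOpen 1 P1.R0 i) ⊤ (point_preimage i).ge
        (Proj.awayToSection P1.grading.{u} (P1.T i) a) = 0 := hy
    rw [hy'] at h
    have ha : a ∈ RingHom.ker (P1.evalAway.{u} i) := (Scheme.ΓSpecIso (CommRingCat.of P1.R0.{u})).symm.commRingCatIsoToRingEquiv.injective
      (h.symm.trans (map_zero _).symm)
    rw [ker_evalAway, Ideal.mem_span_singleton'] at ha
    obtain ⟨b, rfl⟩ := ha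
    exact Ideal.mem_span_singleton'.2 ⟨a2s b, (map_mul a2s b _).symm⟩
  · rw [RingHom.mem_ker]
    refine (congr($(point_appLE i) (uElem i))).trans ?_
    show (Scheme.ΓSpecIso (CommRingCat.of P1.R0.{u})).inv (P1.evalAway i (uElem i)) = 0
    rw [RingHom.mem_ker.1 (uElem_mem_ker i), map_zero]

theorem range_point : Set.range (P1.point.{u} i) = ((stdOpen 1 P1.R0.{u} (otherIdx i) : Set _))ᶜ := by
  ext x
  constructor
  · rintro ⟨d, rfl⟩ hj
    have hi : P1.point i d ∈ stdOpen 1 P1.R0 i := (point_preimage i).ge (Opens.mem_top d)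
    have h1 : P1.point i d ∈ (CohB1.ProjSpace 1 P1.R0).basicOpen (coordRatio 1 P1.R0.{u} i (otherIdx i)) := by
      rw [AmpleEmb.basicOpen_coordRatio]
      exact ⟨hi, hj⟩
    have h2 : d ∈ P1.point i ⁻¹ᵁ (CohB1.ProjSpace 1 P1.R0).basicOpen (coordRatio 1 P1.R0.{u} i (otherIdx i)) := h1
    rw [Scheme.preimage_basicOpen,
      show (P1.point i).app (stdOpen 1 P1.R0 i) (coordRatio 1 P1.R0.{u} i (otherIdx i)) = 0 from
        RingHom.mem_ker.1 ((ker_point_app i).ge (Ideal.mem_span_singleton_self _)), Scheme.basicOpen_zero] at h2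
    exact h2
  · intro hx
    have hxi : x ∈ stdOpen 1 P1.R0 i := by
      obtain ⟨a, ha⟩ := Opens.mem_iSup.1 ((AmpleEmb.iSup_stdOpen 1 P1.R0.{u}).ge (Opens.mem_top x))
      rcases eq_or_eq_otherIdx i a with rfl | rfl
      · exact ha
      · exact absurd ha hx
    obtain ⟨P, rfl⟩ : x ∈ Set.range (Proj.awayι P1.grading.{u} (P1.T i) (P1.X_mem i) one_pos) := by
      have h := (Proj.opensRange_awayι P1.grading.{u} (P1.T i) (P1.X_mem i) one_pos).ge hxi
      exact h
    have hP : uElem.{u} i ∈ P.asIdeal := by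
      by_contra hu
      refine hx ?_
      have h : P ∈ Proj.awayι P1.grading.{u} (P1.T i) (P1.X_mem i) one_pos ⁻¹ᵁ
          Proj.basicOpen P1.grading (P1.T (otherIdx i)) := by
        rw [Proj.awayι_preimage_basicOpen P1.grading (P1.X_mem i) one_pos (P1.X_mem (otherIdx i)) one_pos]
        show HomogeneousLocalization.Away.isLocalizationElem (P1.X_mem i) (P1.X_mem (otherIdx i)) ∉ P.asIdeal
        convert hu using 2
        refine HomogeneousLocalization.val_injective _ ?_
        simp [HomogeneousLocalization.Away.isLocalizationElem, uElem]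
      exact h
    have hle : RingHom.ker (P1.evalAway.{u} i) ≤ P.asIdeal := by
      rw [ker_evalAway, Ideal.span_singleton_le_iff_mem]
      exact hP
    have hsurj : Function.Surjective (P1.evalAway.{u} i) := fun r => by
      refine ⟨HomogeneousLocalization.Away.mk _ (P1.X_mem i) 0 (MvPolynomial.C r) ?_, ?_⟩
      · exact (MvPolynomial.mem_homogeneousSubmodule _ _).2 (by rw [zero_smul]; exact MvPolynomial.isHomogeneous_C _ r)
      · rw [evalAway_mk']; simp
    obtain ⟨Q, hQ⟩ : P ∈ Set.range (PrimeSpectrum.comap (P1.evalAway.{u} i)) := by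
      rw [range_comap_of_surjective _ _ hsurj]
      exact hle
    exact ⟨Q, by rw [← hQ]; rfl⟩

theorem ker_point_stalk (d : Spec (CommRingCat.of P1.R0.{u})) :
    RingHom.ker ((P1.point i).stalkMap d).hom = Ideal.span {(CohB1.ProjSpace 1 P1.R0).presheaf.germ (stdOpen 1 P1.R0 i)
      (P1.point i d) ((point_preimage i).ge (Opens.mem_top d)) (coordRatio 1 P1.R0.{u} i (otherIdx i))} := by
  rw [RegIdealLib.ker_stalkMap (P1.point i) (AmpleEmb.isAffineOpen_stdOpen 1 P1.R0 i) inferInstance d
    ((point_preimage i).ge (Opens.mem_top d)), ker_point_app, Ideal.map_span, Set.image_singleton]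

variable (X : Scheme.{u})

/-- The projection to the line over the integers. -/
abbrev prZ : CohB1.ProjSpaceOver 1 X ⟶ CohB1.ProjSpace 1 P1.R0.{u} := pullback.fst _ _

/-- The line bundle. -/
abbrev lineBundle : (CohB1.ProjSpaceOver 1 X).Modules :=
  (Scheme.Modules.pullback (prZ X)).obj (Twist.twistProjSpace 1 P1.R0.{u} 1)

theorem isInvertible_lineBundle : PicF.IsInvertible (lineBundle X) :=
  AmpleLib.isInvertible_pullback _ (AmpleEmb.isInvertible_twistOne 1 P1.R0)

/-- The section cutting out `sect X i`. -/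
def sectEq : (lineBundle X).presheaf.obj (Opposite.op ⊤) :=
  sec (pullS (prZ X) (coordSec 1 P1.R0.{u} (otherIdx i)))

theorem sect_prZ : P1.sect X i ≫ prZ X = specULiftZIsTerminal.from X ≫ P1.point i := pullback.lift_fst _ _ _

theorem sect_toBase : P1.sect X i ≫ CohB1.ProjSpaceOver.toBase 1 X = 𝟙 X := pullback.lift_snd _ _ _

instance : IsClosedImmersion (P1.sect.{u} X i) := by
  haveI : IsClosedImmersion (P1.sect X i ≫ CohB1.ProjSpaceOver.toBase 1 X) := by
    rw [sect_toBase]; infer_instance
  haveI : IsSeparated (CohB1.ProjSpaceOver.toBase 1 X) :=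
    MorphismProperty.pullback_snd _ _ inferInstance
  exact IsClosedImmersion.of_comp (P1.sect X i) (CohB1.ProjSpaceOver.toBase 1 X)

/-- The section as a base change of the point. -/
def pullIso : pullback (prZ X) (P1.point.{u} i) ≅ X where
  hom := pullback.fst _ _ ≫ CohB1.ProjSpaceOver.toBase 1 X
  inv := pullback.lift (P1.sect X i) (specULiftZIsTerminal.from X) (sect_prZ i X)
  hom_inv_id := by
    apply pullback.hom_ext
    · rw [Category.assoc, Category.assoc, pullback.lift_fst, Category.id_comp]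
      apply pullback.hom_ext
      · rw [Category.assoc, Category.assoc, show P1.sect X i ≫ pullback.fst _ _ = _ from sect_prZ i X]
        refine Eq.trans ?_ pullback.condition.symm
        rw [← Category.assoc, ← Category.assoc]
        exact congrArg (· ≫ P1.point i) (specULiftZIsTerminal.hom_ext _ _)
      · rw [Category.assoc, Category.assoc, show P1.sect X i ≫ pullback.snd _ _ = _ from sect_toBase i X,
          Category.comp_id]
        rfl
    · exact specULiftZIsTerminal.hom_ext _ _
  inv_hom_id := by rw [pullback.lift_fst_assoc, sect_toBase]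

theorem pullIso_hom_sect : (pullIso i X).hom ≫ P1.sect X i = pullback.fst _ _ := by
  have := congrArg (fun φ => φ ≫ pullback.fst (prZ X) (P1.point.{u} i)) (pullIso i X).hom_inv_id
  simp only [Category.assoc, Category.id_comp] at this
  rwa [show (pullIso i X).inv ≫ pullback.fst (prZ X) (P1.point.{u} i) = P1.sect X i from pullback.lift_fst _ _ _] at this

theorem bijective_sec (x : CohB1.ProjSpaceOver 1 X) (a : Fin (1 + 1)) (hx : prZ X x ∈ stdOpen 1 P1.R0.{u} a) :
    Function.Bijective fun r : (CohB1.ProjSpaceOver 1 X).presheaf.stalk x =>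
      r • (lineBundle X).presheaf.germ ⊤ x trivial (sec (pullS (prZ X) (coordSec 1 P1.R0.{u} a))) := by
  refine (mem_genLocus_iff (isInvertible_lineBundle X)).1 ?_
  rw [genLocus_pullS _ (AmpleEmb.isInvertible_twistOne 1 P1.R0), AmpleEmb.genLocus_coordSec]
  exact hx

/-- The sections at `0` and `∞` are zero schemes. -/
theorem isZeroSchemeOf_sect : Cyc.IsZeroSchemeOf (P1.sect X i) (lineBundle X) (sectEq i X) := by
  refine CycLib.isZeroSchemeOf_iso (pullIso i X) (P1.sect X i) ?_
  rw [pullIso_hom_sect]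
  have hrange : Set.range (pullback.fst (prZ X) (P1.point.{u} i)) = prZ X ⁻¹' ((stdOpen 1 P1.R0.{u} (otherIdx i) : Set _))ᶜ := by
    rw [Scheme.Pullback.range_fst, range_point]
  refine ⟨?_, fun z => ?_⟩
  · rw [hrange]
    ext x
    constructor
    · intro hx
      show (Submodule.Quotient.mk _ : Cyc.secFibre (lineBundle X) x) = 0
      have hxi : prZ X x ∈ stdOpen 1 P1.R0 i := by
        obtain ⟨a, ha⟩ := Opens.mem_iSup.1 ((AmpleEmb.iSup_stdOpen 1 P1.R0.{u}).ge (Opens.mem_top (prZ X x)))
        rcases eq_or_eq_otherIdx i a with rfl | rfl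
        · exact ha
        · exact absurd ha hx
      rw [sectEq, AmpleEmb.coord_pullback_ratio (prZ X) i (otherIdx i) x hxi, Submodule.Quotient.mk_smul]
      refine (smul_mkF_eq_zero_iff (bijective_sec X x i hxi) _).2 ?_
      refine (IsLocalRing.residue_eq_zero_iff _).2 ?_
      rw [IsLocalRing.mem_maximalIdeal, mem_nonunits_iff,
        ← (CohB1.ProjSpaceOver 1 X).mem_basicOpen]
      rw [← Scheme.preimage_basicOpen, AmpleEmb.basicOpen_coordRatio]
      exact fun h => hx h.2
    · intro hx hj
      refine absurd hx fun hx => ?_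
      have h1 := (smul_mkF_eq_zero_iff (bijective_sec X x (otherIdx i) hj) 1).1 (by rw [one_smul]; exact hx)
      rw [map_one] at h1
      exact one_ne_zero h1
  · have hd := (point_preimage i).ge (Opens.mem_top (pullback.snd (prZ X) (P1.point.{u} i) z))
    have heq : prZ X (pullback.fst (prZ X) (P1.point.{u} i) z) = P1.point i (pullback.snd (prZ X) (P1.point.{u} i) z) :=
      congr($(pullback.condition (f := prZ X) (g := P1.point.{u} i)) z)
    have hxi : prZ X (pullback.fst (prZ X) (P1.point.{u} i) z) ∈ stdOpen 1 P1.R0 i := by rw [heq]; exact hd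
    refine ⟨_, _, Submodule.eq_top_iff'.2 fun m => Submodule.mem_span_singleton.2 ((bijective_sec X _ i hxi).2 m),
      AmpleEmb.coord_pullback_ratio (prZ X) i (otherIdx i) _ hxi, ?_⟩
    rw [CycLib.ker_stalkMap_fst (prZ X) (P1.point.{u} i) z (ker_point_stalk i _) (specializes_of_eq heq),
      TopCat.Presheaf.germ_stalkSpecializes_apply, Scheme.Hom.germ_stalkMap_apply]

end Groth.Agent.CycLib.P1Sect
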