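import Groth.Agent.CycLib.SpecDVR
import Groth.Agent.S1942
import Groth.Agent.S9501

/-! # Specialization of the cycle of a flat coherent module -/

set_option autoImplicit false
set_option backward.isDefEq.respectTransparency false
set_option linter.style.haveILetI false
set_option linter.unusedSectionVars false

universe u

open CategoryTheory CategoryTheory.Limits AlgebraicGeometry TopologicalSpace
open scoped Pointwise TensorProduct

noncomputable section

namespace Groth.Agent.CycLib.SpFlat

theorem smul_injective_of_flat {A M : Type u} [CommRing A] [AddCommGroup M] [Module A M] [Module.Flat A M] {r : A}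
    (hr : IsSMulRegular A r) : Function.Injective fun m : M => r • m := by
  have h := Module.Flat.lTensor_preserves_injective_linearMap (M := M) (LinearMap.lsmul A A r) hr
  have e : ∀ m : M, r • m = TensorProduct.rid A M ((LinearMap.lsmul A A r).lTensor M (m ⊗ₜ[A] (1 : A))) := fun m => by
    simp
  intro m m' hm
  have h2 : (TensorProduct.rid A M).symm m = (TensorProduct.rid A M).symm m' := by
    simp only [TensorProduct.rid_symm_apply]
    refine h ((TensorProduct.rid A M).injective ?_)
    rw [← e, ← e]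
    exact hm
  exact (TensorProduct.rid A M).symm.injective h2

variable (R : Type u) [CommRing R] [IsDomain R] [IsDiscreteValuationRing R]

theorem maximalIdeal_generic {s : ↥(Spec (CommRingCat.of R))} (hs : s = genericPoint ↥(Spec (CommRingCat.of R))) :
    IsLocalRing.maximalIdeal ((Spec (CommRingCat.of R)).presheaf.stalk s) = ⊥ := by
  subst hs
  exact IsLocalRing.isField_iff_maximalIdeal_eq.1 (Field.toIsField (Spec (CommRingCat.of R)).functionField)

theorem maximalIdeal_closed {s : ↥(Spec (CommRingCat.of R))} (hs : s = IsLocalRing.closedPoint R) :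
    ∃ t, IsLocalRing.maximalIdeal ((Spec (CommRingCat.of R)).presheaf.stalk s) = Ideal.span {t} ∧
      IsSMulRegular ((Spec (CommRingCat.of R)).presheaf.stalk s) t := by
  letI : Algebra (CommRingCat.of R) ((Spec (CommRingCat.of R)).presheaf.stalk s) :=
    StructureSheaf.stalkAlgebra (CommRingCat.of R) s
  haveI : IsLocalization.AtPrime ((Spec (CommRingCat.of R)).presheaf.stalk s) s.asIdeal :=
    StructureSheaf.IsLocalization.to_stalk (CommRingCat.of R) s
  obtain ⟨ϖ, hϖ⟩ := IsDiscreteValuationRing.exists_irreducible R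
  refine ⟨algebraMap (CommRingCat.of R) _ ϖ, ?_, ?_⟩
  · rw [← IsLocalization.AtPrime.map_eq_maximalIdeal s.asIdeal ((Spec (CommRingCat.of R)).presheaf.stalk s),
      show s.asIdeal = Ideal.span {ϖ} from (congrArg PrimeSpectrum.asIdeal hs).trans hϖ.maximalIdeal_eq,
      Ideal.map_span, Set.image_singleton]
  · refine fun a b hab => ?_
    have hinj : Function.Injective (algebraMap (CommRingCat.of R) ((Spec (CommRingCat.of R)).presheaf.stalk s)) :=
      IsLocalization.injective _ s.asIdeal.primeCompl_le_nonZeroDivisors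
    haveI : IsDomain ((Spec (CommRingCat.of R)).presheaf.stalk s) :=
      IsLocalization.isDomain_of_le_nonZeroDivisors _ s.asIdeal.primeCompl_le_nonZeroDivisors
    exact mul_left_cancel₀ (fun e => hϖ.ne_zero (hinj (e.trans (map_zero _).symm))) hab

variable {R}
variable {X : Scheme.{u}} (a : X ⟶ Spec (CommRingCat.of R)) (F : X.Modules)

theorem eq_generic {y : X} (h : a y ≠ IsLocalRing.closedPoint R) : a y = genericPoint ↥(Spec (CommRingCat.of R)) :=
  (dvr_points R (a y)).resolve_left h

theorem exists_fibre_point {s : ↥(Spec (CommRingCat.of R))} {y : X} (h : a y = s) :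
    ∃ z : ↥(a.fiber s), a.fiberι s z = y := by
  have : y ∈ Set.range (a.fiberι s) := by rw [Scheme.Hom.range_fiberι]; exact h
  exact this

theorem apply_fiberι (s : ↥(Spec (CommRingCat.of R))) (z : ↥(a.fiber s)) : a (a.fiberι s z) = s := by
  have : a.fiberι s z ∈ a ⁻¹' {s} := by rw [← Scheme.Hom.range_fiberι]; exact ⟨z, rfl⟩
  exact this

/-- The stalk of the restriction to the generic fibre. -/
theorem length_generic [Coh.IsQCoh F] (ζ : ↥(a.fiber (genericPoint ↥(Spec (CommRingCat.of R))))) :
    Module.length ((a.fiber (genericPoint ↥(Spec (CommRingCat.of R)))).presheaf.stalk ζ)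
        (((Scheme.Modules.pullback (a.fiberι (genericPoint ↥(Spec (CommRingCat.of R))))).obj F).presheaf.stalk ζ) =
      Module.length (X.presheaf.stalk (a.fiberι (genericPoint ↥(Spec (CommRingCat.of R))) ζ))
        (F.presheaf.stalk (a.fiberι (genericPoint ↥(Spec (CommRingCat.of R))) ζ)) := by
  let i := a.fiberι (genericPoint ↥(Spec (CommRingCat.of R)))
  obtain ⟨hsurj, hker⟩ := S9501.result a (genericPoint ↥(Spec (CommRingCat.of R))) ζ
  rw [maximalIdeal_generic R (apply_fiberι a _ ζ), Ideal.map_bot] at hker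
  letI := (i.stalkMap ζ).hom.toAlgebra
  obtain ⟨φ, -⟩ := PullbackMod.exists_pullback_stalk_equiv i F ζ
  rw [← φ.length_eq, Groth.Agent.S1942.length_baseChange_span (R := X.presheaf.stalk (i ζ))
    (S := (a.fiber (genericPoint ↥(Spec (CommRingCat.of R)))).presheaf.stalk ζ) hsurj (f := 0)
    (by rw [Ideal.span_singleton_eq_bot.2 rfl]; exact hker) (F.presheaf.stalk (i ζ))]
  exact (Submodule.quotEquivOfEqBot _ (by simp)).length_eq

/-- The stalk of the restriction to the closed fibre. -/
theorem length_closed [Coh.IsQCoh F] (x : ↥(a.fiber (IsLocalRing.closedPoint R))) :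
    ∃ t, IsLocalRing.maximalIdeal ((Spec (CommRingCat.of R)).presheaf.stalk (a (a.fiberι (IsLocalRing.closedPoint R) x))) =
        Ideal.span {t} ∧ IsSMulRegular
          ((Spec (CommRingCat.of R)).presheaf.stalk (a (a.fiberι (IsLocalRing.closedPoint R) x))) t ∧
      Module.length ((a.fiber (IsLocalRing.closedPoint R)).presheaf.stalk x)
          (((Scheme.Modules.pullback (a.fiberι (IsLocalRing.closedPoint R))).obj F).presheaf.stalk x) =
        Module.length (X.presheaf.stalk (a.fiberι (IsLocalRing.closedPoint R) x))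
          (F.presheaf.stalk (a.fiberι (IsLocalRing.closedPoint R) x) ⧸
            a.stalkMap (a.fiberι (IsLocalRing.closedPoint R) x) t •
              (⊤ : Submodule (X.presheaf.stalk (a.fiberι (IsLocalRing.closedPoint R) x))
                (F.presheaf.stalk (a.fiberι (IsLocalRing.closedPoint R) x)))) := by
  let i := a.fiberι (IsLocalRing.closedPoint R)
  obtain ⟨hsurj, hker⟩ := S9501.result a (IsLocalRing.closedPoint R) x
  obtain ⟨t, ht, hreg⟩ := maximalIdeal_closed R (apply_fiberι a _ x)
  refine ⟨t, ht, hreg, ?_⟩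
  rw [ht, Ideal.map_span, Set.image_singleton] at hker
  letI := (i.stalkMap x).hom.toAlgebra
  obtain ⟨φ, -⟩ := PullbackMod.exists_pullback_stalk_equiv i F x
  rw [← φ.length_eq, Groth.Agent.S1942.length_baseChange_span (R := X.presheaf.stalk (i x))
    (S := (a.fiber (IsLocalRing.closedPoint R)).presheaf.stalk x) hsurj hker (F.presheaf.stalk (i x))]

variable [IsLocallyNoetherian X] {δ : X → ℤ} (hδd : Cyc.IsDimFun X δ) {r : ℤ}
  (hδ : Cyc.DeltaCompat a δ (dvrDelta R)) {F}
  (hF : Coh.IsCoh F) (hflat : FlatMod.IsFlatOver a F)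

include hflat in
theorem injective_smul {y : X} {t : (Spec (CommRingCat.of R)).presheaf.stalk (a y)}
    (ht : IsSMulRegular ((Spec (CommRingCat.of R)).presheaf.stalk (a y)) t) :
    Function.Injective fun m : F.presheaf.stalk y => a.stalkMap y t • m := by
  letI := FlatMod.moduleStalkOver a F y
  haveI : Module.Flat ((Spec (CommRingCat.of R)).presheaf.stalk (a y)) (F.presheaf.stalk y) := hflat y
  exact smul_injective_of_flat (A := (Spec (CommRingCat.of R)).presheaf.stalk (a y)) ht

include hflat in
/-- Associated points of a flat module lie over the generic point. -/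
theorem generic_of_isAssPoint {v : X} (hv : Curv2.IsAssPoint F v) : a v = genericPoint ↥(Spec (CommRingCat.of R)) := by
  refine eq_generic a fun hc => ?_
  obtain ⟨t, ht, hreg⟩ := maximalIdeal_closed R hc
  have hmem : a.stalkMap v t ∈ IsLocalRing.maximalIdeal (X.presheaf.stalk v) := by
    have h := fibIdeal_le a v
    exact h (Ideal.mem_map_of_mem _ (by rw [ht]; exact Ideal.mem_span_singleton_self t))
  obtain ⟨hp, m, hm⟩ := hv
  have hm0 : m ≠ 0 := fun e => hp.ne_top (by
    rw [hm, e]
    exact Ideal.radical_eq_top.2 ((Submodule.colon_eq_top_iff_subset _).2 (by simp)))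
  rw [hm] at hmem
  obtain ⟨n, hn⟩ := hmem
  rw [Submodule.mem_colon_singleton, Submodule.mem_bot] at hn
  have hinj := injective_smul a hflat hreg
  clear hm
  revert hn
  induction n with
  | zero => intro hn; exact hm0 (by simpa using hn)
  | succ n ih =>
    intro hn
    rw [pow_succ', mul_smul] at hn
    exact ih (hinj (hn.trans (smul_zero _).symm))

variable (hdim : ∀ v : X, a v = genericPoint ↥(Spec (CommRingCat.of R)) → Nontrivial (F.presheaf.stalk v) → δ v ≤ r + 1)

include hδd hF hflat hdim in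
theorem exists_generic_above {w : X} (hw : Nontrivial (F.presheaf.stalk w)) :
    ∃ v, v ⤳ w ∧ a v = genericPoint ↥(Spec (CommRingCat.of R)) ∧ Nontrivial (F.presheaf.stalk v) ∧
      δ v ≤ r + 1 ∧ δ w ≤ δ v := by
  haveI := hF.1
  obtain ⟨v, hvw, hv⟩ := AssLib.exists_isAssPoint_of_nontrivial hw
  have hg := generic_of_isAssPoint a hflat hv
  have hn := AssLib.nontrivial_of_isAssPoint hv
  refine ⟨v, hvw, hg, hn, hdim v hg hn, ?_⟩
  rcases eq_or_ne v w with rfl | hne
  · exact le_rfl
  · exact (hδd v w hvw hne).1.le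

include hδd hδ hF hflat hdim in
theorem spFun_aux {δη : ↥(a.fiber (genericPoint ↥(Spec (CommRingCat.of R)))) → ℤ}
    (hδη : Cyc.DeltaCompat (a.fiberToSpecResidueField (genericPoint ↥(Spec (CommRingCat.of R)))) δη (fun _ => 0))
    (y : X) (hy : a y = IsLocalRing.closedPoint R) (hdy : δ y = r)
    {t : (Spec (CommRingCat.of R)).presheaf.stalk (a y)}
    (ht : IsLocalRing.maximalIdeal ((Spec (CommRingCat.of R)).presheaf.stalk (a y)) = Ideal.span {t})
    (hreg : IsSMulRegular ((Spec (CommRingCat.of R)).presheaf.stalk (a y)) t) :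
    (∑ᶠ ζ : {ζ : ↥(a.fiber (genericPoint ↥(Spec (CommRingCat.of R)))) //
        δη ζ = r ∧ a.fiberι (genericPoint ↥(Spec (CommRingCat.of R))) ζ ⤳ y},
      Cyc.sheafFun δη r ((Scheme.Modules.pullback (a.fiberι (genericPoint ↥(Spec (CommRingCat.of R))))).obj F) ζ.1 *
        ((Module.length (X.presheaf.stalk y)
          (Cyc.LocQuot y (a.fiberι (genericPoint ↥(Spec (CommRingCat.of R))) ζ.1) ζ.2.2 ⧸
            (IsLocalRing.maximalIdeal ((Spec (CommRingCat.of R)).presheaf.stalk (a y))).map
              ((Ideal.Quotient.mk (RingHom.ker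
                  (Cyc.specMap y (a.fiberι (genericPoint ↥(Spec (CommRingCat.of R))) ζ.1) ζ.2.2))).comp
                (a.stalkMap y).hom))).toNat : ℤ)) =
      ((Module.length (X.presheaf.stalk y) (F.presheaf.stalk y ⧸
        a.stalkMap y t • (⊤ : Submodule (X.presheaf.stalk y) (F.presheaf.stalk y)))).toNat : ℤ) := by
  classical
  haveI := hF.1
  set f := a.stalkMap y t with hfdef
  have hinj : Function.Injective fun m : F.presheaf.stalk y => f • m := injective_smul a hflat hreg
  haveI := finite_stalk hF y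
  have hnt : ∀ Q : PrimeSpectrum (X.presheaf.stalk y),
      Q ∈ Module.support (X.presheaf.stalk y) (F.presheaf.stalk y) ↔ Nontrivial (F.presheaf.stalk (X.fromSpecStalk y Q)) :=
    fun Q => by
    have := length_localized_stalk (F := F) Q
    rw [Module.mem_support_iff, ← not_subsingleton_iff_nontrivial, ← not_subsingleton_iff_nontrivial,
      ← Module.length_eq_zero_iff (R := Localization.AtPrime Q.asIdeal), this, Module.length_eq_zero_iff]
  have hne' : ∀ Q : PrimeSpectrum (X.presheaf.stalk y), Q.asIdeal ≠ IsLocalRing.maximalIdeal _ →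
      X.fromSpecStalk y Q ≠ y := fun Q hQ e => hQ (congrArg PrimeSpectrum.asIdeal
      ((X.fromSpecStalk y).isEmbedding.injective (e.trans Scheme.fromSpecStalk_closedPoint.symm)))
  have hprime : ∀ Q : PrimeSpectrum (X.presheaf.stalk y), Q ∈ Module.support (X.presheaf.stalk y) (F.presheaf.stalk y) →
      Q.asIdeal ≠ IsLocalRing.maximalIdeal _ →
      δ (X.fromSpecStalk y Q) = r + 1 ∧ a (X.fromSpecStalk y Q) = genericPoint ↥(Spec (CommRingCat.of R)) := by
    intro Q hQs hQ
    have h1 := (hδd _ _ (fromSpecStalk_specializes Q) (hne' Q hQ)).1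
    obtain ⟨v, hv, hg, -, hvr, hwv⟩ := exists_generic_above a hδd hF hflat hdim ((hnt Q).1 hQs)
    rw [hdy] at h1
    have heq : v = X.fromSpecStalk y Q := by
      by_contra hne
      have := (hδd _ _ hv hne).1
      omega
    rw [← heq] at h1 ⊢
    exact ⟨by omega, hg⟩
  have hkmin : ∀ Q Q' : PrimeSpectrum (X.presheaf.stalk y),
      Q ∈ Module.support (X.presheaf.stalk y) (F.presheaf.stalk y) → Q < Q' →
      Q'.asIdeal = IsLocalRing.maximalIdeal _ := by
    intro Q Q' hI h
    by_contra h'
    have hQ : Q.asIdeal ≠ IsLocalRing.maximalIdeal _ := fun e =>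
      (show Q.asIdeal < Q'.asIdeal from h).not_ge (e ▸ IsLocalRing.le_maximalIdeal Q'.2.ne_top)
    have h1 := (hδd _ _ ((fromSpecStalk_specializes_iff Q Q').2 h.le)
      ((X.fromSpecStalk y).isEmbedding.injective.ne h.ne)).1
    rw [(hprime Q hI hQ).1, (hprime Q' (Module.mem_support_mono h.le hI) h').1] at h1
    omega
  have hd1 : Module.supportDim (X.presheaf.stalk y) (F.presheaf.stalk y) ≤ 1 := by
    refine iSup_le fun l => ?_
    by_contra hl
    have hlen : 2 ≤ l.length := by
      by_contra h'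
      exact hl (by exact_mod_cast (show l.length ≤ 1 by omega))
    have h01 : l ⟨0, by omega⟩ < l ⟨1, by omega⟩ := l.strictMono (Fin.mk_lt_mk.2 zero_lt_one)
    have h12 : l ⟨1, by omega⟩ < l ⟨2, by omega⟩ := l.strictMono (Fin.mk_lt_mk.2 one_lt_two)
    exact (show (l ⟨1, by omega⟩).1.asIdeal < (l ⟨2, by omega⟩).1.asIdeal from h12).not_ge
      (hkmin _ _ (l ⟨0, by omega⟩).2 h01 ▸ IsLocalRing.le_maximalIdeal (l ⟨2, by omega⟩).1.2.ne_top)
  have hmap : (IsLocalRing.maximalIdeal ((Spec (CommRingCat.of R)).presheaf.stalk (a y))).map (a.stalkMap y).hom =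
      Ideal.span {f} := by
    rw [ht, Ideal.map_span, Set.image_singleton]
  have hnot : ∀ Q : PrimeSpectrum (X.presheaf.stalk y), Q ∈ Module.support (X.presheaf.stalk y) (F.presheaf.stalk y) →
      Q.asIdeal ≠ IsLocalRing.maximalIdeal _ → f ∉ Q.asIdeal := by
    intro Q hQ hne hfQ
    have h := (apply_fromSpecStalk_eq_iff a Q).2 (by
      show (IsLocalRing.maximalIdeal _).map (a.stalkMap y).hom ≤ Q.asIdeal
      rw [hmap, Ideal.span_singleton_le_iff_mem]
      exact hfQ)
    rw [(hprime Q hQ hne).2, hy] at h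
    exact dvr_generic_ne R h
  let Mf := F.presheaf.stalk y ⧸ f • (⊤ : Submodule (X.presheaf.stalk y) (F.presheaf.stalk y))
  have hsupp0 : ∀ Q ∈ Module.support (X.presheaf.stalk y) Mf, Q.asIdeal = IsLocalRing.maximalIdeal _ := by
    intro Q hQ
    change Q ∈ Module.support (X.presheaf.stalk y) (F.presheaf.stalk y ⧸ f • (⊤ : Submodule _ _)) at hQ
    rw [← Submodule.ideal_span_singleton_smul f ⊤, Module.support_quotient] at hQ
    obtain ⟨h1, h2⟩ := hQ
    rw [PrimeSpectrum.mem_zeroLocus, SetLike.coe_subset_coe, Ideal.span_singleton_le_iff_mem] at h2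
    by_contra hne
    exact hnot Q h1 hne h2
  have hd0 : Module.supportDim (X.presheaf.stalk y) Mf ≤ 0 := by
    haveI : Subsingleton (Module.support (X.presheaf.stalk y) Mf) := ⟨fun q q' =>
      Subtype.ext (PrimeSpectrum.ext ((hsupp0 q.1 q.2).trans (hsupp0 q'.1 q'.2).symm))⟩
    exact Order.krullDim_nonpos_of_subsingleton
  have hfin : IsFiniteLength (X.presheaf.stalk y) Mf := (S16234.result _ _).1 fun Q hQ => by
    rw [hsupp0 Q hQ]; infer_instance
  have key := S1833.result (X.presheaf.stalk y) (F.presheaf.stalk y) f hd1 hd0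
  rw [LinearMap.ker_eq_bot.2 (show Function.Injective (LinearMap.lsmul (X.presheaf.stalk y) (F.presheaf.stalk y) f) from hinj),
    show Module.length (X.presheaf.stalk y) (⊥ : Submodule (X.presheaf.stalk y) (F.presheaf.stalk y)) = 0 from
      Module.length_eq_zero, zero_add] at key
  let P : PrimeSpectrum (X.presheaf.stalk y) → Prop := fun Q =>
    Q ∈ Module.support (X.presheaf.stalk y) (F.presheaf.stalk y) ∧ Q.asIdeal ≠ IsLocalRing.maximalIdeal _
  let g : PrimeSpectrum (X.presheaf.stalk y) → ℕ∞ := fun Q =>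
    Ring.ord (X.presheaf.stalk y ⧸ Q.asIdeal) (Ideal.Quotient.mk Q.asIdeal f) *
      Module.length (Localization.AtPrime Q.asIdeal) (LocalizedModule Q.asIdeal.primeCompl (F.presheaf.stalk y))
  let J := Module.annihilator (X.presheaf.stalk y) (F.presheaf.stalk y)
  haveI : Finite {Q // P Q} := by
    haveI : Finite J.minimalPrimes := (Ideal.finite_minimalPrimes_of_isNoetherianRing _ J).to_subtype
    refine Finite.of_injective (β := J.minimalPrimes) (fun Q => ⟨Q.1.asIdeal, ?_⟩)
      fun Q Q' e => Subtype.ext (PrimeSpectrum.ext (congrArg (fun R : J.minimalPrimes => R.1) e))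
    refine ⟨⟨Q.1.2, Module.mem_support_iff_of_finite.1 Q.2.1⟩, fun R hR hRQ => ?_⟩
    rcases hRQ.lt_or_eq with h | h
    · exact absurd (hkmin ⟨R, hR.1⟩ Q.1 (Module.mem_support_iff_of_finite.2 hR.2) h) Q.2.2
    · exact h.ge
  haveI := Fintype.ofFinite {Q // P Q}
  have hg : (∑ᶠ (Q : PrimeSpectrum (X.presheaf.stalk y)) (_ : P Q), g Q) = ∑ Q : {Q // P Q}, g Q.1 := by
    rw [← finsum_subtype_eq_finsum_cond (f := g) P, finsum_eq_sum_of_fintype]
  rw [key.trans hg, ENat.toNat_sum]
  swap
  · intro Q _ htop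
    refine Module.length_ne_top_iff.2 hfin (key.trans (hg.trans (top_le_iff.1 ?_)))
    exact htop.symm.le.trans (Finset.single_le_sum (f := fun Q : {Q // P Q} => g Q.1) (fun _ _ => bot_le) (Finset.mem_univ Q))
  choose z hz using fun Q : {Q // P Q} => exists_fibre_point a (hprime Q.1 Q.2.1 Q.2.2).2
  have hzr : ∀ Q, δη (z Q) = r := fun Q => by
    have h := delta_fibre a hδ _ hδη (z Q)
    rw [hz, (hprime Q.1 Q.2.1 Q.2.2).1, dvrDelta_generic] at h
    omega
  let ι : {Q // P Q} ↪ {ζ : ↥(a.fiber (genericPoint ↥(Spec (CommRingCat.of R)))) //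
      δη ζ = r ∧ a.fiberι (genericPoint ↥(Spec (CommRingCat.of R))) ζ ⤳ y} :=
    ⟨fun Q => ⟨z Q, hzr Q, by rw [hz]; exact fromSpecStalk_specializes _⟩, fun Q Q' e =>
      Subtype.ext ((X.fromSpecStalk y).isEmbedding.injective ((hz Q).symm.trans ((congrArg (a.fiberι _) (congrArg Subtype.val e)).trans (hz Q'))))⟩
  rw [finsum_eq_sum_of_support_subset _ (s := Finset.univ.map ι) ?_, Finset.sum_map, Nat.cast_sum]
  swap
  · rintro ⟨ζ, hζr, hζy⟩ hne
    have hne1 := left_ne_zero_of_mul hne
    obtain ⟨Q, hQ⟩ := exists_fromSpecStalk hζy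
    have hn : Nontrivial (F.presheaf.stalk (X.fromSpecStalk y Q)) := by
      by_contra hc
      refine hne1 ?_
      rw [hQ, not_nontrivial_iff_subsingleton] at hc
      rw [Cyc.sheafFun, if_pos hζr, length_generic a F ζ, Module.length_eq_zero]
      rfl
    have hQm : Q.asIdeal ≠ IsLocalRing.maximalIdeal _ := fun e => by
      have hg := apply_fiberι a _ ζ
      rw [← hQ, show Q = IsLocalRing.closedPoint _ from PrimeSpectrum.ext e, Scheme.fromSpecStalk_closedPoint, hy] at hg
      exact dvr_generic_ne R hg.symm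
    refine Finset.mem_coe.2 (Finset.mem_map.2 ⟨⟨Q, (hnt Q).2 hn, hQm⟩, Finset.mem_univ _, Subtype.ext ?_⟩)
    exact (a.fiberι _).isEmbedding.injective ((hz _).trans hQ)
  refine Finset.sum_congr rfl fun Q _ => ?_
  have key2 : ∀ (w : X) (hw : w ⤳ y), w = X.fromSpecStalk y Q.1 →
      ((Module.length (X.presheaf.stalk w) (F.presheaf.stalk w)).toNat : ℤ) *
        ((Module.length (X.presheaf.stalk y) (Cyc.LocQuot y w hw ⧸
          (IsLocalRing.maximalIdeal ((Spec (CommRingCat.of R)).presheaf.stalk (a y))).map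
            ((Ideal.Quotient.mk (RingHom.ker (Cyc.specMap y w hw))).comp (a.stalkMap y).hom))).toNat : ℤ) =
        ((g Q.1).toNat : ℤ) := by
    rintro w hw rfl
    have hk := ker_specMap_eq Q.1 hw
    rw [← Ideal.map_map, hmap, Ideal.map_span, Set.image_singleton]
    simp only [g]
    rw [ENat.toNat_mul, length_localized_stalk, Nat.cast_mul, mul_comm]
    congr 3
    rw [show Ideal.Quotient.mk Q.1.asIdeal f = Ideal.quotEquivOfEq hk (Ideal.Quotient.mk _ f) from
      (Ideal.quotEquivOfEq_mk hk f).symm, TameLib.ord_ringEquiv, Ring.ord]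
    exact Module.length_eq_of_surjective Ideal.Quotient.mk_surjective
  rw [show Cyc.sheafFun δη r ((Scheme.Modules.pullback (a.fiberι (genericPoint ↥(Spec (CommRingCat.of R))))).obj F)
      (ι Q).1 = ((Module.length (X.presheaf.stalk (a.fiberι (genericPoint ↥(Spec (CommRingCat.of R))) (ι Q).1))
        (F.presheaf.stalk (a.fiberι (genericPoint ↥(Spec (CommRingCat.of R))) (ι Q).1))).toNat : ℤ) from by
    rw [Cyc.sheafFun, if_pos (ι Q).2.1, length_generic a F]]
  exact key2 _ _ (hz Q)

include hδd hδ hF hflat hdim in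
/-- The specialization of the cycle of the generic fibre. -/
theorem spFun_eq {δη : ↥(a.fiber (genericPoint ↥(Spec (CommRingCat.of R)))) → ℤ}
    {δs : ↥(a.fiber (IsLocalRing.closedPoint R)) → ℤ}
    (hδη : Cyc.DeltaCompat (a.fiberToSpecResidueField (genericPoint ↥(Spec (CommRingCat.of R)))) δη (fun _ => 0))
    (hδs : Cyc.DeltaCompat (a.fiberToSpecResidueField (IsLocalRing.closedPoint R)) δs (fun _ => 0))
    (x : ↥(a.fiber (IsLocalRing.closedPoint R))) :
    Cyc.spFun a (genericPoint ↥(Spec (CommRingCat.of R))) (IsLocalRing.closedPoint R) δη δs r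
        (Cyc.sheafFun δη r ((Scheme.Modules.pullback (a.fiberι (genericPoint ↥(Spec (CommRingCat.of R))))).obj F)) x =
      Cyc.sheafFun δs r ((Scheme.Modules.pullback (a.fiberι (IsLocalRing.closedPoint R))).obj F) x := by
  classical
  haveI := hF.1
  unfold Cyc.spFun
  by_cases hx : δs x = r
  swap
  · rw [if_neg hx, Cyc.sheafFun, if_neg hx]
  rw [if_pos hx, Cyc.sheafFun, if_pos hx]
  obtain ⟨t, ht, hreg, hlen⟩ := length_closed a F x
  rw [hlen]
  exact spFun_aux a hδd hδ hF hflat hdim hδη _ (apply_fiberι a _ x)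
    (by rw [delta_fibre a hδ _ hδs x, dvrDelta_closed, add_zero, hx]) ht hreg

end Groth.Agent.CycLib.SpFlat
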