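import Groth.Agent.TameLib.Laws
import Groth.Agent.TameLib.FlatBase

/-! # The tame symbol on fractions -/

set_option autoImplicit false
set_option linter.style.haveILetI false
set_option linter.unusedSectionVars false
universe u

open IsLocalRing nonZeroDivisors

noncomputable section

namespace Groth.Agent.CycLib

variable {A : Type u} [CommRing A] [IsLocalRing A] [IsNoetherianRing A] [Ring.KrullDimLE 1 A] [IsDomain A]

/-- Length of `A/aA`. -/
abbrev ordN (a : A) : ℕ := (Module.length A (A ⧸ Ideal.span {a})).toNat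

theorem tame_skew_unit (u : Aˣ) (a : A) (ha : a ≠ 0) :
    CycAlg.tameSymbol A a u = (CycAlg.tameSymbol A (u : A) a)⁻¹ := by
  have ha' := mem_nonZeroDivisors_of_ne_zero ha
  have hu := u.isUnit.mem_nonZeroDivisors
  have hau := mem_nonZeroDivisors_of_ne_zero (mul_ne_zero ha u.ne_zero)
  have h0 : ordN (a * (u : A)) = ordN a := by
    rw [ordN, Ideal.span_singleton_mul_right_unit u.isUnit]
  have h1 := TameLib.tameSymbol_self _ hau
  rw [(TameLib.tameSymbol_mul a (u : A) (a * u) ha' hu hau).1, (TameLib.tameSymbol_mul a (u : A) a ha' hu ha').2,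
    (TameLib.tameSymbol_mul a (u : A) (u : A) ha' hu hu).2, TameLib.tameSymbol_self a ha',
    TameLib.tameSymbol_unit u (u : A) hu] at h1
  rw [Ideal.span_singleton_mul_right_unit u.isUnit, Ideal.span_singleton_eq_top.2 u.isUnit] at h1
  haveI : Subsingleton (A ⧸ (⊤ : Ideal A)) := Ideal.Quotient.subsingleton_iff.2 rfl
  rw [Module.length_eq_zero (R := A) (M := A ⧸ (⊤ : Ideal A)), ENat.toNat_zero, pow_zero, mul_one, mul_assoc] at h1
  exact eq_inv_of_mul_eq_one_left (mul_left_cancel₀ (pow_ne_zero _ (neg_ne_zero.2 one_ne_zero)) (h1.trans (mul_one _).symm))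

theorem tame_unit_unit (u v : Aˣ) : CycAlg.tameSymbol A (u : A) (v : A) = 1 :=
  TameLib.tameSymbol_eq_one_of_units u.isUnit v.isUnit

/-- The symbol of the fractions `a/c` and `b/d`. -/
def tameF (a c b d : A) : ResidueField A :=
  CycAlg.tameSymbol A a b * CycAlg.tameSymbol A c d / (CycAlg.tameSymbol A a d * CycAlg.tameSymbol A c b)

theorem tameF_ne_zero {a c b d : A} (ha : a ≠ 0) (hc : c ≠ 0) (hb : b ≠ 0) (hd : d ≠ 0) : tameF a c b d ≠ 0 := by
  have h : ∀ {x y : A}, x ≠ 0 → y ≠ 0 → CycAlg.tameSymbol A x y ≠ 0 := fun hx hy =>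
    TameLib.tameSymbol_ne_zero _ _ (mem_nonZeroDivisors_of_ne_zero hx) (mem_nonZeroDivisors_of_ne_zero hy)
  exact div_ne_zero (mul_ne_zero (h ha hb) (h hc hd)) (mul_ne_zero (h ha hd) (h hc hb))

theorem tameF_congr {a c b d a' c' b' d' : A} (ha : a ≠ 0) (hc : c ≠ 0) (hb : b ≠ 0) (hd : d ≠ 0)
    (ha' : a' ≠ 0) (hc' : c' ≠ 0) (hb' : b' ≠ 0) (hd' : d' ≠ 0)
    (e₁ : a * c' = a' * c) (e₂ : b * d' = b' * d) : tameF a c b d = tameF a' c' b' d' := by
  have hne : ∀ {x y : A}, x ≠ 0 → y ≠ 0 → CycAlg.tameSymbol A x y ≠ 0 := fun hx hy =>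
    TameLib.tameSymbol_ne_zero _ _ (mem_nonZeroDivisors_of_ne_zero hx) (mem_nonZeroDivisors_of_ne_zero hy)
  have hL : ∀ {x y : A} (z : A), x ≠ 0 → y ≠ 0 → z ≠ 0 → CycAlg.tameSymbol A (x * y) z =
      CycAlg.tameSymbol A x z * CycAlg.tameSymbol A y z := fun z hx hy hz =>
    (TameLib.tameSymbol_mul _ _ z (mem_nonZeroDivisors_of_ne_zero hx) (mem_nonZeroDivisors_of_ne_zero hy)
      (mem_nonZeroDivisors_of_ne_zero hz)).1
  have hR : ∀ {x y : A} (z : A), x ≠ 0 → y ≠ 0 → z ≠ 0 → CycAlg.tameSymbol A z (x * y) =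
      CycAlg.tameSymbol A z x * CycAlg.tameSymbol A z y := fun z hx hy hz =>
    (TameLib.tameSymbol_mul _ _ z (mem_nonZeroDivisors_of_ne_zero hx) (mem_nonZeroDivisors_of_ne_zero hy)
      (mem_nonZeroDivisors_of_ne_zero hz)).2
  have left : ∀ z, z ≠ 0 → CycAlg.tameSymbol A a z / CycAlg.tameSymbol A c z =
      CycAlg.tameSymbol A a' z / CycAlg.tameSymbol A c' z := fun z hz => by
    rw [div_eq_div_iff (hne hc hz) (hne hc' hz), ← hL z ha hc' hz, e₁, hL z ha' hc hz]
  have right : ∀ z, z ≠ 0 → CycAlg.tameSymbol A z b / CycAlg.tameSymbol A z d =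
      CycAlg.tameSymbol A z b' / CycAlg.tameSymbol A z d' := fun z hz => by
    rw [div_eq_div_iff (hne hz hd) (hne hz hd'), ← hR z hb hd' hz, e₂, hR z hb' hd hz]
  calc tameF a c b d
      = CycAlg.tameSymbol A a b / CycAlg.tameSymbol A c b / (CycAlg.tameSymbol A a d / CycAlg.tameSymbol A c d) := by
        rw [div_div_div_eq, tameF, mul_comm (CycAlg.tameSymbol A c b)]
    _ = CycAlg.tameSymbol A a' b / CycAlg.tameSymbol A c' b / (CycAlg.tameSymbol A a' d / CycAlg.tameSymbol A c' d) := by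
        rw [left b hb, left d hd]
    _ = CycAlg.tameSymbol A a' b / CycAlg.tameSymbol A a' d / (CycAlg.tameSymbol A c' b / CycAlg.tameSymbol A c' d) := by
        rw [div_div_div_comm]
    _ = CycAlg.tameSymbol A a' b' / CycAlg.tameSymbol A a' d' / (CycAlg.tameSymbol A c' b' / CycAlg.tameSymbol A c' d') := by
        rw [right a' ha', right c' hc']
    _ = tameF a' c' b' d' := by rw [div_div_div_eq, tameF, mul_comm (CycAlg.tameSymbol A a' d')]

/-- Multiplying the fractions by units. -/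
theorem tameF_unit {a c b d : A} (ha : a ≠ 0) (hc : c ≠ 0) (hb : b ≠ 0) (hd : d ≠ 0) (u v : Aˣ) :
    tameF (u * a) c (v * b) d =
      tameF a c b d * residue A (u : A) ^ ((ordN b : ℤ) - ordN d) * residue A (v : A) ^ ((ordN c : ℤ) - ordN a) := by
  have hm : ∀ {x : A}, x ≠ 0 → x ∈ A⁰ := fun h => mem_nonZeroDivisors_of_ne_zero h
  have hu0 : residue A (u : A) ≠ 0 := (residue_ne_zero_iff_isUnit _).2 u.isUnit
  have hv0 : residue A (v : A) ≠ 0 := (residue_ne_zero_iff_isUnit _).2 v.isUnit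
  have hL : ∀ {y : A}, y ≠ 0 → CycAlg.tameSymbol A (u : A) y = residue A (u : A) ^ (ordN y : ℤ) := fun hy => by
    rw [zpow_natCast]
    exact TameLib.tameSymbol_unit u _ (hm hy)
  have hR : ∀ {y : A}, y ≠ 0 → CycAlg.tameSymbol A y (v : A) = (residue A (v : A) ^ (ordN y : ℤ))⁻¹ := fun hy => by
    rw [zpow_natCast, tame_skew_unit v _ hy, TameLib.tameSymbol_unit v _ (hm hy)]
  have e1 := (TameLib.tameSymbol_mul (u : A) a (↑v * b) u.isUnit.mem_nonZeroDivisors (hm ha)
    (hm (mul_ne_zero v.ne_zero hb))).1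
  have e2 := (TameLib.tameSymbol_mul (v : A) b (u : A) v.isUnit.mem_nonZeroDivisors (hm hb)
    u.isUnit.mem_nonZeroDivisors).2
  have e3 := (TameLib.tameSymbol_mul (v : A) b a v.isUnit.mem_nonZeroDivisors (hm hb) (hm ha)).2
  have e4 := (TameLib.tameSymbol_mul (u : A) a d u.isUnit.mem_nonZeroDivisors (hm ha) (hm hd)).1
  have e5 := (TameLib.tameSymbol_mul (v : A) b c v.isUnit.mem_nonZeroDivisors (hm hb) (hm hc)).2
  rw [tameF, tameF, e1, e2, e3, e4, e5, tame_unit_unit, one_mul, hL hb, hL hd, hR ha, hR hc,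
    zpow_sub₀ hu0, zpow_sub₀ hv0, div_eq_mul_inv, div_eq_mul_inv, div_eq_mul_inv, div_eq_mul_inv]
  simp only [mul_inv, inv_inv]
  ring

end Groth.Agent.CycLib
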